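import Cfsg.Agent.Lib.Solv.SelfThree.Extension

/-!
Above the alternating group of degree five the kernel is an elementary abelian two-group.
-/

set_option autoImplicit false

open scoped IsMulCommutative

namespace Cfsg.Agent.Solv.SelfThree

universe u

theorem Base.quotient {G : Type u} [Group G] [Finite G] {x : G} {N : Subgroup G} (h : Base x N)
    (Z : Subgroup G) [Z.Normal] (hZ : Z ≤ N) :
    Base (QuotientGroup.mk x : G ⧸ Z) (N.map (QuotientGroup.mk' Z)) := by
  haveI := h.normal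
  refine
    { toSetup := h.toSetup.quotient fun e => h.miss (hZ e)
      normal := Subgroup.Normal.map h.normal _ (QuotientGroup.mk'_surjective Z)
      miss := fun e => ?_
      greatest := fun M hM hx => ?_ }
  · obtain ⟨n, hn, e⟩ := e
    have e' : (n : G ⧸ Z) = (x : G ⧸ Z) := e
    rw [QuotientGroup.eq] at e'
    exact h.miss (by simpa using N.mul_mem hn (hZ e'))
  · haveI := hM
    rw [← Subgroup.map_comap_eq_self_of_surjective (QuotientGroup.mk'_surjective Z) M]
    exact Subgroup.map_mono (h.greatest _ inferInstance fun e => hx e)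

/-- Commutator of two elements. -/
def cm {G : Type u} [Group G] (a b : G) : G := a * b * a⁻¹ * b⁻¹

theorem cm_map {G : Type u} [Group G] (g a b : G) :
    g * cm a b * g⁻¹ = cm (g * a * g⁻¹) (g * b * g⁻¹) := by
  simp only [cm]; group

theorem el_ab : ∀ (n : ℕ) {G : Type u} [Group G] [Finite G] {x : G} {N : Subgroup G} [N.Normal],
    Base x N → Nat.card G = n → Nonempty (G ⧸ N ≃* alternatingGroup (Fin 5)) →
    (∀ a ∈ N, ∀ b ∈ N, a * b = b * a) ∧ ∀ a ∈ N, a * a = 1 := by
  intro n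
  induction n using Nat.strong_induction_on with
  | _ n ih =>
    intro G _ _ x N _ h hn he
    obtain ⟨e⟩ := he
    by_cases hN1 : N = ⊥
    · subst hN1
      refine ⟨fun a ha b _ => ?_, fun a ha => ?_⟩ <;> rw [Subgroup.mem_bot] at ha <;> simp [ha]
    classical
    have hy := h.toSetup.quotient (N := N) h.miss
    obtain ⟨q, U, W, -, hyU, hyW, hUW, hU1, -, hUn, hWn, hqU, -, hU2, hW2, hcovQ⟩ :=
      AFive.exists_data e hy.pow_three hy.ne_one
    obtain ⟨⟨tb, htb⟩, htb1⟩ := Subgroup.ne_bot_iff_exists_ne_one.1 hU1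
    obtain ⟨t, rfl⟩ := QuotientGroup.mk_surjective tb
    obtain ⟨g, rfl⟩ := QuotientGroup.mk_surjective q
    set t' := g * t * g⁻¹ with ht'
    have ht'W : (t' : G ⧸ N) ∈ W := by
      simp only [ht', QuotientGroup.mk_mul, QuotientGroup.mk_inv]
      exact hqU _ htb
    have htne : (t : G ⧸ N) ≠ 1 := fun e' => htb1 (Subtype.ext e')
    have ht'ne : (t' : G ⧸ N) ≠ 1 := fun e' => htne (by
      simp only [ht', QuotientGroup.mk_mul, QuotientGroup.mk_inv] at e'
      exact conj_eq_one_iff.1 e')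
    have mkFour : ∀ (U : Subgroup (G ⧸ N)) (s : G), (QuotientGroup.mk x : G ⧸ N) ∉ U →
        (∀ u ∈ U, (QuotientGroup.mk x : G ⧸ N) * u * (QuotientGroup.mk x)⁻¹ ∈ U) →
        (∀ u ∈ U, u * u = 1) → (s : G ⧸ N) ∈ U → (s : G ⧸ N) ≠ 1 → Four x N s := by
      intro U s hyU hUn hU2 hs hs1
      refine ⟨fun e' => hs1 ((QuotientGroup.eq_one_iff s).2 e'), (QuotientGroup.eq_one_iff _).1 ?_,
        (QuotientGroup.eq_one_iff _).1 ?_⟩
      · rw [QuotientGroup.mk_mul]; exact hU2 _ hs
      · simp only [QuotientGroup.mk_mul, QuotientGroup.mk_inv]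
        exact four_data hy hyU hUn hU2 hs
    have four : Four x N t := mkFour U t hyU hUn hU2 htb htne
    have four' : Four x N t' := mkFour W t' hyW hWn hW2 ht'W ht'ne
    -- covering
    have hcov : ∀ C : Subgroup G, N ≤ C → (∀ a ∈ C, x * a * x⁻¹ ∈ C) → t ∈ C → t' ∈ C →
        ∃ y ∈ C, y ∉ N ∧ y ^ 3 ∈ N := by
      intro C _ hCx htC ht'C
      by_cases h3 : 3 ∣ Nat.card (C.map (QuotientGroup.mk' N))
      · haveI : Fact (Nat.Prime 3) := ⟨Nat.prime_three⟩
        obtain ⟨⟨_, y, hyC, rfl⟩, hy3⟩ := exists_prime_orderOf_dvd_card' 3 h3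
        replace hy3 : orderOf (QuotientGroup.mk' N y) = 3 :=
          (orderOf_injective (Subgroup.subtype _) Subtype.val_injective _).trans hy3
        refine ⟨y, hyC, fun e' => ?_, (QuotientGroup.eq_one_iff _).1 ?_⟩
        · rw [show QuotientGroup.mk' N y = 1 from (QuotientGroup.eq_one_iff y).2 e', orderOf_one] at hy3
          omega
        · rw [QuotientGroup.mk_pow]
          have := pow_orderOf_eq_one (QuotientGroup.mk' N y)
          rwa [hy3] at this
      · exfalso
        rcases hcovQ _ (by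
          rintro _ ⟨a, ha, rfl⟩
          exact ⟨_, hCx a ha, by simp⟩) h3 with hle | hle
        · have : (t' : G ⧸ N) ∈ U ⊓ W := ⟨hle ⟨t', ht'C, rfl⟩, ht'W⟩
          rw [hUW, Subgroup.mem_bot] at this
          exact ht'ne this
        · have : (t : G ⧸ N) ∈ U ⊓ W := ⟨htb, hle ⟨t, htC, rfl⟩⟩
          rw [hUW, Subgroup.mem_bot] at this
          exact htne this
    -- the centre
    set Z := (Subgroup.center N).map N.subtype with hZdef
    haveI hZn : Z.Normal := center_map_normal N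
    have hS : Sect x N Z := h.center_sect
    have hZN : Z ≤ N := Subgroup.map_subtype_le _
    have hZ2 := hS.exp_two four
    have hZc : ∀ z ∈ Z, ∀ a ∈ N, Commute a z := fun z hz a ha => hS.cent_N a ha z hz
    have hZ1 : Z ≠ ⊥ := fun e' => hN1 (h.center_eq_bot fun v hv => Subgroup.mem_bot.1 (e' ▸ hv))
    -- the quotient by the centre
    have hB := h.quotient Z hZN
    set π := QuotientGroup.mk' Z with hπ
    haveI : (N.map π).Normal := hB.normal
    have hlt : Nat.card (G ⧸ Z) < n := by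
      rw [← hn, Subgroup.card_eq_card_quotient_mul_card_subgroup Z]
      exact lt_mul_of_one_lt_right Nat.card_pos ((Subgroup.one_lt_card_iff_ne_bot _).2 hZ1)
    obtain ⟨hbc, hb2⟩ := ih _ hlt hB rfl
      ⟨(QuotientGroup.quotientQuotientEquivQuotient Z N hZN).trans e⟩
    have hSb : Sect (QuotientGroup.mk x : G ⧸ Z) (N.map π) (N.map π) :=
      { toBase := hB
        vnormal := hB.normal
        comm := ⟨⟨fun a b => Subtype.ext (hbc _ a.2 _ b.2)⟩⟩
        nx := hB.miss
        cent_N := fun a ha b hb => hbc a ha b hb }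
    have hmem : ∀ a : G, π a ∈ N.map π ↔ a ∈ N := fun a => by
      refine ⟨fun ⟨b, hb, e'⟩ => ?_, fun ha => ⟨a, ha, rfl⟩⟩
      have e'' : (b : G ⧸ Z) = (a : G ⧸ Z) := e'
      rw [QuotientGroup.eq] at e''
      simpa using N.mul_mem hb (hZN e'')
    have bFour : ∀ s, Four x N s → Four (QuotientGroup.mk x : G ⧸ Z) (N.map π) (π s) := fun s hs =>
      ⟨fun e' => hs.not_mem ((hmem s).1 e'), by rw [← map_mul]; exact ⟨_, hs.sq, rfl⟩,
        ⟨_, hs.prod, by simp [hπ]⟩⟩
    have bcov : ∀ C : Subgroup (G ⧸ Z), N.map π ≤ C →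
        (∀ a ∈ C, (QuotientGroup.mk x : G ⧸ Z) * a * (QuotientGroup.mk x)⁻¹ ∈ C) →
        π t ∈ C → π g * π t * (π g)⁻¹ ∈ C → ∃ y ∈ C, y ∉ N.map π ∧ y ^ 3 ∈ N.map π := by
      intro C hNC hCx htC ht'C
      obtain ⟨y, hyC, hyN, hy3⟩ := hcov (C.comap π) (fun a ha => hNC ⟨a, ha, rfl⟩)
        (fun a ha => by
          show π (x * a * x⁻¹) ∈ C
          rw [map_mul, map_mul, map_inv]; exact hCx _ ha)
        htC (by show π t' ∈ C; rw [ht', map_mul, map_mul, map_inv]; exact ht'C)
      exact ⟨π y, hyC, fun e' => hyN ((hmem y).1 e'), ⟨_, hy3, map_pow π y 3⟩⟩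
    obtain ⟨hsurj, hdec⟩ := hSb.decomp (π g) (bFour t four)
      (by rw [← map_inv, ← map_mul, ← map_mul]; exact bFour t' four') bcov
    -- commutators
    have hcZ : ∀ a ∈ N, ∀ b ∈ N, cm a b ∈ Z := fun a ha b hb => by
      rw [← QuotientGroup.eq_one_iff]
      show π (cm a b) = 1
      simp only [cm, map_mul, map_inv]
      rw [hbc _ ⟨a, ha, rfl⟩ _ ⟨b, hb, rfl⟩, mul_inv_cancel_right, mul_inv_cancel]
    have hcen : ∀ z ∈ Z, ∀ a ∈ N, a * z * a⁻¹ = z := fun z hz a ha => by
      rw [(hZc z hz a ha).eq, mul_inv_cancel_right]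
    have hmulL : ∀ a ∈ N, ∀ a' ∈ N, ∀ b ∈ N, cm (a * a') b = cm a' b * cm a b := fun a ha a' ha' b hb => by
      calc cm (a * a') b = a * cm a' b * a⁻¹ * cm a b := by simp only [cm]; group
        _ = _ := by rw [hcen _ (hcZ a' ha' b hb) a ha]
    have hmulR : ∀ a ∈ N, ∀ b ∈ N, ∀ b' ∈ N, cm a (b * b') = cm a b * cm a b' := fun a ha b hb b' hb' => by
      calc cm a (b * b') = cm a b * (b * cm a b' * b⁻¹) := by simp only [cm]; group
        _ = _ := by rw [hcen _ (hcZ a ha b' hb') b hb]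
    have hcongrL : ∀ a ∈ N, ∀ a' ∈ N, π a = π a' → ∀ b ∈ N, cm a b = cm a' b := fun a ha a' ha' e' b hb => by
      have hz : a⁻¹ * a' ∈ Z := QuotientGroup.eq.1 e'
      calc cm a b = cm (a⁻¹ * a') b * cm a b := by
            rw [show cm (a⁻¹ * a') b = 1 by
              rw [cm, ← (hZc _ hz b hb).eq, mul_inv_cancel_right, mul_inv_cancel], one_mul]
        _ = cm (a * (a⁻¹ * a')) b := (hmulL a ha _ (N.mul_mem (N.inv_mem ha) ha') b hb).symm
        _ = _ := by rw [mul_inv_cancel_left]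
    have hcongrR : ∀ b ∈ N, ∀ b' ∈ N, π b = π b' → ∀ a ∈ N, cm a b = cm a b' := fun b hb b' hb' e' a ha => by
      have hz : b⁻¹ * b' ∈ Z := QuotientGroup.eq.1 e'
      calc cm a b = cm a b * cm a (b⁻¹ * b') := by
            rw [show cm a (b⁻¹ * b') = 1 by
              rw [cm, (hZc _ hz a ha).eq, mul_inv_cancel_right, mul_inv_cancel], mul_one]
        _ = cm a (b * (b⁻¹ * b')) := (hmulR a ha b hb _ (N.mul_mem (N.inv_mem hb) hb')).symm
        _ = _ := by rw [mul_inv_cancel_left]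
    have hNc : ∀ s : G, ∀ a ∈ N, s * a * s⁻¹ ∈ N := fun s a ha => h.normal.conj_mem a ha s
    -- the fixed points modulo the centre
    have hfix : ∀ s, Four x N s → ∀ a ∈ N, π a ∈ fixIn (N.map π) (π s) → ∀ b ∈ N,
        cm a b * (s * cm a b * s⁻¹) = cm a (b * (s * b * s⁻¹)) := by
      intro s hs a ha haf b hb
      have e1 : π (s * a * s⁻¹) = π a := by
        rw [map_mul, map_mul, map_inv, (mem_fixIn.1 haf).2.eq, mul_inv_cancel_right]
      rw [cm_map, hcongrL _ (hNc s a ha) a ha e1 _ (hNc s b hb), hmulR a ha b hb _ (hNc s b hb)]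
    have hfixinv : ∀ s, Four x N s → ∀ a ∈ N, π a ∈ fixIn (N.map π) (π s) →
        π (x * a * x⁻¹) ∈ fixIn (N.map π) (π s) := fun s hs a _ haf => by
      rw [map_mul, map_mul, map_inv]
      exact hSb.fix_inv (bFour s hs) haf
    have hEE : ∀ s, Four x N s →
        (∀ e ∈ fixIn (N.map π) (π s), ∃ b ∈ N.map π, b * (π s * b * (π s)⁻¹) = e) →
        ∀ a ∈ N, π a ∈ fixIn (N.map π) (π s) → ∀ f ∈ N, π f ∈ fixIn (N.map π) (π s) → cm a f = 1 := by
      intro s hs hsur a ha haf f hf hff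
      have hx3 : x * x * x = 1 := by rw [← pow_three', h.toSetup.pow_three]
      -- invariance
      have step : ∀ e ∈ N, π e ∈ fixIn (N.map π) (π s) → cm e f = cm (x * e * x⁻¹) f := by
        intro e he hef
        obtain ⟨_, ⟨b0, hb0, rfl⟩, hb0e⟩ := hsur _ hff
        have hb0e' : π (b0 * (s * b0 * s⁻¹)) = π f := by
          rw [map_mul, map_mul, map_mul, map_inv]; exact hb0e
        set b := x⁻¹ * b0 * x with hb
        have hbN : b ∈ N := by
          have := h.normal.conj_mem b0 hb0 x⁻¹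
          rwa [inv_inv] at this
        have hxb : x * b * x⁻¹ = b0 := by rw [hb]; group
        have hz : cm e b ∈ Z := hcZ e he b hbN
        have hI := hS.identity hs hz
        rw [cm_map x, hxb] at hI
        set s2 := x * s * x⁻¹ with hs2
        have he2 : π (s2 * e * s2⁻¹) = π e := by
          have hc : π (x⁻¹ * e * x) ∈ fixIn (N.map π) (π s) := by
            have e2 : x⁻¹ * e * x = x * (x * e * x⁻¹) * x⁻¹ := by
              calc x⁻¹ * e * x = x⁻¹ * (x * x * x) * e * (x * x * x)⁻¹ * x := by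
                    rw [hx3, mul_one, inv_one, mul_one]
                _ = _ := by group
            rw [e2]
            exact hfixinv s hs _ (hNc x e he) (hfixinv s hs e he hef)
          have e3 : s2 * e * s2⁻¹ = x * (s * (x⁻¹ * e * x) * s⁻¹) * x⁻¹ := by rw [hs2]; group
          rw [e3, map_mul, map_mul, map_mul π (s * _), map_mul, map_inv, map_inv,
            (mem_fixIn.1 hc).2.eq, mul_inv_cancel_right]
          simp only [map_mul, map_inv]; group
        have hL : s2 * cm e b * s2⁻¹ * cm e b = cm e f := by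
          rw [cm_map, hcongrL _ (hNc s2 e he) e he he2 _ (hNc s2 b hbN),
            ← hmulR e he _ (hNc s2 b hbN) b hbN]
          refine hcongrR _ (N.mul_mem (hNc s2 b hbN) hbN) f hf ?_ e he
          have h4 := hSb.identity (bFour s hs) (v := π b) ⟨b, hbN, rfl⟩
          rw [← hb0e']
          simp only [map_mul, map_inv, hs2] at h4 ⊢
          rw [show (QuotientGroup.mk x : G ⧸ Z) = π x from rfl] at h4
          rw [h4, hb]
          simp only [map_mul, map_inv]
          have hcomm0 := hbc (π s * π b0 * (π s)⁻¹) ⟨s * b0 * s⁻¹, hNc s b0 hb0, by simp⟩ (π b0) ⟨b0, hb0, rfl⟩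
          rw [← hcomm0]
          show π s * (π x * ((π x)⁻¹ * π b0 * π x) * (π x)⁻¹) * (π s)⁻¹ *
            (π x * ((π x)⁻¹ * π b0 * π x) * (π x)⁻¹) = _
          group
        have hR : s * cm (x * e * x⁻¹) b0 * s⁻¹ * cm (x * e * x⁻¹) b0 = cm (x * e * x⁻¹) f := by
          rw [← (hZc _ (hZn.conj_mem _ (hcZ _ (hNc x e he) b0 hb0) s) _ (hZN (hcZ _ (hNc x e he) b0 hb0))).eq,
            hfix s hs _ (hNc x e he) (hfixinv s hs e he hef) b0 hb0]
          exact hcongrR _ (N.mul_mem hb0 (hNc s b0 hb0)) f hf hb0e' _ (hNc x e he)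
        rw [hL, hR] at hI
        exact hI
      have s1 := step a ha haf
      have s2' := step _ (hNc x a ha) (hfixinv s hs a ha haf)
      set a1 := x * a * x⁻¹ with ha1
      set a2 := x * a1 * x⁻¹ with ha2
      have ha1N : a1 ∈ N := hNc x a ha
      have ha2N : a2 ∈ N := hNc x a1 ha1N
      have htr : π (a * a1 * a2) = π 1 := by
        rw [map_one]
        have hm : π (a * a1 * a2) ∈ N.map π := ⟨_, N.mul_mem (N.mul_mem ha ha1N) ha2N, rfl⟩
        refine hSb.toSetup.fix_eq_one hSb.nx hm ?_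
        show π (a * a1 * a2) * (x : G ⧸ Z) = (x : G ⧸ Z) * π (a * a1 * a2)
        have e3 : x * (a * a1 * a2) * x⁻¹ = a1 * a2 * a := by
          calc x * (a * a1 * a2) * x⁻¹ = a1 * a2 * ((x * x * x) * a * (x * x * x)⁻¹) := by
                rw [ha2, ha1]; group
            _ = _ := by rw [hx3, one_mul, inv_one, mul_one]
        have e4 : π (x * (a * a1 * a2) * x⁻¹) = π (a * a1 * a2) := by
          rw [e3]
          simp only [map_mul]
          rw [← hbc (π a) ⟨a, ha, rfl⟩ (π a1 * π a2) ⟨a1 * a2, N.mul_mem ha1N ha2N, by simp⟩, mul_assoc]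
        rw [map_mul π (x * _), map_mul, map_inv] at e4
        exact (mul_inv_eq_iff_eq_mul.1 e4).symm
      have h3 := hcongrL _ (N.mul_mem (N.mul_mem ha ha1N) ha2N) 1 N.one_mem htr f hf
      rw [hmulL _ (N.mul_mem ha ha1N) _ ha2N f hf, hmulL a ha a1 ha1N f hf, ← s2', ← s1,
        hZ2 _ (hcZ a ha f hf), mul_one] at h3
      rw [h3, cm]; group
    have hEZ : ∀ s, Four x N s →
        (∀ e ∈ fixIn (N.map π) (π s), ∃ b ∈ N.map π, b * (π s * b * (π s)⁻¹) = e) →
        ∀ a ∈ N, π a ∈ fixIn (N.map π) (π s) → ∀ b ∈ N, cm a b ∈ fixIn Z s := by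
      intro s hs hsur a ha haf b hb
      refine mem_fixIn.2 ⟨hcZ a ha b hb, ?_⟩
      have h1 : π (b * (s * b * s⁻¹)) ∈ fixIn (N.map π) (π s) := by
        refine mem_fixIn.2 ⟨⟨_, N.mul_mem hb (hNc s b hb), rfl⟩, ?_⟩
        have hss : π s * π s * π b = π b * (π s * π s) :=
          (hbc _ ⟨_, hs.sq, rfl⟩ _ ⟨b, hb, rfl⟩).symm ▸ by rw [map_mul]
        simp only [map_mul, map_inv]
        show π s * (π b * (π s * π b * (π s)⁻¹)) = π b * (π s * π b * (π s)⁻¹) * π s
        calc π s * (π b * (π s * π b * (π s)⁻¹))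
            = (π s * π b * (π s)⁻¹) * (π s * π s * π b) * (π s)⁻¹ := by group
          _ = (π s * π b * (π s)⁻¹) * π b * π s := by rw [hss]; group
          _ = _ := by
            rw [hbc (π s * π b * (π s)⁻¹) ⟨s * b * s⁻¹, hNc s b hb, by simp⟩ (π b) ⟨b, hb, rfl⟩]
      have h2 := hfix s hs a ha haf b hb
      rw [hEE s hs hsur a ha haf _ (N.mul_mem hb (hNc s b hb)) h1] at h2
      have h3 := eq_inv_of_mul_eq_one_right h2
      rw [inv_eq_of_mul_eq_one_right (hZ2 _ (hcZ a ha b hb))] at h3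
      exact mul_inv_eq_iff_eq_mul.1 h3
    have hsurj' : ∀ e ∈ fixIn (N.map π) (π t'), ∃ b ∈ N.map π, b * (π t' * b * (π t')⁻¹) = e := by
      intro e' he'
      have hconjv : ∀ v ∈ N.map π, (π g)⁻¹ * v * π g ∈ N.map π := fun v hv => by
        have := hB.normal.conj_mem v hv (π g)⁻¹
        rwa [inv_inv] at this
      obtain ⟨hv, hc⟩ := mem_fixIn.1 he'
      have hmem' : (π g)⁻¹ * e' * π g ∈ fixIn (N.map π) (π t) := by
        refine mem_fixIn.2 ⟨hconjv _ hv, ?_⟩
        have hc' : π g * π t * (π g)⁻¹ * e' = e' * (π g * π t * (π g)⁻¹) := by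
          have := hc.eq
          rwa [ht', map_mul, map_mul, map_inv] at this
        show π t * ((π g)⁻¹ * e' * π g) = (π g)⁻¹ * e' * π g * π t
        calc π t * ((π g)⁻¹ * e' * π g) = (π g)⁻¹ * (π g * π t * (π g)⁻¹ * e') * π g := by group
          _ = (π g)⁻¹ * (e' * (π g * π t * (π g)⁻¹)) * π g := by rw [hc']
          _ = _ := by group
      obtain ⟨b, hb, hbe⟩ := hsurj _ hmem'
      refine ⟨π g * b * (π g)⁻¹, hB.normal.conj_mem b hb _, ?_⟩
      calc π g * b * (π g)⁻¹ * (π t' * (π g * b * (π g)⁻¹) * (π t')⁻¹)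
          = π g * (b * (π t * b * (π t)⁻¹)) * (π g)⁻¹ := by
            rw [ht', map_mul, map_mul, map_inv]; group
        _ = e' := by rw [hbe]; group
    have cross : ∀ a ∈ N, π a ∈ fixIn (N.map π) (π t) → ∀ b ∈ N, π b ∈ fixIn (N.map π) (π t') →
        cm a b = 1 := by
      intro a ha haf b hb hbf
      have h1 := hEZ t four hsurj a ha haf b hb
      have h2 := hEZ t' four' hsurj' b hb hbf a ha
      have e1 : cm b a = cm a b := by
        rw [← inv_eq_of_mul_eq_one_right (hZ2 _ (hcZ a ha b hb))]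
        simp only [cm]; group
      rw [e1] at h2
      exact hS.inter four four' hcov h1 h2
    have hall : ∀ a ∈ N, ∀ b ∈ N, cm a b = 1 := by
      intro a ha b hb
      have hsplit : ∀ v ∈ N, ∃ p ∈ N, ∃ r ∈ N, π p ∈ fixIn (N.map π) (π t) ∧
          π r ∈ fixIn (N.map π) (π t') ∧ π v = π (p * r) := by
        intro v hv
        obtain ⟨e', he', f', hf', hef⟩ := hdec _ ⟨v, hv, rfl⟩
        obtain ⟨⟨p, hp, rfl⟩, -⟩ := mem_fixIn.1 he'
        obtain ⟨⟨r, hr, rfl⟩, -⟩ := mem_fixIn.1 hf'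
        refine ⟨p, hp, r, hr, he', ?_, by rw [map_mul]; exact hef⟩
        rw [ht', map_mul, map_mul, map_inv]
        exact hf'
      obtain ⟨p, hp, r, hr, hpf, hrf, ea⟩ := hsplit a ha
      obtain ⟨p', hp', r', hr', hpf', hrf', eb⟩ := hsplit b hb
      rw [hcongrL a ha _ (N.mul_mem hp hr) ea b hb, hcongrR b hb _ (N.mul_mem hp' hr') eb _ (N.mul_mem hp hr),
        hmulL p hp r hr _ (N.mul_mem hp' hr'), hmulR r hr p' hp' r' hr', hmulR p hp p' hp' r' hr',
        hEE t four hsurj p hp hpf p' hp' hpf', hEE t' four' hsurj' r hr hrf r' hr' hrf',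
        cross p hp hpf r' hr' hrf', mul_one, mul_one, mul_one]
      have hc := cross p' hp' hpf' r hr hrf
      rw [show cm r p' = (cm p' r)⁻¹ by simp only [cm]; group, hc, inv_one]
    have hab : ∀ a ∈ N, ∀ b ∈ N, a * b = b * a := fun a ha b hb => by
      have := hall a ha b hb
      rw [cm, mul_inv_eq_one, mul_inv_eq_iff_eq_mul] at this
      exact this
    refine ⟨hab, ?_⟩
    have hSN : Sect x N N :=
      { toBase := h, vnormal := h.normal, comm := ⟨⟨fun a b => Subtype.ext (hab _ a.2 _ b.2)⟩⟩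
        nx := h.miss, cent_N := fun a ha b hb => hab a ha b hb }
    exact hSN.exp_two four

end Cfsg.Agent.Solv.SelfThree
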