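import Cfsg.Agent.Lib.Solv.SelfThree.Simple
import Cfsg.Agent.Lib.Solv.SelfThree.ExtensionFive
import Cfsg.Agent.S0494
import Cfsg.Agent.S0495

/-!
Groups with a self-centralizing element of order three.
-/

set_option autoImplicit false

namespace Cfsg.Agent.Solv.SelfThree

universe u

theorem top_cases {Q : Type u} [Group Q] [Finite Q] {y : Q} (hy : Setup y)
    (hmin : ∀ K : Subgroup Q, K.Normal → K ≠ ⊥ → y ∈ K)
    (ih : ∀ H : Subgroup Q, H ≠ ⊤ → y ∈ H → Concl H) :
    Nat.card Q = 3 ∨ Nonempty (Q ≃* Equiv.Perm (Fin 3)) ∨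
      (IsSimpleGroup Q ∧ (Nat.card Q = 60 ∨ Nat.card Q = 168)) := by
  classical
  haveI : Fact (Nat.Prime 3) := ⟨Nat.prime_three⟩
  haveI : Nontrivial Q := ⟨⟨y, 1, hy.ne_one⟩⟩
  set K := Subgroup.normalClosure ({y} : Set Q) with hKdef
  have hyK : y ∈ K := Subgroup.subset_normalClosure rfl
  by_cases hK : K = ⊤
  · haveI : IsSimpleGroup Q :=
      { eq_bot_or_eq_top_of_normal := fun H hH => by
          rcases eq_or_ne H ⊥ with e | e
          · exact Or.inl e
          · haveI := hH
            refine Or.inr (top_le_iff.1 ?_)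
            rw [← hK, hKdef]
            exact Subgroup.normalClosure_le_normal (Set.singleton_subset_iff.2 (hmin H hH e)) }
    by_cases hc : ∃ a b : Q, a * b ≠ b * a
    · refine Or.inr (Or.inr ⟨inferInstance, orders hy hc fun s hs D hD hD1 => ?_⟩)
      have hne : Subgroup.normalizer (D : Set Q) ≠ ⊤ := fun e => by
        rcases (Subgroup.normalizer_eq_top_iff.1 e).eq_bot_or_eq_top with e' | e'
        · exact hD1 e'
        · exact hD.2 (e' ▸ Subgroup.mem_top y)
      exact loc_cases hy hs hD.1 hD hD1 Subgroup.le_normalizer le_rfl (ih _ hne hD.1)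
    · push Not at hc
      left
      have : Subgroup.zpowers y = ⊤ := top_le_iff.1 fun g _ => hy.cent g (hc g y)
      rw [← hy.card_X, this, Subgroup.card_top]
  · -- the normal closure is proper
    have hKS := hy.restrict hyK
    have hfrat : ∀ g : Q, ∃ k ∈ K, (k * g) * y * (k * g)⁻¹ = y ∨ (k * g) * y * (k * g)⁻¹ = y⁻¹ := by
      intro g
      have hm : g * y * g⁻¹ ∈ K := Subgroup.normalClosure_normal.conj_mem y hyK g
      rcases hKS.conj_of_pow_three (y := ⟨_, hm⟩)
        (Subtype.ext (by
          show (g * y * g⁻¹) ^ 3 = 1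
          rw [conj_pow, hy.pow_three, mul_one, mul_inv_cancel]))
        (fun e => hy.ne_one (conj_eq_one_iff.1 (congrArg Subtype.val e))) with e | e
      · obtain ⟨n, hn⟩ := isConj_iff.1 e
        have hn' : (n : Q) * y * (n : Q)⁻¹ = g * y * g⁻¹ := congrArg Subtype.val hn
        refine ⟨(n : Q)⁻¹, K.inv_mem n.2, Or.inl ?_⟩
        calc (n : Q)⁻¹ * g * y * ((n : Q)⁻¹ * g)⁻¹ = (n : Q)⁻¹ * (g * y * g⁻¹) * n := by group
          _ = y := by rw [← hn']; group
      · obtain ⟨n, hn⟩ := isConj_iff.1 e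
        have hn' : (n : Q) * y ^ 2 * (n : Q)⁻¹ = g * y * g⁻¹ := congrArg Subtype.val hn
        refine ⟨(n : Q)⁻¹, K.inv_mem n.2, Or.inr ?_⟩
        calc (n : Q)⁻¹ * g * y * ((n : Q)⁻¹ * g)⁻¹ = (n : Q)⁻¹ * (g * y * g⁻¹) * n := by group
          _ = y⁻¹ := by rw [← hn', ← hy.inv_eq]; group
    have hsame : ∀ a : Q, a * y * a⁻¹ = y → a ∈ Subgroup.zpowers y := fun a ha =>
      hy.cent a (mul_inv_eq_iff_eq_mul.1 ha)
    have hno : ∀ a ∈ K, a * y * a⁻¹ ≠ y⁻¹ := by
      intro a ha hai
      refine hK (top_le_iff.1 fun g _ => ?_)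
      obtain ⟨k, hk, e | e⟩ := hfrat g
      · have := Subgroup.zpowers_le.2 hyK (hsame _ e)
        simpa using K.mul_mem (K.inv_mem hk) this
      · have h1 : a⁻¹ * (k * g) ∈ K := Subgroup.zpowers_le.2 hyK (hy.inverter_mem hai e)
        simpa [mul_assoc] using K.mul_mem (K.inv_mem hk) (K.mul_mem ha h1)
    obtain ⟨P, hP⟩ := hKS.isSylow
    have hcentral : Subgroup.normalizer ((P : Subgroup K) : Set K) ≤
        Subgroup.centralizer ((P : Subgroup K) : Set K) := by
      intro g hg
      rw [hP] at hg ⊢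
      rw [Subgroup.mem_centralizer_iff]
      intro w hw
      have hgy := (Subgroup.mem_normalizer_iff.1 hg ⟨y, hyK⟩).1 (Subgroup.mem_zpowers _)
      rcases (mem_X_iff hKS.pow_three).1 hgy with e | e | e
      · exact absurd (conj_eq_one_iff.1 e) hKS.ne_one
      · have hc : Commute g (⟨y, hyK⟩ : K) := mul_inv_eq_iff_eq_mul.1 e
        obtain ⟨k, rfl⟩ := Subgroup.mem_zpowers_iff.1 hw
        exact (hc.zpow_right k).eq.symm
      · exact absurd (show (g : Q) * y * (g : Q)⁻¹ = y⁻¹ by
          rw [hy.inv_eq]; exact congrArg Subtype.val e) (hno g g.2)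
    have hcomp := MonoidHom.ker_transferSylow_isComplement' P hcentral
    set L := (MonoidHom.transferSylow P hcentral).ker with hL
    have hLi : L.index = 3 := by
      rw [hcomp.symm.index_eq_card, hP, hKS.card_X]
    have hLcard : Nat.card L * 3 = Nat.card K := by rw [← hLi, Subgroup.card_mul_index]
    have hLc : ¬ 3 ∣ Nat.card L := fun hd => by
      refine hy.not_nine_dvd (dvd_trans ?_ (Subgroup.card_subgroup_dvd_card K))
      rw [← hLcard]
      exact Nat.mul_dvd_mul hd (dvd_refl 3)
    set L' := L.map K.subtype with hL'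
    have hLn : L'.Normal := ⟨fun w hw g => by
      obtain ⟨l, hl, rfl⟩ := hw
      set l' : K := ⟨g * l * g⁻¹, Subgroup.normalClosure_normal.conj_mem _ l.2 g⟩ with hl'
      refine ⟨l', ?_, rfl⟩
      have hcop : (orderOf l').Coprime 3 := by
        rw [Nat.coprime_comm, Nat.prime_three.coprime_iff_not_dvd]
        intro hd
        apply hLc
        refine dvd_trans hd ?_
        rw [← Subgroup.orderOf_coe, show ((l' : K) : Q) = MulAut.conj g (l : Q) from rfl,
          MulEquiv.orderOf_eq, Subgroup.orderOf_coe]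
        exact Subgroup.orderOf_dvd_natCard L hl
      obtain ⟨m, hm⟩ := exists_pow_eq_self_of_coprime hcop.symm
      have h3 := Subgroup.pow_index_mem L l'
      rw [hLi] at h3
      rw [← hm]
      exact L.pow_mem h3 m⟩
    have hL1 : L' = ⊥ := by
      by_contra hne
      obtain ⟨l, hl, hly⟩ := hmin L' hLn hne
      apply hLc
      have := Subgroup.orderOf_dvd_natCard L hl
      rwa [← Subgroup.orderOf_coe, show ((l : K) : Q) = y from hly, hy.ord] at this
    have hK3 : K = Subgroup.zpowers y := by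
      refine (Subgroup.eq_of_le_of_card_ge (Subgroup.zpowers_le.2 hyK) ?_).symm
      have hl1 : Nat.card L = 1 := by
        rw [← Subgroup.card_map_of_injective (f := K.subtype) K.subtype_injective, ← hL', hL1, Subgroup.card_bot]
      rw [hy.card_X, ← hLcard, hl1]
    obtain ⟨a, ha⟩ : ∃ a, a * y * a⁻¹ = y⁻¹ := by
      by_contra hno'
      refine hK (top_le_iff.1 fun g _ => ?_)
      obtain ⟨k, hk, e | e⟩ := hfrat g
      · have := Subgroup.zpowers_le.2 hyK (hsame _ e)
        simpa using K.mul_mem (K.inv_mem hk) this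
      · exact absurd ⟨_, e⟩ hno'
    right; left
    have ha2 : a ^ 2 = 1 := hy.inverter_sq ha
    have ha1 : a ≠ 1 := fun e => by
      rw [e, one_mul, inv_one, mul_one, hy.inv_eq] at ha
      exact hy.sq_ne_self ha.symm
    set A := Subgroup.zpowers a with hA
    have hA2 : Nat.card A = 2 := by rw [hA, Nat.card_zpowers, orderOf_eq_prime ha2 ha1]
    have hcover : ∀ g : Q, g ∈ Subgroup.zpowers y ∨ a⁻¹ * g ∈ Subgroup.zpowers y := by
      intro g
      obtain ⟨k, hk, e | e⟩ := hfrat g
      · rw [hK3] at hk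
        exact Or.inl (by simpa using mul_mem (inv_mem hk) (hsame _ e))
      · rw [hK3] at hk
        refine Or.inr ?_
        have h1 := hy.inverter_mem ha e
        have h2 : a⁻¹ * k⁻¹ * a ∈ Subgroup.zpowers y := by
          have := (Subgroup.normalClosure_normal (s := ({y} : Set Q))).conj_mem k⁻¹
            (show k⁻¹ ∈ Subgroup.normalClosure ({y} : Set Q) by rw [← hKdef, hK3]; exact inv_mem hk) a⁻¹
          rw [← hKdef, hK3, inv_inv] at this
          exact this
        have e2 : a⁻¹ * g = (a⁻¹ * k⁻¹ * a) * (a⁻¹ * (k * g)) := by group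
        rw [e2]
        exact mul_mem h2 h1
    have hcard : Nat.card Q ≤ 6 := by
      have hle : Nat.card Q ≤ Nat.card (Subgroup.zpowers y ⊕ Subgroup.zpowers y) :=
        Nat.card_le_card_of_surjective
          (Sum.elim (fun w => (w : Q)) (fun w => a * (w : Q))) (fun g => by
            rcases hcover g with e | e
            · exact ⟨Sum.inl ⟨g, e⟩, rfl⟩
            · exact ⟨Sum.inr ⟨_, e⟩, mul_inv_cancel_left a g⟩)
      rw [Nat.card_sum, hy.card_X] at hle
      exact hle
    have h6 : Nat.card Q = 6 := by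
      have h2 : 2 ∣ Nat.card Q := hA2 ▸ Subgroup.card_subgroup_dvd_card A
      have h3 : 3 ∣ Nat.card Q := hy.ord ▸ orderOf_dvd_natCard y
      have := Nat.card_pos (α := Q)
      omega
    have hAi : A.index = 3 := by
      have := A.card_mul_index
      rw [hA2, h6] at this
      omega
    haveI := Fintype.ofFinite (Q ⧸ A)
    let ε : Q ⧸ A ≃ Fin 3 := Finite.equivFinOfCardEq (hAi ▸ (Subgroup.index_eq_card A).symm)
    let φ : Q →* Equiv.Perm (Fin 3) :=
      (Equiv.permCongrHom ε).toMonoidHom.comp (MulAction.toPermHom Q (Q ⧸ A))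
    have hinj : Function.Injective φ := by
      refine (Equiv.permCongrHom ε).injective.comp ?_
      rw [← MonoidHom.ker_eq_bot_iff, ← Subgroup.normalCore_eq_ker]
      by_contra hne
      have h1 := A.normalCore_le (hmin _ inferInstance hne)
      have := Subgroup.orderOf_dvd_natCard A h1
      rw [hy.ord, hA2] at this
      omega
    refine ⟨MulEquiv.ofBijective φ ((Nat.bijective_iff_injective_and_card _).2 ⟨hinj, ?_⟩)⟩
    rw [h6, Nat.card_eq_fintype_card, Fintype.card_perm, Fintype.card_fin]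
    rfl

theorem concl : ∀ (n : ℕ) {G : Type u} [Group G] [Finite G] {x : G}, Setup x → Nat.card G = n →
    Concl G := by
  intro n
  induction n using Nat.strong_induction_on with
  | _ n ih =>
    intro G _ _ x h hn
    classical
    obtain ⟨N, -, hN⟩ := Finite.exists_le_maximal (p := fun M : Subgroup G => M.Normal ∧ x ∉ M)
      (a := (⊥ : Subgroup G)) ⟨inferInstance, fun e => h.ne_one (Subgroup.mem_bot.1 e)⟩
    obtain ⟨hNn, hxN⟩ := hN.1
    haveI := hNn
    have hcop := h.coprime_three (mem_normalizer_of_normal hNn x) hxN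
    have hB : Base x N :=
      { toSetup := h, normal := hNn, miss := hxN
        greatest := fun M hM hx => by
          haveI := hM
          have hcopM := h.coprime_three (mem_normalizer_of_normal hM x) hx
          refine le_trans le_sup_left (hN.2 ⟨Subgroup.sup_normal M N, fun hxs => hxN ?_⟩ le_sup_right)
          obtain ⟨m, hm, k, hk, e⟩ := Subgroup.mem_sup_of_normal_left.1 hxs
          have e2 : (x : G ⧸ N) = (m : G ⧸ N) := by
            rw [← e, QuotientGroup.mk_mul, (QuotientGroup.eq_one_iff k).2 hk, mul_one]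
          refine (QuotientGroup.eq_one_iff x).1 (orderOf_eq_one_iff.1 (Nat.dvd_one.1 ?_))
          rw [← Nat.coprime_iff_gcd_eq_one.1 hcopM]
          refine Nat.dvd_gcd ?_ (h.ord ▸ orderOf_map_dvd (QuotientGroup.mk' N) x)
          rw [e2]
          exact (orderOf_map_dvd (QuotientGroup.mk' N) m).trans (Subgroup.orderOf_dvd_natCard M hm) }
    set y : G ⧸ N := QuotientGroup.mk x with hy
    have hyS : Setup y := h.quotient hxN
    have hmin : ∀ K : Subgroup (G ⧸ N), K.Normal → K ≠ ⊥ → y ∈ K := by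
      intro K hK hK1
      by_contra hyK
      refine hK1 (eq_bot_iff.2 fun q hq => ?_)
      obtain ⟨u, rfl⟩ := QuotientGroup.mk_surjective q
      haveI := hK
      exact Subgroup.mem_bot.2 ((QuotientGroup.eq_one_iff u).2
        (hB.greatest (K.comap (QuotientGroup.mk' N)) inferInstance hyK hq))
    have hQn : Nat.card (G ⧸ N) ≤ n := hn ▸ Nat.le_of_dvd Nat.card_pos (Subgroup.card_quotient_dvd_card N)
    have hIH : ∀ H : Subgroup (G ⧸ N), H ≠ ⊤ → y ∈ H → Concl H := by
      intro H hH hyH
      refine ih _ (lt_of_lt_of_le ?_ hQn) (hyS.restrict hyH) rfl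
      by_contra hlt
      exact hH (Subgroup.eq_top_of_card_eq _ (le_antisymm (Subgroup.card_le_card_group H) (not_lt.1 hlt)))
    have hnil : Group.IsNilpotent N := h.nilpotent (mem_normalizer_of_normal hNn x) hxN
    rcases top_cases hyS hmin hIH with e | e | ⟨hs, e | e⟩
    · exact Or.inl ⟨N, hNn, hnil, hcop, Or.inl e⟩
    · exact Or.inl ⟨N, hNn, hnil, hcop, Or.inr e⟩
    · haveI := hs
      have iso := S0494.result e
      obtain ⟨hab, hsq⟩ := el_ab _ hB rfl iso
      exact Or.inr (Or.inl ⟨N, hNn, ⟨⟨fun a b => Subtype.ext (hab _ a.2 _ b.2)⟩⟩,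
        fun a ha => by rw [pow_two]; exact hsq a ha, iso⟩)
    · haveI := hs
      haveI : Fact (Nat.Prime 7) := ⟨by norm_num⟩
      obtain ⟨iso⟩ := S0495.result e (F := ZMod 7) (by simp)
      have hN1 : N = ⊥ := hB.eq_bot_of_168 e
      exact Or.inr (Or.inr ⟨(QuotientGroup.quotientBot.symm.trans
        (QuotientGroup.quotientMulEquivOfEq hN1.symm)).trans iso⟩)

end Cfsg.Agent.Solv.SelfThree
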