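import Cfsg.Agent.Lib.Solv.SelfThree.Basic
import Mathlib.GroupTheory.SpecificGroups.Alternating

/-!
The subgroups of the alternating group of degree five normalised by an element of order three and
missing it.
-/

set_option autoImplicit false

namespace Cfsg.Agent.Solv.SelfThree.AFive

open Equiv

universe u

local notation "A5" => alternatingGroup (Fin 5)

/-- The three-cycle `(0 1 2)`. -/
def y0 : A5 := ⟨swap 0 1 * swap 1 2, Equiv.Perm.mem_alternatingGroup.2 (by decide +kernel)⟩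

/-- The inverter `(1 2)(3 4)`. -/
def q0 : A5 := ⟨swap 1 2 * swap 3 4, Equiv.Perm.mem_alternatingGroup.2 (by decide +kernel)⟩

/-- Membership in one of the two four-groups. -/
abbrev InV (k : Fin 5) (u : A5) : Prop := u * u = 1 ∧ u.1 k = k

/-- The four-group fixing `k`. -/
def fourGroup (k : Fin 5) : Subgroup A5 where
  carrier := {u | InV k u}
  one_mem' := ⟨one_mul 1, rfl⟩
  mul_mem' := fun {a b} ha hb => by
    revert ha hb
    revert a b k
    show ∀ (k : Fin 5) (a b : A5), InV k a → InV k b → InV k (a * b)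
    decide +kernel
  inv_mem' := fun {a} ha => by
    have h : a⁻¹ = a := inv_eq_of_mul_eq_one_right ha.1
    rw [h]; exact ha

theorem y0_pow : y0 ^ 3 = 1 ∧ y0 ≠ 1 := by decide +kernel

theorem q0_inv : q0 * y0 * q0⁻¹ = y0⁻¹ := by decide +kernel

theorem conj_y0 : ∀ y : A5, y ^ 3 = 1 → y ≠ 1 → ∃ g : A5, g * y0 * g⁻¹ = y := by decide +kernel

theorem y0_norm : ∀ u : A5, ∀ k : Fin 5, (k = 3 ∨ k = 4) → InV k u →
    InV k (y0 * u * y0⁻¹) := by decide +kernel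

theorem q0_swap : ∀ u : A5, (InV 4 u → InV 3 (q0 * u * q0⁻¹)) ∧ (InV 3 u → InV 4 (q0 * u * q0⁻¹)) := by
  decide +kernel

theorem facts : (¬ InV 4 y0 ∧ ¬ InV 3 y0) ∧ (∀ u, InV 4 u → InV 3 u → u = 1) ∧
    (∃ u, InV 4 u ∧ u ≠ 1) ∧ ∃ u, InV 3 u ∧ u ≠ 1 := by decide +kernel

/-- An element of order three. -/
abbrev Three (u : A5) : Prop := u ^ 3 = 1 ∧ u ≠ 1

theorem words : ∀ u : A5, InV 4 u ∨ InV 3 u ∨ Three (u * (y0 * u * y0⁻¹)) ∨
    Three (u * (y0 * u * y0⁻¹)⁻¹) ∨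
    Three (u * (y0 * u * y0⁻¹) * u * (y0 * (y0 * u * y0⁻¹) * y0⁻¹)) := by decide +kernel

theorem words_two : ∀ u : A5, InV 4 u → ∀ v : A5, InV 3 v → u = 1 ∨ v = 1 ∨
    Three (u * v) ∨ Three (u * (y0 * v * y0⁻¹)) ∨ Three (u * (y0 * (y0 * v * y0⁻¹) * y0⁻¹)) := by
  decide +kernel

theorem cover (U : Subgroup A5) (hU : ∀ u ∈ U, y0 * u * y0⁻¹ ∈ U) (h3 : ¬ 3 ∣ Nat.card U) :
    U ≤ fourGroup 4 ∨ U ≤ fourGroup 3 := by
  have no3 : ∀ w ∈ U, ¬ Three w := fun w hw hw' => h3 (by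
    rw [← orderOf_eq_prime hw'.1 hw'.2]; exact Subgroup.orderOf_dvd_natCard U hw)
  have h1 : ∀ u ∈ U, InV 4 u ∨ InV 3 u := fun u hu => by
    rcases words u with h | h | h | h | h
    · exact Or.inl h
    · exact Or.inr h
    · exact absurd h (no3 _ (U.mul_mem hu (hU u hu)))
    · exact absurd h (no3 _ (U.mul_mem hu (U.inv_mem (hU u hu))))
    · exact absurd h (no3 _ (U.mul_mem (U.mul_mem (U.mul_mem hu (hU u hu)) hu) (hU _ (hU u hu))))
  by_contra hcon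
  rw [not_or, SetLike.not_le_iff_exists, SetLike.not_le_iff_exists] at hcon
  obtain ⟨⟨v, hv, hv4⟩, u, hu, hu3⟩ := hcon
  have hu4 : InV 4 u := (h1 u hu).resolve_right hu3
  have hv3 : InV 3 v := (h1 v hv).resolve_left hv4
  have hu1 : u ≠ 1 := fun e => hu3 (e ▸ (fourGroup 3).one_mem)
  have hv1 : v ≠ 1 := fun e => hv4 (e ▸ (fourGroup 4).one_mem)
  rcases words_two u hu4 v hv3 with h | h | h | h | h
  · exact hu1 h
  · exact hv1 h
  · exact no3 _ (U.mul_mem hu hv) h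
  · exact no3 _ (U.mul_mem hu (hU v hv)) h
  · exact no3 _ (U.mul_mem hu (hU _ (hU v hv))) h

/-- The facts about an element `y` of order three of a group isomorphic to the alternating group. -/
theorem exists_data {Q : Type u} [Group Q] (e : Q ≃* A5) {y : Q} (hy : y ^ 3 = 1) (hy1 : y ≠ 1) :
    ∃ q : Q, ∃ V W : Subgroup Q, q * y * q⁻¹ = y⁻¹ ∧ y ∉ V ∧ y ∉ W ∧ V ⊓ W = ⊥ ∧ V ≠ ⊥ ∧ W ≠ ⊥ ∧
      (∀ u ∈ V, y * u * y⁻¹ ∈ V) ∧ (∀ u ∈ W, y * u * y⁻¹ ∈ W) ∧
      (∀ u ∈ V, q * u * q⁻¹ ∈ W) ∧ (∀ u ∈ W, q * u * q⁻¹ ∈ V) ∧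
      (∀ u ∈ V, u * u = 1) ∧ (∀ u ∈ W, u * u = 1) ∧
      ∀ U : Subgroup Q, (∀ u ∈ U, y * u * y⁻¹ ∈ U) → ¬ 3 ∣ Nat.card U → U ≤ V ∨ U ≤ W := by
  obtain ⟨g, hg⟩ := conj_y0 (e y) (by rw [← map_pow, hy, map_one])
    (by rwa [ne_eq, map_eq_one_iff e e.injective])
  set f : Q ≃* A5 := e.trans (MulAut.conj g⁻¹) with hf
  have hfy : f y = y0 := by
    show g⁻¹ * e y * (g⁻¹)⁻¹ = y0
    rw [← hg]; group
  obtain ⟨⟨hn4, hn3⟩, hint, ⟨a, ha, ha1⟩, ⟨b, hb, hb1⟩⟩ := facts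
  have hc : ∀ (k : Fin 5) (u : Q), u ∈ (fourGroup k).comap f.toMonoidHom ↔ InV k (f u) :=
    fun k u => Iff.rfl
  have hsq : ∀ (k : Fin 5), ∀ u ∈ (fourGroup k).comap f.toMonoidHom, u * u = 1 := fun k u hu =>
    f.injective (by rw [map_mul, map_one]; exact ((hc k u).1 hu).1)
  have hne : ∀ (k : Fin 5) (a : A5), InV k a → a ≠ 1 → (fourGroup k).comap f.toMonoidHom ≠ ⊥ :=
    fun k a ha ha1 e' => ha1 (by
      have : f.symm a ∈ (fourGroup k).comap f.toMonoidHom := (hc k _).2 (by rwa [f.apply_symm_apply])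
      rw [e', Subgroup.mem_bot] at this
      simpa using congrArg f this)
  refine ⟨f.symm q0, (fourGroup 4).comap f.toMonoidHom, (fourGroup 3).comap f.toMonoidHom,
    f.injective (by simp only [map_mul, map_inv, f.apply_symm_apply, hfy]; exact q0_inv), ?_, ?_, ?_,
    hne 4 a ha ha1, hne 3 b hb hb1, ?_, ?_, ?_, ?_, hsq 4, hsq 3, ?_⟩
  · intro h; rw [hc, hfy] at h; exact hn4 h
  · intro h; rw [hc, hfy] at h; exact hn3 h
  · rw [eq_bot_iff]
    rintro u ⟨h4, h3⟩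
    refine Subgroup.mem_bot.2 (f.injective ?_)
    rw [map_one]; exact hint _ h4 h3
  · intro u hu
    rw [hc] at hu ⊢
    simpa only [map_mul, map_inv, hfy] using y0_norm _ 4 (Or.inr rfl) hu
  · intro u hu
    rw [hc] at hu ⊢
    simpa only [map_mul, map_inv, hfy] using y0_norm _ 3 (Or.inl rfl) hu
  · intro u hu
    rw [hc] at hu ⊢
    simpa only [map_mul, map_inv, f.apply_symm_apply] using (q0_swap _).1 hu
  · intro u hu
    rw [hc] at hu ⊢
    simpa only [map_mul, map_inv, f.apply_symm_apply] using (q0_swap _).2 hu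
  · intro U hU h3
    have key := cover (U.map f.toMonoidHom) (by
      rintro _ ⟨u, hu, rfl⟩
      refine ⟨_, hU u hu, ?_⟩
      show f (y * u * y⁻¹) = _
      rw [map_mul, map_mul, map_inv, hfy]; rfl)
      (by rwa [Subgroup.card_map_of_injective f.injective])
    simpa only [Subgroup.map_le_iff_le_comap] using key

end Cfsg.Agent.Solv.SelfThree.AFive
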