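import Mathlib.Data.List.Range
import Mathlib.Data.Int.Basic
import Mathlib.Tactic.NormNum
import Mathlib.Algebra.BigOperators.Group.List.Defs

/-!
The finite check behind the arithmetic of a self-centralizing subgroup of order three.
-/

set_option autoImplicit false

namespace Cfsg.Agent.Solv.SelfThree.Arith

/-- The weight of a possible order `d` of an odd signalizer in a group of order `g`. -/
def weight (g d : ℕ) : ℕ :=
  if g % d = 0 then if 3 * d * (d + 1) ≤ g then 2 * (d - 1) else if 42 * d ≤ g then d - 1 else 0
  else 0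

/-- The total weight. -/
def total (g : ℕ) : ℕ := ((List.range (g / 252 + 8)).map fun k => weight g (6 * k + 7)).sum

/-- The finite check for one triple. -/
def okTriple (f t : ℤ) (c : ℕ) : Bool :=
  let F := (f * (f + 1)).toNat
  let d := ((f - t) ^ 2).toNat
  let g := 3 * c * c * F / d
  (c % 2 != 0) || (c % 3 == 0) || decide ((c : ℤ) < 2 * t * t + 2 * t + 2) ||
  decide (f.natAbs ≤ t.natAbs) || decide ((1 + f).natAbs ≤ (1 + t).natAbs) ||
  decide (f % 3 ≠ 1) || decide (f = 1) || decide (f = -2) || decide (f % 2 ≠ t % 2) ||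
  decide (3 * c * c * F % d ≠ 0) || decide (g % 4 ≠ 0) || decide (g % c ≠ 0) ||
  decide (g * (F + 1) % (9 * F) ≠ 0) ||
  decide (g = 60 ∨ g = 168 ∨ g = 240 ∨ g = 672 ∨ g = 1140) ||
  (List.range 11).all fun r => decide (c < 2 * r * r) ||
    decide ((c - 2) * (r + 1) + 2 * (c - 1) + total g + 1 < g * (F + 1) / (9 * F))

/-- All triples in the finite range. -/
def checkAll : Bool :=
  (List.range 91).all fun i => (List.range 23).all fun j => (List.range 104).all fun k =>
    okTriple ((i : ℤ) - 45) ((j : ℤ) - 11) (2 * k)

theorem checkAll_eq : checkAll = true := by decide +kernel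

end Cfsg.Agent.Solv.SelfThree.Arith
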