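import Mathlib.Tactic.IntervalCases
import Mathlib.Tactic.Linarith
import Mathlib.Algebra.BigOperators.Group.Finset.Basic
import Mathlib.Algebra.Order.BigOperators.Group.Finset
import Mathlib.RingTheory.Coprime.Lemmas
import Mathlib.Data.Nat.GCD.BigOperators
import Mathlib.RingTheory.UniqueFactorizationDomain.Nat
import Mathlib.Algebra.Order.Ring.Abs
import Mathlib.Tactic.LinearCombination
import Mathlib.Tactic.Positivity
import Cfsg.Agent.Lib.Solv.SelfThree.Check

/-!
The arithmetic of a simple group with a self-centralizing subgroup of order three: the degree `f`,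
the value `τ` at an involution, the order `c` of its centralizer and the signalizer count leave
only five orders.
-/

set_option autoImplicit false

namespace Cfsg.Agent.Solv.SelfThree.Arith

theorem weight_zero_of_large (g d : ℕ) (h : g < 42 * d) (h' : 14 ≤ d) : weight g d = 0 := by
  unfold weight
  split_ifs with h1 h2 <;> first | rfl | omega | nlinarith

/-- Distinct possible orders weigh at most the total. -/
theorem sum_le_total (g : ℕ) (D : Finset ℕ) (hD : ∀ d ∈ D, d % 6 = 1 ∧ 7 ≤ d) :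
    ∑ d ∈ D, weight g d ≤ total g := by
  classical
  have htot : total g = ∑ k ∈ Finset.range (g / 252 + 8), weight g (6 * k + 7) := rfl
  rw [htot]
  calc ∑ d ∈ D, weight g d = ∑ d ∈ D with weight g d ≠ 0, weight g d :=
        (Finset.sum_filter_ne_zero D).symm
    _ ≤ ∑ d ∈ (Finset.range (g / 252 + 8)).image (fun k => 6 * k + 7), weight g d := by
        refine Finset.sum_le_sum_of_subset fun d hd => ?_
        obtain ⟨hdD, hne⟩ := Finset.mem_filter.1 hd
        obtain ⟨h1, h2⟩ := hD d hdD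
        refine Finset.mem_image.2 ⟨(d - 7) / 6, Finset.mem_range.2 ?_, by omega⟩
        by_contra hlt
        exact hne (weight_zero_of_large g d (by omega) (by omega))
    _ = _ := Finset.sum_image fun a _ b _ h => by omega

theorem sum_le_prod (D : Finset ℕ) (h7 : ∀ d ∈ D, 7 ≤ d) (h2 : 2 ≤ D.card) :
    7 * ∑ d ∈ D, d ≤ ∏ d ∈ D, d + 49 ∧ 49 ≤ ∏ d ∈ D, d := by
  classical
  induction D using Finset.induction_on with
  | empty => simp at h2
  | insert a s ha ih =>
    have h7a := h7 a (Finset.mem_insert_self a s)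
    have h7s : ∀ d ∈ s, 7 ≤ d := fun d hd => h7 d (Finset.mem_insert_of_mem hd)
    rw [Finset.card_insert_of_notMem ha] at h2
    rw [Finset.sum_insert ha, Finset.prod_insert ha]
    rcases (show s.card = 1 ∨ 2 ≤ s.card by omega) with h | h
    · obtain ⟨b, rfl⟩ := Finset.card_eq_one.1 h
      have := h7s b (Finset.mem_singleton_self b)
      simp only [Finset.sum_singleton, Finset.prod_singleton]
      constructor <;> nlinarith
    · obtain ⟨h3, h4⟩ := ih h7s h
      constructor <;> nlinarith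

/-- Pairwise coprime orders weigh at most a forty-second of the group. -/
theorem sum_weight_le (g : ℕ) (hg : 12 ∣ g) (hg0 : g ≠ 0) (D : Finset ℕ)
    (hD : ∀ d ∈ D, d % 6 = 1 ∧ 7 ≤ d ∧ d ∣ g)
    (hcop : ∀ a ∈ D, ∀ b ∈ D, a ≠ b → a.Coprime b) :
    42 * ∑ d ∈ D, weight g d ≤ g + 588 := by
  classical
  by_cases h2 : 2 ≤ D.card
  · obtain ⟨h3, -⟩ := sum_le_prod D (fun d hd => (hD d hd).2.1) h2
    have hw : ∀ d ∈ D, weight g d ≤ 2 * d := fun d _ => by unfold weight; split_ifs <;> omega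
    have h4 : 12 * ∏ d ∈ D, d ∣ g := by
      have hd12 : (∏ d ∈ D, d) ∣ g := by
        refine Finset.prod_dvd_of_isRelPrime (fun a ha b hb hab => ?_) fun d hd => (hD d hd).2.2
        exact Nat.coprime_iff_isRelPrime.1 (hcop a ha b hb hab)
      refine Nat.Coprime.mul_dvd_of_dvd_of_dvd (Nat.Coprime.prod_right fun d hd => ?_) hg hd12
      have h1 := (hD d hd).1
      have h22 : Nat.Coprime 2 d := (Nat.Prime.coprime_iff_not_dvd Nat.prime_two).2 (by omega)
      have h33 : Nat.Coprime 3 d := (Nat.Prime.coprime_iff_not_dvd Nat.prime_three).2 (by omega)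
      exact (h22.mul_left h22).mul_left h33
    have h5 := Nat.le_of_dvd (Nat.pos_of_ne_zero hg0) h4
    have h6 : ∑ d ∈ D, weight g d ≤ 2 * ∑ d ∈ D, d :=
      (Finset.sum_le_sum hw).trans_eq (Finset.mul_sum _ _ _).symm
    omega
  · rcases (show D.card = 0 ∨ D.card = 1 by omega) with h | h
    · rw [Finset.card_eq_zero.1 h]; simp
    · obtain ⟨d, rfl⟩ := Finset.card_eq_one.1 h
      rw [Finset.sum_singleton]
      unfold weight
      split_ifs with h1 h3 h4
      · have : 7 ≤ d := (hD d (Finset.mem_singleton_self d)).2.1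
        obtain ⟨e, rfl⟩ : ∃ e, d = e + 1 := ⟨d - 1, by omega⟩
        simp only [Nat.add_sub_cancel]
        nlinarith [sq_nonneg ((e : ℤ) - 13)]
      · omega
      · omega
      · omega

theorem abs_cases (f t : ℤ) (h1 : t.natAbs < f.natAbs) (h2 : (1 + t).natAbs < (1 + f).natAbs)
    (hf : f ≠ 0) (hf' : f ≠ -1) : (f - t) ^ 2 ≤ 4 * (f * (f + 1)) := by
  rcases (show 1 ≤ f ∨ f ≤ -2 by omega) with h | h
  · have ha : -f ≤ t := by omega
    have hb : t ≤ f := by omega
    nlinarith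
  · have ha : f ≤ t := by omega
    have hb : t ≤ -f - 2 := by omega
    nlinarith

theorem cancel_bound {a b c F d : ℤ} (g : ℤ) (hF : 0 < F) (hg0 : 0 ≤ g)
    (hg : g * d = 3 * c * c * F) (hd : a * d ≤ b * F) : 3 * a * (c * c) ≤ b * g := by
  refine le_of_mul_le_mul_right ?_ hF
  have := mul_le_mul_of_nonneg_left hd hg0
  linear_combination this - a * hg

theorem sq_bound_five (f t : ℤ) (hf : 46 ≤ f ∨ f ≤ -46) (ht : -11 ≤ t ∧ t ≤ 11) :
    3 * (f - t) ^ 2 ≤ 5 * (f * (f + 1)) := by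
  rcases hf with h | h
  · have h1 : (f - t) ^ 2 ≤ (f + 11) ^ 2 := sq_le_sq' (by omega) (by omega)
    have h2 := mul_le_mul_of_nonneg_right h (show (0 : ℤ) ≤ f by omega)
    linarith
  · have h1 : (f - t) ^ 2 ≤ (-f + 11) ^ 2 := sq_le_sq' (by omega) (by omega)
    have h2 := mul_le_mul_of_nonpos_right h (show f ≤ 0 by omega)
    linarith

theorem sq_bound_nine (f t : ℤ) (hf : 46 ≤ f ∨ f ≤ -46) (ht : -6 ≤ t ∧ t ≤ 5) :
    7 * (f - t) ^ 2 ≤ 9 * (f * (f + 1)) := by
  rcases hf with h | h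
  · have h1 : (f - t) ^ 2 ≤ (f + 6) ^ 2 := sq_le_sq' (by omega) (by omega)
    have h2 := mul_le_mul_of_nonneg_right h (show (0 : ℤ) ≤ f by omega)
    linarith
  · have h1 : (f - t) ^ 2 ≤ (-f + 5) ^ 2 := sq_le_sq' (by omega) (by omega)
    have h2 := mul_le_mul_of_nonpos_right h (show f ≤ 0 by omega)
    linarith

theorem tau_bound (t c : ℤ) (k : ℤ) (hk : 0 ≤ k) (hct : 2 * t * t + 2 * t + 2 ≤ c)
    (hck : c < 2 * (k + 1) * (k + 2) + 2) : -(k + 1) ≤ t ∧ t ≤ k := by
  constructor <;> by_contra hlt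
  · have := mul_le_mul (show k + 2 ≤ -t by omega) (show k + 1 ≤ -t - 1 by omega) (by omega)
      (by omega)
    linarith
  · have := mul_le_mul (show k + 1 ≤ t by omega) (show k + 2 ≤ t + 1 by omega) (by omega)
      (by omega)
    linarith

theorem centralizer_bound (c g r : ℤ) (hr : 0 ≤ r) (hrc : 2 * r * r ≤ c)
    (hA : 11 * g ≤ 126 * ((c - 2) * (r + 1) + 2 * c - 1) + 1764) :
    (3 * (c * c) ≤ 4 * g → c ≤ 206) ∧
    (9 * (c * c) ≤ 5 * g → c ≤ 54) ∧
    (7 * (c * c) ≤ 3 * g → c ≤ 54 → c ≤ 34) := by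
  have hc : 0 ≤ c := le_trans (by positivity) hrc
  refine ⟨fun h => ?_, fun h => ?_, fun h h54 => ?_⟩
  · by_contra hlt
    have h40 : 40 * r ≤ c + 200 := by linarith [sq_nonneg (r - 10)]
    have h1 := mul_le_mul_of_nonneg_left h40 hc
    have h2 := mul_le_mul_of_nonneg_left (show (207 : ℤ) ≤ c by omega) hc
    linarith
  · by_contra hlt
    have h24 : 24 * r ≤ c + 72 := by linarith [sq_nonneg (r - 6)]
    have h1 := mul_le_mul_of_nonneg_left h24 hc
    have h2 := mul_le_mul_of_nonneg_left (show (55 : ℤ) ≤ c by omega) hc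
    linarith
  · have hr5 : r ≤ 5 := by
      by_contra hlt
      have := mul_le_mul (show 6 ≤ r by omega) (show 6 ≤ r by omega) (by omega) (by omega)
      linarith
    have hc39 : c ≤ 39 := by
      by_contra hlt
      have h1 := mul_le_mul_of_nonneg_left hr5 (show (0 : ℤ) ≤ c - 2 by omega)
      have h2 := mul_le_mul_of_nonneg_left (show (40 : ℤ) ≤ c by omega) hc
      linarith
    have hr4 : r ≤ 4 := by
      by_contra hlt
      have := mul_le_mul (show 5 ≤ r by omega) (show 5 ≤ r by omega) (by omega) (by omega)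
      linarith
    by_contra hlt
    have h1 := mul_le_mul_of_nonneg_left hr4 (show (0 : ℤ) ≤ c - 2 by omega)
    have h2 := mul_le_mul_of_nonneg_left (show (35 : ℤ) ≤ c by omega) hc
    linarith

/-- The range of the parameters. -/
theorem range_bound (f t : ℤ) (c g S r P : ℤ)
    (hct : 2 * t * t + 2 * t + 2 ≤ c) (h1 : t.natAbs < f.natAbs)
    (h2 : (1 + t).natAbs < (1 + f).natAbs) (hf : f ≠ 0) (hf' : f ≠ -1)
    (hg : g * (f - t) ^ 2 = 3 * c * c * (f * (f + 1))) (hdeg : 2 * (f * (f + 1)) + 2 ≤ g)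
    (hS : 9 * (f * (f + 1)) * S = g * (f * (f + 1) + 1))
    (hSle : S ≤ (c - 2) * (r + 1) + 2 * (c - 1) + P + 1) (hr : 0 ≤ r) (hrc : 2 * r * r ≤ c)
    (hP : 42 * P ≤ g + 588) : -45 ≤ f ∧ f ≤ 45 ∧ -11 ≤ t ∧ t ≤ 11 ∧ c ≤ 206 := by
  have hF : 0 < f * (f + 1) := by
    rcases (show 1 ≤ f ∨ f ≤ -2 by omega) with h | h
    · exact mul_pos (by omega) (by omega)
    · exact mul_pos_of_neg_of_neg (by omega) (by omega)
  have hg0 : 0 ≤ g := by linarith
  have h9 : g ≤ 9 * S := by
    refine le_of_mul_le_mul_right ?_ hF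
    linarith
  have hA : 11 * g ≤ 126 * ((c - 2) * (r + 1) + 2 * c - 1) + 1764 := by linarith
  obtain ⟨hc206, hc54, hc34⟩ := centralizer_bound c g r hr hrc hA
  have h34 := cancel_bound (a := 1) (b := 4) g hF hg0 hg
    (by rw [one_mul]; exact abs_cases f t h1 h2 hf hf')
  have hc206 := hc206 (by linarith)
  have ht := tau_bound t c 10 (by norm_num) hct (by linarith)
  have ht11 : -11 ≤ t ∧ t ≤ 11 := by omega
  rcases (show (-45 ≤ f ∧ f ≤ 45) ∨ (46 ≤ f ∨ f ≤ -46) by omega) with hsmall | hbig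
  · exact ⟨hsmall.1, hsmall.2, ht11.1, ht11.2, hc206⟩
  exfalso
  have hc54 := hc54 (by linarith [cancel_bound g hF hg0 hg (sq_bound_five f t hbig ht11)])
  have ht5 := tau_bound t c 5 (by norm_num) hct (by linarith)
  have hc34 := hc34 (by linarith [cancel_bound g hF hg0 hg (sq_bound_nine f t hbig (by omega))])
    hc54
  have ht3 := tau_bound t c 3 (by norm_num) hct (by linarith)
  have hc0 : 0 ≤ c := le_trans (by positivity) hrc
  have hd : 0 < (f - t) ^ 2 := by
    have : f - t ≠ 0 := by omega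
    positivity
  have hd2 : 2 * (f - t) ^ 2 < 3 * (c * c) := by
    refine lt_of_mul_lt_mul_right ?_ hF.le
    have := mul_le_mul_of_nonneg_right hdeg hd.le
    linarith
  have hcc := mul_le_mul hc34 hc34 hc0 (by norm_num)
  rcases hbig with h | h
  · have := mul_le_mul (show 42 ≤ f - t by omega) (show 42 ≤ f - t by omega) (by omega) (by omega)
    linarith
  · have := mul_le_mul (show 42 ≤ t - f by omega) (show 42 ≤ t - f by omega) (by omega) (by omega)
    linarith

/-- The conclusion of the arithmetic. -/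
theorem orders (f t : ℤ) (c g S r : ℕ) (D : Finset ℕ) (hc2 : c % 2 = 0) (hc3 : c % 3 ≠ 0)
    (hct : 2 * t * t + 2 * t + 2 ≤ c) (h1 : t.natAbs < f.natAbs)
    (h2 : (1 + t).natAbs < (1 + f).natAbs) (hf3 : f % 3 = 1) (hf1 : f ≠ 1) (hf2 : f ≠ -2)
    (hpar : f % 2 = t % 2) (hg : (g : ℤ) * (f - t) ^ 2 = 3 * c * c * (f * (f + 1)))
    (hdeg : 2 * (f * (f + 1)) + 2 ≤ g) (hg4 : 4 ∣ g) (hgc : c ∣ g) (hg3 : 3 ∣ g)
    (hS : 9 * (f * (f + 1)) * S = g * (f * (f + 1) + 1))
    (hrc : 2 * r * r ≤ c) (hD : ∀ d ∈ D, d % 6 = 1 ∧ 7 ≤ d ∧ d ∣ g)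
    (hcop : ∀ a ∈ D, ∀ b ∈ D, a ≠ b → a.Coprime b)
    (hSle : S ≤ (c - 2) * (r + 1) + 2 * (c - 1) + (∑ d ∈ D, weight g d) + 1) :
    g = 60 ∨ g = 168 ∨ g = 240 ∨ g = 672 ∨ g = 1140 := by
  have hf : f ≠ 0 := by omega
  have hf' : f ≠ -1 := by omega
  have hF0 : 0 < f * (f + 1) := by
    rcases (show 1 ≤ f ∨ f ≤ -2 by omega) with h | h
    · exact mul_pos (by omega) (by omega)
    · exact mul_pos_of_neg_of_neg (by omega) (by omega)
  have hg0 : g ≠ 0 := by
    intro h
    rw [h, Nat.cast_zero] at hdeg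
    linarith
  have hP := sum_weight_le g (Nat.Coprime.mul_dvd_of_dvd_of_dvd (by decide) hg4 hg3) hg0 D hD hcop
  have hct' : (2 : ℕ) ≤ c := by
    have : 0 ≤ t * (t + 1) := by
      rcases (show 0 ≤ t ∨ t ≤ -1 by omega) with h | h
      · exact mul_nonneg (by omega) (by omega)
      · exact mul_nonneg_of_nonpos_of_nonpos (by omega) (by omega)
    have : 2 * t * t + 2 * t + 2 ≥ 2 := by linarith
    omega
  have hSle' : (S : ℤ) ≤ ((c : ℤ) - 2) * ((r : ℤ) + 1) + 2 * ((c : ℤ) - 1) +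
      ((∑ d ∈ D, weight g d : ℕ) : ℤ) + 1 := by
    have := Int.ofNat_le.2 hSle
    push_cast [Nat.cast_sub hct', Nat.cast_sub (le_trans one_le_two hct')] at this ⊢
    linarith
  obtain ⟨b1, b2, b3, b4, b5⟩ := range_bound f t c g S r _ hct h1
    h2 hf hf' hg hdeg hS hSle' (Int.natCast_nonneg r) (by exact_mod_cast hrc)
    (by exact_mod_cast hP)
  have hr10 : r < 11 := by nlinarith
  obtain ⟨i, hi, rfl⟩ : ∃ i : ℕ, i < 91 ∧ f = (i : ℤ) - 45 :=
    ⟨(f + 45).toNat, by omega, by omega⟩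
  obtain ⟨j, hj, rfl⟩ : ∃ j : ℕ, j < 23 ∧ t = (j : ℤ) - 11 :=
    ⟨(t + 11).toNat, by omega, by omega⟩
  obtain ⟨k, hk, rfl⟩ : ∃ k : ℕ, k < 104 ∧ c = 2 * k := ⟨c / 2, by omega, by omega⟩
  have hall := checkAll_eq
  rw [checkAll, List.all_eq_true] at hall
  have hok := hall i (List.mem_range.2 hi)
  rw [List.all_eq_true] at hok
  have hok := hok j (List.mem_range.2 hj)
  rw [List.all_eq_true] at hok
  have hok := hok k (List.mem_range.2 hk)
  set f : ℤ := (i : ℤ) - 45
  set t : ℤ := (j : ℤ) - 11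
  simp only [okTriple] at hok
  set F := (f * (f + 1)).toNat with hFdef
  set d := ((f - t) ^ 2).toNat with hddef
  have hFz : (F : ℤ) = f * (f + 1) := Int.toNat_of_nonneg (by
    rcases (show 1 ≤ f ∨ f ≤ -2 by omega) with h | h <;> nlinarith)
  have hdz : (d : ℤ) = (f - t) ^ 2 := Int.toNat_of_nonneg (sq_nonneg _)
  have hdpos : 0 < d := by
    have : f - t ≠ 0 := by intro h; omega
    have : (0 : ℤ) < (f - t) ^ 2 := by positivity
    omega
  have hgd : 3 * (2 * k) * (2 * k) * F = g * d := by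
    have : ((3 * (2 * k) * (2 * k) * F : ℕ) : ℤ) = ((g * d : ℕ) : ℤ) := by
      push_cast [hFz, hdz] at hg ⊢; linarith
    exact_mod_cast this
  have hSn : g * (F + 1) = 9 * F * S := by
    have : ((g * (F + 1) : ℕ) : ℤ) = ((9 * F * S : ℕ) : ℤ) := by
      push_cast [hFz]; linarith
    exact_mod_cast this
  have hgeq : 3 * (2 * k) * (2 * k) * F / d = g := by
    rw [hgd, Nat.mul_div_cancel _ hdpos]
  rw [hgeq] at hok
  have hFpos : 0 < 9 * F := by
    have : (0 : ℤ) < f * (f + 1) := by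
      rcases (show 1 ≤ f ∨ f ≤ -2 by omega) with h | h <;> nlinarith
    omega
  have hSdiv : g * (F + 1) / (9 * F) = S := by rw [hSn, Nat.mul_div_cancel_left _ hFpos]
  simp only [Bool.or_eq_true, decide_eq_true_eq, bne_iff_ne, beq_iff_eq, List.all_eq_true,
    List.mem_range] at hok
  rcases hok with ((((((((((((( h | h) | h) | h) | h) | h) | h) | h) | h) | h) | h) | h) | h) | h) | h
  · omega
  · omega
  · omega
  · omega
  · omega
  · exact absurd hf3 h
  · omega
  · omega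
  · exact absurd hpar h
  · exact absurd (by rw [hgd, Nat.mul_mod_left]) h
  · omega
  · exact absurd (Nat.mod_eq_zero_of_dvd hgc) h
  · exact absurd (by rw [hSn, Nat.mul_mod_right]) h
  · exact h
  · rcases h r hr10 with h' | h'
    · omega
    · rw [hSdiv] at h'
      have htot := sum_le_total g D fun d hd => ⟨(hD d hd).1, (hD d hd).2.1⟩
      omega

end Cfsg.Agent.Solv.SelfThree.Arith
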