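import Cfsg.Agent.Lib.Solv.ThompsonFPF
import Mathlib.GroupTheory.Transfer
import Mathlib.GroupTheory.Sylow

/-!
A self-centralizing element of order three: elementary facts.
-/

set_option autoImplicit false

namespace Cfsg.Agent.Solv.SelfThree

universe u

variable {G : Type u} [Group G]

/-- An element of order three commuting only with its powers. -/
structure Setup (x : G) : Prop where
  ord : orderOf x = 3
  cent : ∀ g : G, Commute g x → g ∈ Subgroup.zpowers x

theorem mem_X_iff {x : G} (h : x ^ 3 = 1) {g : G} :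
    g ∈ Subgroup.zpowers x ↔ g = 1 ∨ g = x ∨ g = x ^ 2 := by
  refine ⟨fun hg => ?_, ?_⟩
  · obtain ⟨k, rfl⟩ := Subgroup.mem_zpowers_iff.1 hg
    have h3 : x ^ (3 : ℤ) = 1 := by exact_mod_cast h
    have hk : x ^ k = x ^ (k % 3) := by
      conv_lhs => rw [← Int.emod_add_mul_ediv k 3]
      rw [zpow_add, zpow_mul, h3, one_zpow, mul_one]
    rcases (show k % 3 = 0 ∨ k % 3 = 1 ∨ k % 3 = 2 by omega) with e | e | e <;> rw [hk, e]
    · simp
    · simp
    · right; right; norm_cast
  · rintro (rfl | rfl | rfl)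
    · exact Subgroup.one_mem _
    · exact Subgroup.mem_zpowers _
    · exact Subgroup.pow_mem _ (Subgroup.mem_zpowers _) 2

namespace Setup

variable {x : G} (h : Setup x)

include h

theorem pow_three : x ^ 3 = 1 := by rw [← h.ord]; exact pow_orderOf_eq_one x

theorem ne_one : x ≠ 1 := fun e => by simpa [e] using h.ord

theorem sq_ne_one : x ^ 2 ≠ 1 := fun e => by
  have := orderOf_dvd_of_pow_eq_one e
  rw [h.ord] at this
  omega

theorem sq_ne_self : x ^ 2 ≠ x := fun e => h.ne_one (by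
  rw [pow_two] at e
  exact mul_eq_right.1 e)

theorem inv_eq : x⁻¹ = x ^ 2 :=
  inv_eq_of_mul_eq_one_right (by rw [← pow_succ']; exact h.pow_three)

theorem card_X : Nat.card (Subgroup.zpowers x) = 3 := by rw [Nat.card_zpowers, h.ord]

theorem comm_of_mem {g : G} (hg : g ∈ Subgroup.zpowers x) : Commute g x := by
  obtain ⟨k, rfl⟩ := Subgroup.mem_zpowers_iff.1 hg
  exact (Commute.refl x).zpow_left k

theorem cent_eq : Subgroup.centralizer ({x} : Set G) = Subgroup.zpowers x := by
  ext g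
  rw [Subgroup.mem_centralizer_singleton_iff]
  exact ⟨fun e => h.cent g e, fun e => (h.comm_of_mem e).eq⟩

theorem card_cent : Nat.card (Subgroup.centralizer ({x} : Set G)) = 3 := by
  rw [h.cent_eq, h.card_X]

theorem X_eq {y : G} (hy : y ∈ Subgroup.zpowers x) (hy1 : y ≠ 1) :
    Subgroup.zpowers y = Subgroup.zpowers x := by
  refine le_antisymm (Subgroup.zpowers_le.2 hy) (Subgroup.zpowers_le.2 ?_)
  rcases (mem_X_iff h.pow_three).1 hy with rfl | rfl | rfl
  · exact absurd rfl hy1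
  · exact Subgroup.mem_zpowers _
  · refine Subgroup.mem_zpowers_iff.2 ⟨2, ?_⟩
    rw [zpow_ofNat, ← pow_mul]
    exact (pow_succ x 3).trans (by rw [h.pow_three, one_mul])

/-- An element commuting with a nontrivial power of `x` is a power of `x`. -/
theorem cent_pow {g y : G} (hy : y ∈ Subgroup.zpowers x) (hy1 : y ≠ 1) (hc : Commute g y) :
    g ∈ Subgroup.zpowers x := by
  refine h.cent g ?_
  have hx : x ∈ Subgroup.zpowers y := (h.X_eq hy hy1).symm ▸ Subgroup.mem_zpowers x
  obtain ⟨k, hk⟩ := Subgroup.mem_zpowers_iff.1 hx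
  rw [← hk]
  exact hc.zpow_right k

theorem restrict {H : Subgroup G} (hx : x ∈ H) : Setup (⟨x, hx⟩ : H) := by
  refine ⟨by rw [Subgroup.orderOf_mk]; exact h.ord, fun g hg => ?_⟩
  obtain ⟨k, hk⟩ := Subgroup.mem_zpowers_iff.1 (h.cent g (congrArg Subtype.val hg))
  exact Subgroup.mem_zpowers_iff.2 ⟨k, Subtype.ext (by rw [SubgroupClass.coe_zpow]; exact hk)⟩

/-- A subgroup missing `x` meets the powers of `x` trivially. -/
theorem inf_X {U : Subgroup G} (hxU : x ∉ U) {y : G} (hy : y ∈ Subgroup.zpowers x) (hyU : y ∈ U) :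
    y = 1 := by
  by_contra hy1
  exact hxU (Subgroup.zpowers_le.2 hyU ((h.X_eq hy hy1).symm ▸ Subgroup.mem_zpowers x))

/-- Fixed-point-freeness on a subgroup missing `x`. -/
theorem fix_eq_one {U : Subgroup G} (hxU : x ∉ U) {u : G} (hu : u ∈ U) (hc : Commute u x) : u = 1 :=
  h.inf_X hxU (h.cent u hc) hu

theorem conj_pow_mem {U : Subgroup G} (hU : x ∈ Subgroup.normalizer (U : Set G)) {u : G} (hu : u ∈ U) :
    x * u * x⁻¹ ∈ U := (Subgroup.mem_normalizer_iff.1 hU u).1 hu

theorem nilpotent [Finite G] {U : Subgroup G} (hU : x ∈ Subgroup.normalizer (U : Set G)) (hxU : x ∉ U) :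
    Group.IsNilpotent U := by
  refine fpf_nilpotent U x Nat.prime_three h.pow_three hU ?_
  rw [eq_bot_iff]
  rintro u ⟨hu, huc⟩
  exact Subgroup.mem_bot.2 (h.fix_eq_one hxU hu (Subgroup.mem_centralizer_singleton_iff.1 huc))

theorem card_mod_three [Finite G] {U : Subgroup G} (hU : x ∈ Subgroup.normalizer (U : Set G)) (hxU : x ∉ U) :
    Nat.card U % 3 = 1 := by
  haveI : Fact (Nat.Prime 3) := ⟨Nat.prime_three⟩
  set X := Subgroup.zpowers x with hX
  have hXU : X ≤ Subgroup.normalizer (U : Set G) := Subgroup.zpowers_le.2 hU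
  letI act : MulAction X U :=
    { smul := fun a v => conjHom (a : G) (hXU a.2) v
      one_smul := fun v => Subtype.ext (by show ((1 : X) : G) * v * ((1 : X) : G)⁻¹ = v; simp)
      mul_smul := fun a b v => Subtype.ext (by
        show ((a * b : X) : G) * v * ((a * b : X) : G)⁻¹ = (a : G) * ((b : G) * v * (b : G)⁻¹) * (a : G)⁻¹
        push_cast; group) }
  have hp : IsPGroup 3 X := IsPGroup.of_card (n := 1) (by rw [h.card_X, pow_one])
  have hm := hp.card_modEq_card_fixedPoints U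
  have h1 : Nat.card (MulAction.fixedPoints X U) = 1 := by
    rw [Nat.card_eq_one_iff_unique]
    refine ⟨⟨fun a b => ?_⟩, ⟨⟨1, fun a => Subtype.ext (by
      show (a : G) * ((1 : U) : G) * (a : G)⁻¹ = _; simp)⟩⟩⟩
    have key : ∀ v : MulAction.fixedPoints X U, (v.1 : G) = 1 := fun v => by
      refine h.fix_eq_one hxU v.1.2 ?_
      have := congrArg Subtype.val (v.2 ⟨x, Subgroup.mem_zpowers x⟩)
      exact (mul_inv_eq_iff_eq_mul.1 (show x * (v.1 : G) * x⁻¹ = v.1 from this)).symm
    exact Subtype.ext (Subtype.ext ((key a).trans (key b).symm))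
  rw [h1] at hm
  exact hm

theorem coprime_three [Finite G] {U : Subgroup G} (hU : x ∈ Subgroup.normalizer (U : Set G)) (hxU : x ∉ U) :
    (Nat.card U).Coprime 3 := by
  rw [Nat.coprime_comm, Nat.prime_three.coprime_iff_not_dvd]
  have := h.card_mod_three hU hxU
  omega

/-- The powers of `x` form a Sylow subgroup. -/
theorem isSylow [Finite G] : ∃ P : Sylow 3 G, (P : Subgroup G) = Subgroup.zpowers x := by
  haveI : Fact (Nat.Prime 3) := ⟨Nat.prime_three⟩
  have hp : IsPGroup 3 (Subgroup.zpowers x) := IsPGroup.of_card (n := 1) (by rw [h.card_X, pow_one])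
  obtain ⟨P, hP⟩ := hp.exists_le_sylow
  refine ⟨P, le_antisymm (fun w hw => ?_) hP⟩
  have hxP : x ∈ (P : Subgroup G) := hP (Subgroup.mem_zpowers x)
  haveI : Nontrivial (P : Subgroup G) :=
    ⟨⟨x, hxP⟩, 1, fun e => h.ne_one (congrArg Subtype.val e)⟩
  haveI : Nontrivial (Subgroup.center (P : Subgroup G)) := P.2.center_nontrivial
  obtain ⟨z, hz⟩ := exists_ne (1 : Subgroup.center (P : Subgroup G))
  have hzX := h.cent _ (congrArg Subtype.val (Subgroup.mem_center_iff.1 z.2 ⟨x, hxP⟩)).symm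
  exact h.cent_pow hzX (fun e => hz (Subtype.ext (Subtype.ext e)))
    (congrArg Subtype.val (Subgroup.mem_center_iff.1 z.2 ⟨w, hw⟩))

/-- Elements of order three are conjugate to `x` or `x ^ 2`. -/
theorem conj_of_pow_three [Finite G] {y : G} (hy : y ^ 3 = 1) (hy1 : y ≠ 1) :
    IsConj x y ∨ IsConj (x ^ 2) y := by
  haveI : Fact (Nat.Prime 3) := ⟨Nat.prime_three⟩
  have hyp : IsPGroup 3 (Subgroup.zpowers y) := IsPGroup.of_card (n := 1) (by
    rw [Nat.card_zpowers, orderOf_eq_prime hy hy1, pow_one])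
  obtain ⟨Q, hQ⟩ := hyp.exists_le_sylow
  obtain ⟨P, hP⟩ := h.isSylow
  obtain ⟨g, rfl⟩ := MulAction.exists_smul_eq G P Q
  have hyQ : y ∈ ((g • P : Sylow 3 G) : Subgroup G) := hQ (Subgroup.mem_zpowers y)
  rw [Sylow.coe_subgroup_smul, hP] at hyQ
  obtain ⟨w, hw, hwy⟩ := Set.mem_smul_set.1 hyQ
  have hwy' : g * w * g⁻¹ = y := hwy
  rcases (mem_X_iff h.pow_three).1 hw with rfl | rfl | rfl
  · exact absurd (by simpa using hwy'.symm) hy1
  · exact Or.inl (isConj_iff.2 ⟨g, hwy'⟩)
  · exact Or.inr (isConj_iff.2 ⟨g, hwy'⟩)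

theorem not_nine_dvd [Finite G] : ¬ 9 ∣ Nat.card G := by
  haveI : Fact (Nat.Prime 3) := ⟨Nat.prime_three⟩
  intro hd
  obtain ⟨P, hP⟩ := h.isSylow
  have h1 := P.card_eq_multiplicity
  rw [hP, h.card_X] at h1
  have h2 : 2 ≤ (Nat.card G).factorization 3 :=
    (Nat.Prime.pow_dvd_iff_le_factorization Nat.prime_three Nat.card_pos.ne').1 (by simpa using hd)
  have h3 := Nat.pow_le_pow_right (show 0 < 3 by norm_num) h2
  omega

/-- An inverting element is an involution and is unique up to powers of `x`. -/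
theorem inverter_sq {s : G} (hs : s * x * s⁻¹ = x⁻¹) : s ^ 2 = 1 := by
  have hc : Commute (s ^ 2) x := by
    have : s * x⁻¹ * s⁻¹ = x := by
      rw [← conj_inv, hs, inv_inv]
    refine mul_inv_eq_iff_eq_mul.1 ?_
    calc s ^ 2 * x * (s ^ 2)⁻¹ = s * (s * x * s⁻¹) * s⁻¹ := by rw [pow_two]; group
      _ = x := by rw [hs, this]
  rcases (mem_X_iff h.pow_three).1 (h.cent _ hc) with e | e | e
  · exact e
  · exfalso
    have : Commute s x := by rw [← e]; exact (Commute.refl s).pow_right 2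
    rw [this.eq, mul_assoc, mul_inv_cancel, mul_one] at hs
    exact h.sq_ne_self (by rw [← h.inv_eq]; exact hs.symm)
  · exfalso
    have h2 : Commute s (x ^ 2) := by rw [← e]; exact (Commute.refl s).pow_right 2
    have : Commute s x := by
      have := h2.inv_right
      rwa [← h.inv_eq, inv_inv] at this
    rw [this.eq, mul_assoc, mul_inv_cancel, mul_one] at hs
    exact h.sq_ne_self (by rw [← h.inv_eq]; exact hs.symm)

theorem inverter_mem {s a : G} (hs : s * x * s⁻¹ = x⁻¹) (ha : a * x * a⁻¹ = x⁻¹) :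
    s⁻¹ * a ∈ Subgroup.zpowers x := by
  refine h.cent _ (mul_inv_eq_iff_eq_mul.1 ?_)
  calc s⁻¹ * a * x * (s⁻¹ * a)⁻¹ = s⁻¹ * (a * x * a⁻¹) * s := by group
    _ = s⁻¹ * (s * x * s⁻¹) * s := by rw [ha, hs]
    _ = x := by group

theorem inverter_exists [Finite G] [IsSimpleGroup G] (hna : ∃ a b : G, a * b ≠ b * a) :
    ∃ s : G, s * x * s⁻¹ = x⁻¹ := by
  haveI : Fact (Nat.Prime 3) := ⟨Nat.prime_three⟩
  by_contra hno
  obtain ⟨P, hP⟩ := h.isSylow
  have hN : Subgroup.normalizer ((P : Subgroup G) : Set G) ≤ Subgroup.centralizer ((P : Subgroup G) : Set G) := by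
    intro g hg
    rw [hP] at hg ⊢
    rw [Subgroup.mem_centralizer_iff]
    intro y hy
    have hgx := (Subgroup.mem_normalizer_iff.1 hg x).1 (Subgroup.mem_zpowers x)
    rcases (mem_X_iff h.pow_three).1 hgx with e | e | e
    · exact absurd (conj_eq_one_iff.1 e) h.ne_one
    · have hc : Commute g x := mul_inv_eq_iff_eq_mul.1 e
      obtain ⟨k, rfl⟩ := Subgroup.mem_zpowers_iff.1 hy
      exact (hc.zpow_right k).eq.symm
    · exact absurd ⟨g, by rw [h.inv_eq]; exact e⟩ hno
  have hc := MonoidHom.ker_transferSylow_isComplement' P hN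
  have hcard := hc.card_mul
  have hP3 : Nat.card (P : Subgroup G) = 3 := by rw [hP, h.card_X]
  rw [hP3] at hcard
  rcases Subgroup.Normal.eq_bot_or_eq_top
    (inferInstance : (MonoidHom.transferSylow P hN).ker.Normal) with e | e
  · rw [e, Subgroup.card_bot] at hcard
    obtain ⟨a, b, hab⟩ := hna
    haveI : Fact (Nat.Prime 3) := ⟨Nat.prime_three⟩
    haveI := isCyclic_of_prime_card (α := G) (p := 3) (by omega)
    exact hab (IsCyclic.commGroup.mul_comm a b)
  · rw [e, Subgroup.card_top] at hcard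
    have := Nat.card_pos (α := G)
    omega

end Setup

end Cfsg.Agent.Solv.SelfThree
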