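import Cfsg.Agent.Lib.Char.Burnside
import Cfsg.Agent.Lib.Char.RootUnityValues

/-!
Character values at elements of order two and three; strict bounds in simple groups.
-/

set_option autoImplicit false

namespace Cfsg.Agent.Solv.SelfThree

open Cfsg Cfsg.Agent.Char Module
open scoped ComplexConjugate

universe u

variable {G : Type u} [Group G] [Finite G]

/-- The value at an element of square one is an integer of the parity of the degree. -/
theorem value_invol {χ : G → ℂ} (h : IsCharacter G χ) {u : G} (hu : u ^ 2 = 1) :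
    ∃ z : ℤ, χ u = (z : ℂ) ∧ z % 2 = (deg χ : ℤ) % 2 := by
  classical
  obtain ⟨n, ρ, rfl⟩ := h
  obtain ⟨μ, hμ, htr, -⟩ := exists_eigenvalues ρ u
  have h1 := htr 1
  rw [pow_one] at h1
  have hm : ∀ i, μ i = 1 ∨ μ i = -1 := fun i => by
    have h2 : μ i ^ 2 = 1 := by
      obtain ⟨k, hk⟩ := orderOf_dvd_of_pow_eq_one hu
      rw [hk, pow_mul, hμ i, one_pow]
    exact sq_eq_one_iff.1 h2
  refine ⟨∑ i, (if μ i = 1 then (1 : ℤ) else -1), ?_, ?_⟩
  · rw [h1, Int.cast_sum]
    refine Finset.sum_congr rfl fun i _ => ?_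
    rw [pow_one]
    rcases hm i with e | e <;> rw [e]
    · simp
    · norm_num
  · rw [deg_character, Finset.sum_int_mod,
      Finset.sum_congr rfl (g := fun _ => (1 : ℤ)) (fun i _ => by split_ifs <;> rfl)]
    simp

/-- The value at a real element of cube one is an integer congruent to the degree. -/
theorem value_three {χ : G → ℂ} (h : IsCharacter G χ) {x : G} (hx : x ^ 3 = 1)
    (hreal : χ (x ^ 2) = χ x) : ∃ z : ℤ, χ x = (z : ℂ) ∧ (z - (deg χ : ℤ)) % 3 = 0 := by
  classical
  obtain ⟨n, ρ, rfl⟩ := id h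
  obtain ⟨μ, hμ, htr, -⟩ := exists_eigenvalues ρ x
  have h1 := htr 1
  rw [pow_one] at h1
  have h2 := htr 2
  rw [hreal, h1] at h2
  have hm : ∀ i, 1 + μ i + μ i ^ 2 = ((if μ i = 1 then (3 : ℤ) else 0 : ℤ) : ℂ) := fun i => by
    have h3 : μ i ^ 3 = 1 := by
      obtain ⟨k, hk⟩ := orderOf_dvd_of_pow_eq_one hx
      rw [hk, pow_mul, hμ i, one_pow]
    split_ifs with e
    · rw [e]; norm_num
    · have : (μ i - 1) * (1 + μ i + μ i ^ 2) = 0 := by linear_combination h3
      rcases mul_eq_zero.1 this with e' | e'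
      · exact absurd (sub_eq_zero.1 e') e
      · rw [e']; simp
  set a : ℤ := ∑ i, (if μ i = 1 then (1 : ℤ) else 0) with ha
  have hsum : (deg ρ.character : ℂ) + 2 * ρ.character x = ((3 * a : ℤ) : ℂ) := by
    have hL : ∑ i, (1 + μ i + μ i ^ 2) = (deg ρ.character : ℂ) + 2 * ρ.character x := by
      have h1' : ∑ i, μ i = ρ.character x := by rw [h1]; simp
      have h2' : ∑ i, μ i ^ 2 = ρ.character x := by rw [h1, h2]
      rw [Finset.sum_add_distrib, Finset.sum_add_distrib, Finset.sum_const, Finset.card_univ,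
        Fintype.card_fin, nsmul_eq_mul, mul_one, deg_character, h1', h2']
      ring
    rw [← hL, ha, Finset.mul_sum, Int.cast_sum]
    exact Finset.sum_congr rfl fun i _ => by rw [hm i]; simp only [mul_ite, mul_one, mul_zero]
  have hq : ρ.character x = ((((3 * a - (deg ρ.character : ℤ) : ℤ) : ℚ) / 2 : ℚ) : ℂ) := by
    push_cast at hsum ⊢
    linear_combination hsum / 2
  obtain ⟨z, hz⟩ := isIntegral_rat_cast_imp (hq ▸ char_isIntegral h x)
  refine ⟨z, by rw [hq, ← hz]; simp, ?_⟩
  have hzz : (deg ρ.character : ℤ) + 2 * z = 3 * a := by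
    have hz' : (z : ℚ) * 2 = (3 * a - (deg ρ.character : ℤ) : ℤ) := by rw [hz]; ring
    have : z * 2 = 3 * a - (deg ρ.character : ℤ) := by exact_mod_cast hz'
    omega
  omega

/-- In a nonabelian simple group a nonprincipal irreducible character is faithful of degree at
least two. -/
theorem faithful [IsSimpleGroup G] (hna : ∃ a b : G, a * b ≠ b * a) (χ : IrrCharacter G)
    (hne : (χ : G → ℂ) ≠ fun _ => 1) :
    (∀ g : G, (χ : G → ℂ) g = (χ : G → ℂ) 1 → g = 1) ∧ 2 ≤ deg (χ : G → ℂ) := by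
  classical
  obtain ⟨n, ρ, hρ, e⟩ := id χ.2
  have htriv : ρ.ker = ⊥ := by
    rcases (inferInstance : ρ.ker.Normal).eq_bot_or_eq_top with hb | ht
    · exact hb
    · exfalso
      have htriv : ∀ x, ρ x = LinearMap.id := fun x =>
        MonoidHom.mem_ker.mp (ht ▸ Subgroup.mem_top x : x ∈ ρ.ker)
      refine hne (funext fun x => ?_)
      rw [← e, (eq_id_iff ρ x).mpr (htriv x), finrank_eq_one_of_trivial hρ htriv, Nat.cast_one]
  have hinj := (MonoidHom.ker_eq_bot_iff ρ).mp htriv
  have hf : ∀ g : G, (χ : G → ℂ) g = (χ : G → ℂ) 1 → g = 1 := by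
    intro g hg
    rw [← e, Representation.char_one] at hg
    exact hinj (((eq_id_iff ρ g).mp hg).trans (by rw [map_one]; rfl))
  refine ⟨hf, ?_⟩
  have hpos := deg_pos χ.2
  by_contra hlt
  obtain ⟨l, hl⟩ := exists_hom_of_degree_one (irr_isCharacter χ.2)
    (by rw [char_one_eq_deg (irr_isCharacter χ.2), show deg (χ : G → ℂ) = 1 by omega, Nat.cast_one])
  obtain ⟨a, b, hab⟩ := hna
  refine hab (mul_inv_eq_one.1 (hf (a * b * (b * a)⁻¹) ?_))
  rw [hl]
  simp [map_mul, mul_comm (l a) (l b)]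

/-- Strict bound on character values. -/
theorem norm_lt [IsSimpleGroup G] (hna : ∃ a b : G, a * b ≠ b * a) (χ : IrrCharacter G)
    (hne : (χ : G → ℂ) ≠ fun _ => 1) {g : G} (hg : g ≠ 1) :
    ‖(χ : G → ℂ) g‖ < (deg (χ : G → ℂ) : ℝ) := by
  haveI := Fintype.ofFinite G
  have hle := char_norm_le (irr_isCharacter χ.2) g
  rw [char_one_eq_deg (irr_isCharacter χ.2)] at hle
  simp only [Complex.natCast_re] at hle
  refine lt_of_le_of_ne hle fun e => ?_
  have hc := RootValues.mem_center_of_norm χ (faithful hna χ hne).1 e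
  rcases (inferInstance : (Subgroup.center G).Normal).eq_bot_or_eq_top with hb | ht
  · exact hg (by simpa [hb] using hc)
  · obtain ⟨a, b, hab⟩ := hna
    exact hab (Subgroup.mem_center_iff.1 (ht ▸ Subgroup.mem_top b : b ∈ Subgroup.center G) a)

end Cfsg.Agent.Solv.SelfThree
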