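import Cfsg.Agent.Lib.Solv.SelfThree.Basic
import Cfsg.Agent.Lib.Solv.SelfThree.Values
import Cfsg.Agent.S0840

/-!
The character data of a simple group with a self-centralizing element of order three.
-/

set_option autoImplicit false

namespace Cfsg.Agent.Solv.SelfThree

open Cfsg Cfsg.Agent.Char
open scoped ComplexConjugate

universe u

variable {G : Type u} [Group G]

/-- The simple situation, with an inverting element. -/
structure Simp (x s : G) : Prop extends Setup x where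
  inv : s * x * s⁻¹ = x⁻¹
  nonab : ∃ a b : G, a * b ≠ b * a

/-- The elements `a` with `a * x` and `a * x ^ 2` both conjugate to `x`. -/
def sigSet (x : G) : Set G := {a | IsConj x (a * x) ∧ IsConj x (a * x ^ 2)}

namespace Simp

variable {x s : G} (h : Simp x s)

include h

theorem s_sq : s ^ 2 = 1 := h.toSetup.inverter_sq h.inv

theorem s_ne : s ≠ 1 := fun e => by
  have := h.inv
  rw [e, one_mul, inv_one, mul_one, h.toSetup.inv_eq] at this
  exact h.toSetup.sq_ne_self this.symm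

theorem s_order : orderOf s = 2 := orderOf_eq_prime h.s_sq h.s_ne

theorem conj_sq : IsConj x (x ^ 2) := isConj_iff.2 ⟨s, by rw [h.inv, h.toSetup.inv_eq]⟩

theorem conj_x [Finite G] {y : G} (hy : y ^ 3 = 1) (hy1 : y ≠ 1) : IsConj x y := by
  rcases h.toSetup.conj_of_pow_three hy hy1 with e | e
  · exact e
  · exact h.conj_sq.trans e

theorem conj_inv_iff {y : G} : IsConj x y⁻¹ ↔ IsConj x y := by
  have key : ∀ y : G, IsConj x y → IsConj x y⁻¹ := fun y hy => by
    obtain ⟨g, rfl⟩ := isConj_iff.1 hy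
    refine h.conj_sq.trans (isConj_iff.2 ⟨g, ?_⟩)
    rw [← h.toSetup.inv_eq, conj_inv]
  exact ⟨fun hy => by simpa using key _ hy, key y⟩

variable [Finite G]

theorem three_dvd : 3 ∣ Nat.card G := by
  rw [← h.toSetup.ord]; exact orderOf_dvd_natCard x

theorem class_x : Nat.card {y : G // IsConj x y} * 3 = Nat.card G := by
  rw [← h.toSetup.card_cent]; exact card_conjClass_mul_centralizer x

theorem class_x_cast : (Nat.card {y : G // IsConj x y} : ℂ) = (Nat.card G : ℂ) / 3 := by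
  rw [eq_div_iff (by norm_num)]
  exact_mod_cast h.class_x

theorem val_real {χ : G → ℂ} (hχ : IsCharacter G χ) : χ (x ^ 2) = χ x := by
  obtain ⟨g, hg⟩ := isConj_iff.1 h.conj_sq
  rw [← hg, isClassFunction_character hχ]

end Simp

/-- The two nonprincipal characters not vanishing at `x`. -/
structure ChData [Finite G] (x : G) (f : ℤ) where
  a : IrrCharacter G
  b : IrrCharacter G
  za : ℤ
  zb : ℤ
  za_sq : za * za = 1
  zb_sq : zb * zb = 1
  va : (a : G → ℂ) x = (za : ℂ)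
  vb : (b : G → ℂ) x = (zb : ℂ)
  fa : za * (deg (a : G → ℂ) : ℤ) = f
  fb : zb * (deg (b : G → ℂ) : ℤ) = -1 - f
  na : (a : G → ℂ) ≠ fun _ => 1
  nb : (b : G → ℂ) ≠ fun _ => 1
  mod_three : f % 3 = 1
  sum_eq : ∀ F : IrrCharacter G → ℂ, (∀ χ : IrrCharacter G, (χ : G → ℂ) x = 0 → F χ = 0) →
    ∑ χ, F χ = F ⟨fun _ => 1, isIrrCharacter_one⟩ + F a + F b
  sum_ge : ∀ F : IrrCharacter G → ℝ, (∀ χ, 0 ≤ F χ) →
    F ⟨fun _ => 1, isIrrCharacter_one⟩ + F a + F b ≤ ∑ χ, F χ

variable [Finite G]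

theorem Simp.exists_data [IsSimpleGroup G] {x s : G} (h : Simp x s) :
    ∃ f : ℤ, f ≠ 0 ∧ f ≠ -1 ∧ f ≠ 1 ∧ f ≠ -2 ∧ Nonempty (ChData x f) := by
  classical
  haveI := Fintype.ofFinite G
  choose z hz hz3 using fun χ : IrrCharacter G =>
    value_three (irr_isCharacter χ.2) h.toSetup.pow_three (h.val_real (irr_isCharacter χ.2))
  have hsq : ∑ χ : IrrCharacter G, z χ * z χ = 3 := by
    have := second_orth x x
    rw [if_pos (IsConj.refl x), h.class_x_cast] at this
    simp only [hz, map_intCast] at this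
    have hne : (Nat.card G : ℂ) ≠ 0 := Nat.cast_ne_zero.mpr Nat.card_pos.ne'
    rw [show (Nat.card G : ℂ) / ((Nat.card G : ℂ) / 3) = 3 by field_simp] at this
    exact_mod_cast this
  set supp : Finset (IrrCharacter G) := Finset.univ.filter fun χ => z χ ≠ 0 with hsupp
  have hsq' : ∑ χ ∈ supp, z χ * z χ = 3 := by
    rw [← hsq, hsupp, Finset.sum_filter]
    exact Finset.sum_congr rfl fun χ _ => by split_ifs with e <;> simp_all
  have hone : ∀ χ, z χ ≠ 0 → z χ * z χ = 1 := by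
    intro χ hχ
    have hle : z χ * z χ ≤ 3 := hsq' ▸ Finset.single_le_sum (f := fun χ => z χ * z χ)
      (fun i _ => mul_self_nonneg _) (Finset.mem_filter.2 ⟨Finset.mem_univ χ, hχ⟩)
    have h2 : -1 ≤ z χ ∧ z χ ≤ 1 := by constructor <;> nlinarith
    rcases (show z χ = 1 ∨ z χ = -1 by omega) with e | e <;> rw [e] <;> norm_num
  have hcard : supp.card = 3 := by
    rw [Finset.sum_congr rfl (g := fun _ => (1 : ℤ))
      (fun χ hχ => hone χ (Finset.mem_filter.1 hχ).2), Finset.sum_const, nsmul_eq_mul, mul_one] at hsq'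
    exact_mod_cast hsq'
  set e1 : IrrCharacter G := ⟨fun _ => 1, isIrrCharacter_one⟩ with he1
  have hze : z e1 = 1 := by
    have := hz e1
    exact_mod_cast (show (1 : ℂ) = (z e1 : ℂ) from this).symm
  have he1s : e1 ∈ supp := Finset.mem_filter.2 ⟨Finset.mem_univ _, by rw [hze]; norm_num⟩
  obtain ⟨a, b, hab, heq⟩ := Finset.card_eq_two.1
    (show (supp.erase e1).card = 2 by rw [Finset.card_erase_of_mem he1s, hcard])
  have ha : a ∈ supp.erase e1 := heq ▸ Finset.mem_insert_self a {b}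
  have hb : b ∈ supp.erase e1 := heq ▸ Finset.mem_insert_of_mem (Finset.mem_singleton_self b)
  have hne : ∀ χ, χ ∈ supp.erase e1 → (χ : G → ℂ) ≠ fun _ => 1 := fun χ hχ e =>
    (Finset.mem_erase.1 hχ).1 (Subtype.ext e)
  have hsum : ∀ F : IrrCharacter G → ℂ, (∀ χ : IrrCharacter G, (χ : G → ℂ) x = 0 → F χ = 0) →
      ∑ χ, F χ = F e1 + F a + F b := by
    intro F hF
    rw [← Finset.sum_subset (Finset.subset_univ supp) (fun χ _ hχ => hF χ (by
      rw [hz χ]; simpa [hsupp] using hχ)), ← Finset.add_sum_erase _ _ he1s, heq,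
      Finset.sum_pair hab, add_assoc]
  have hge : ∀ F : IrrCharacter G → ℝ, (∀ χ, 0 ≤ F χ) → F e1 + F a + F b ≤ ∑ χ, F χ := by
    intro F hF
    calc F e1 + F a + F b = ∑ χ ∈ supp, F χ := by
          rw [← Finset.add_sum_erase _ _ he1s, heq, Finset.sum_pair hab, add_assoc]
      _ ≤ _ := Finset.sum_le_sum_of_subset_of_nonneg (Finset.subset_univ _) fun i _ _ => hF i
  have h0 := second_orth (1 : G) x
  rw [if_neg (fun e => h.toSetup.ne_one (isConj_one_right.1 e)),
    hsum _ (fun χ hχ => by rw [hχ, map_zero, mul_zero]), hz e1, hz a, hz b, hze] at h0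
  simp only [map_intCast] at h0
  rw [char_one_eq_deg (irr_isCharacter a.2), char_one_eq_deg (irr_isCharacter b.2)] at h0
  have h0' : 1 + z a * (deg (a : G → ℂ) : ℤ) + z b * (deg (b : G → ℂ) : ℤ) = 0 := by
    have : ((1 + z a * (deg (a : G → ℂ) : ℤ) + z b * (deg (b : G → ℂ) : ℤ) : ℤ) : ℂ) = 0 := by
      push_cast
      simp only [he1, Int.cast_one] at h0
      linear_combination h0
    exact_mod_cast this
  have hza : z a ≠ 0 := (Finset.mem_filter.1 (Finset.mem_erase.1 ha).2).2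
  have hzb : z b ≠ 0 := (Finset.mem_filter.1 (Finset.mem_erase.1 hb).2).2
  have hda := (faithful h.nonab a (hne a ha)).2
  have hdb := (faithful h.nonab b (hne b hb)).2
  have h3 : (z a * (deg (a : G → ℂ) : ℤ)) % 3 = 1 := by
    have := hz3 a
    rcases mul_self_eq_one_iff.1 (hone a hza) with e | e <;> rw [e] at this ⊢ <;> omega
  refine ⟨z a * (deg (a : G → ℂ) : ℤ), ?_, ?_, ?_, ?_,
    ⟨{ a := a, b := b, za := z a, zb := z b, za_sq := hone a hza, zb_sq := hone b hzb, va := hz a,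
       vb := hz b, fa := rfl, fb := by omega, na := hne a ha, nb := hne b hb, mod_three := h3,
       sum_eq := hsum, sum_ge := hge }⟩⟩
  all_goals
    rcases mul_self_eq_one_iff.1 (hone a hza) with e | e <;>
      rcases mul_self_eq_one_iff.1 (hone b hzb) with e' | e' <;> rw [e, e'] at h0' <;> rw [e] <;> omega

variable {x s : G} {f : ℤ}

/-- The number `τ` at an involution. -/
theorem ChData.exists_tau [IsSimpleGroup G] (h : Simp x s) (D : ChData x f) {u : G} (hu : u ^ 2 = 1)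
    (hu1 : u ≠ 1) :
    ∃ t : ℤ, (D.a : G → ℂ) u = ((D.za * t : ℤ) : ℂ) ∧ (D.b : G → ℂ) u = ((D.zb * (-1 - t) : ℤ) : ℂ) ∧
      f % 2 = t % 2 ∧ t.natAbs < f.natAbs ∧ (1 + t).natAbs < (1 + f).natAbs ∧
      (2 * t * t + 2 * t + 2 : ℤ) ≤ (Nat.card (Subgroup.centralizer ({u} : Set G)) : ℤ) := by
  classical
  haveI := Fintype.ofFinite G
  obtain ⟨wa, hwa, pa⟩ := value_invol (irr_isCharacter D.a.2) hu
  obtain ⟨wb, hwb, pb⟩ := value_invol (irr_isCharacter D.b.2) hu
  have hnc : ¬ IsConj u x := fun e => by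
    obtain ⟨g, hg⟩ := isConj_iff.1 e
    exact h.toSetup.sq_ne_one (by rw [← hg, conj_pow, hu, mul_one, mul_inv_cancel])
  have h0 := second_orth u x
  rw [if_neg hnc, D.sum_eq _ (fun χ hχ => by rw [hχ, map_zero, mul_zero]), hwa, hwb, D.va, D.vb] at h0
  simp only [map_intCast, map_one, mul_one] at h0
  have h0' : 1 + wa * D.za + wb * D.zb = 0 := by exact_mod_cast h0
  have lt : ∀ (χ : IrrCharacter G) (w : ℤ), (χ : G → ℂ) ≠ (fun _ => 1) → (χ : G → ℂ) u = (w : ℂ) →
      w.natAbs < deg (χ : G → ℂ) := by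
    intro χ w hne hw
    have := norm_lt h.nonab χ hne hu1
    rw [hw, Complex.norm_intCast] at this
    have h' : |w| < (deg (χ : G → ℂ) : ℤ) := by exact_mod_cast this
    rw [Int.abs_eq_natAbs] at h'
    exact_mod_cast h'
  have la := lt _ wa D.na hwa
  have lb := lt _ wb D.nb hwb
  have hfa := D.fa
  have hfb := D.fb
  refine ⟨D.za * wa, ?_, ?_, ?_, ?_, ?_, ?_⟩
  · rw [← mul_assoc, D.za_sq, one_mul, hwa]
  · rw [hwb, show D.zb * (-1 - D.za * wa) = wb by linear_combination (-D.zb) * h0' + wb * D.zb_sq]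
  · rcases mul_self_eq_one_iff.1 D.za_sq with e | e <;> rw [e] at hfa ⊢ <;> omega
  · rcases mul_self_eq_one_iff.1 D.za_sq with e | e <;> rw [e] at hfa ⊢ <;> omega
  · rcases mul_self_eq_one_iff.1 D.za_sq with e | e <;>
      rcases mul_self_eq_one_iff.1 D.zb_sq with e' | e' <;>
      rw [e, e'] at h0' <;> rw [e] at hfa ⊢ <;> rw [e'] at hfb <;> omega
  · have h2 := second_orth u u
    rw [if_pos (IsConj.refl u)] at h2
    have hc : (Nat.card G : ℂ) / (Nat.card {y : G // IsConj u y} : ℂ) =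
        (Nat.card (Subgroup.centralizer ({u} : Set G)) : ℂ) := by
      rw [div_eq_iff (Nat.cast_ne_zero.mpr (card_conjClass_ne_zero u)), mul_comm]
      exact_mod_cast (card_conjClass_mul_centralizer u).symm
    rw [hc] at h2
    have h3 := congrArg Complex.re h2
    rw [Complex.re_sum] at h3
    have hnn : ∀ χ : IrrCharacter G, 0 ≤ ((χ : G → ℂ) u * conj ((χ : G → ℂ) u)).re := fun χ => by
      rw [Complex.mul_conj, Complex.ofReal_re]; exact Complex.normSq_nonneg _
    have h4 := D.sum_ge _ hnn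
    rw [h3, hwa, hwb] at h4
    simp only [map_intCast, map_one, mul_one, Complex.one_re, Complex.natCast_re] at h4
    rw [← Int.cast_mul, ← Int.cast_mul, Complex.intCast_re, Complex.intCast_re] at h4
    have h5 : 1 + wa * wa + wb * wb ≤ (Nat.card (Subgroup.centralizer ({u} : Set G)) : ℤ) := by
      exact_mod_cast h4
    have e1 : wb * wb = (1 + D.za * wa) * (1 + D.za * wa) := by
      linear_combination (-wb * wb) * D.zb_sq + (wb * D.zb - 1 - wa * D.za) * h0'
    have e2 : wa * wa = (D.za * wa) * (D.za * wa) := by linear_combination (-wa * wa) * D.za_sq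
    linear_combination h5 - e1 - e2

/-- The degree bound. -/
theorem ChData.deg_bound (D : ChData x f) : 2 * (f * (f + 1)) + 2 ≤ (Nat.card G : ℤ) := by
  classical
  haveI := Fintype.ofFinite G
  have h2 := congrArg Complex.re (sum_sq_deg (G := G))
  rw [Complex.re_sum] at h2
  have hnn : ∀ χ : IrrCharacter G, 0 ≤ ((χ : G → ℂ) 1 ^ 2).re := fun χ => by
    rw [char_one_eq_deg (irr_isCharacter χ.2), ← Nat.cast_pow, Complex.natCast_re]; positivity
  have h4 := D.sum_ge _ hnn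
  rw [h2, char_one_eq_deg (irr_isCharacter D.a.2), char_one_eq_deg (irr_isCharacter D.b.2)] at h4
  simp only [one_pow, Complex.one_re, Complex.natCast_re, ← Nat.cast_pow] at h4
  have h5 : 1 + (deg (D.a : G → ℂ) : ℤ) ^ 2 + (deg (D.b : G → ℂ) : ℤ) ^ 2 ≤ (Nat.card G : ℤ) := by
    exact_mod_cast h4
  have ea : f * f = (deg (D.a : G → ℂ) : ℤ) ^ 2 := by
    linear_combination (deg (D.a : G → ℂ) : ℤ) ^ 2 * D.za_sq -
      (f + D.za * (deg (D.a : G → ℂ) : ℤ)) * D.fa
  have eb : (-1 - f) * (-1 - f) = (deg (D.b : G → ℂ) : ℤ) ^ 2 := by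
    linear_combination (deg (D.b : G → ℂ) : ℤ) ^ 2 * D.zb_sq -
      (-1 - f + D.zb * (deg (D.b : G → ℂ) : ℤ)) * D.fb
  linear_combination h5 + ea + eb

/-- The class multiplication coefficient for two involutions. -/
theorem ChData.pairs_invol (h : Simp x s) (D : ChData x f) (hf : f ≠ 0) (hf' : f ≠ -1) {u : G} {t : ℤ}
    (ha : (D.a : G → ℂ) u = ((D.za * t : ℤ) : ℂ))
    (hb : (D.b : G → ℂ) u = ((D.zb * (-1 - t) : ℤ) : ℂ)) :
    (Nat.card {p : G × G // IsConj u p.1 ∧ IsConj u p.2 ∧ p.1 * p.2 = x} : ℤ) *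
      (Nat.card (Subgroup.centralizer ({u} : Set G)) : ℤ) ^ 2 * (f * (f + 1)) =
      (Nat.card G : ℤ) * (f - t) ^ 2 := by
  classical
  have hF := S0840.result u u x
  rw [finsum_irr, D.sum_eq _ (fun χ hχ => by rw [hχ, map_zero, mul_zero, zero_div]), ha, hb, D.va,
    D.vb, char_one_eq_deg (irr_isCharacter D.a.2), char_one_eq_deg (irr_isCharacter D.b.2)] at hF
  simp only [map_intCast, map_one, mul_one, div_one] at hF
  have hk : (Nat.card {y : G // IsConj u y} : ℂ) * (Nat.card (Subgroup.centralizer ({u} : Set G)) : ℂ) =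
      (Nat.card G : ℂ) := by exact_mod_cast card_conjClass_mul_centralizer u
  have hza : (D.za : ℂ) * D.za = 1 := by exact_mod_cast D.za_sq
  have hzb : (D.zb : ℂ) * D.zb = 1 := by exact_mod_cast D.zb_sq
  have hda : (deg (D.a : G → ℂ) : ℂ) = D.za * f := by
    have hfa : (D.za : ℂ) * (deg (D.a : G → ℂ) : ℂ) = (f : ℂ) := by exact_mod_cast D.fa
    linear_combination (D.za : ℂ) * hfa - (deg (D.a : G → ℂ) : ℂ) * hza
  have hdb : (deg (D.b : G → ℂ) : ℂ) = D.zb * (-1 - f) := by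
    have hfb : (D.zb : ℂ) * (deg (D.b : G → ℂ) : ℂ) = (-1 - f : ℂ) := by exact_mod_cast D.fb
    linear_combination (D.zb : ℂ) * hfb - (deg (D.b : G → ℂ) : ℂ) * hzb
  have hfc : (f : ℂ) ≠ 0 := Int.cast_ne_zero.2 hf
  have hfc' : (f : ℂ) + 1 ≠ 0 := by
    intro e
    apply hf'
    have : ((f + 1 : ℤ) : ℂ) = 0 := by push_cast; exact e
    have := Int.cast_eq_zero.1 this
    omega
  have hfc'' : (-1 : ℂ) - f ≠ 0 := fun e => hfc' (by linear_combination -e)
  have hza0 : (D.za : ℂ) ≠ 0 := fun e => by rw [e, zero_mul] at hza; exact zero_ne_one hza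
  have hzb0 : (D.zb : ℂ) ≠ 0 := fun e => by rw [e, zero_mul] at hzb; exact zero_ne_one hzb
  have hg0 : (Nat.card G : ℂ) ≠ 0 := Nat.cast_ne_zero.mpr Nat.card_pos.ne'
  have hsumv : 1 + ((D.za * t : ℤ) : ℂ) * ((D.za * t : ℤ) : ℂ) * (D.za : ℂ) / (deg (D.a : G → ℂ) : ℂ) +
      ((D.zb * (-1 - t) : ℤ) : ℂ) * ((D.zb * (-1 - t) : ℤ) : ℂ) * (D.zb : ℂ) / (deg (D.b : G → ℂ) : ℂ) =
      ((f : ℂ) - t) ^ 2 / ((f : ℂ) * (f + 1)) := by
    rw [hda, hdb]; push_cast
    rw [show (D.za : ℂ) * t * ((D.za : ℂ) * t) * (D.za : ℂ) / ((D.za : ℂ) * f) = (t : ℂ) * t / f by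
        field_simp; linear_combination (t : ℂ) ^ 2 * hza,
      show (D.zb : ℂ) * (-1 - t) * ((D.zb : ℂ) * (-1 - t)) * (D.zb : ℂ) / ((D.zb : ℂ) * (-1 - f)) =
          (-1 - (t : ℂ)) * (-1 - t) / (-1 - f) by
        field_simp; linear_combination ((-1 : ℂ) - t) ^ 2 * hzb]
    field_simp
    ring
  rw [hsumv] at hF
  have key : (Nat.card {p : G × G // IsConj u p.1 ∧ IsConj u p.2 ∧ p.1 * p.2 = x} : ℂ) *
      (Nat.card (Subgroup.centralizer ({u} : Set G)) : ℂ) ^ 2 * ((f : ℂ) * (f + 1)) =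
      (Nat.card G : ℂ) * ((f : ℂ) - t) ^ 2 := by
    rw [hF, ← hk]
    field_simp
  exact_mod_cast key

/-- The size of the signalizer set. -/
theorem ChData.card_sigSet (h : Simp x s) (D : ChData x f) (hf : f ≠ 0) (hf' : f ≠ -1) :
    9 * (f * (f + 1)) * ((sigSet x).ncard : ℤ) = (Nat.card G : ℤ) * (f * (f + 1) + 1) := by
  classical
  let e : sigSet x ≃ {p : G × G // IsConj x p.1 ∧ IsConj x p.2 ∧ p.1 * p.2 = x} :=
    { toFun := fun a => ⟨((a.1 * x)⁻¹, a.1 * x ^ 2), h.conj_inv_iff.2 a.2.1, a.2.2, by group⟩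
      invFun := fun p => ⟨p.1.1⁻¹ * x⁻¹, by
        refine ⟨?_, ?_⟩
        · rw [inv_mul_cancel_right]; exact h.conj_inv_iff.2 p.2.1
        · have e1 : p.1.1⁻¹ * x⁻¹ * x ^ 2 = p.1.1⁻¹ * x := by group
          rw [e1, show p.1.1⁻¹ * x = p.1.2 from inv_mul_eq_of_eq_mul p.2.2.2.symm]
          exact p.2.2.1⟩
      left_inv := fun a => Subtype.ext (by
        show ((a.1 * x)⁻¹)⁻¹ * x⁻¹ = a.1
        group)
      right_inv := fun p => Subtype.ext (Prod.ext (by
        show (p.1.1⁻¹ * x⁻¹ * x)⁻¹ = p.1.1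
        group) (by
        show p.1.1⁻¹ * x⁻¹ * x ^ 2 = p.1.2
        rw [show p.1.1⁻¹ * x⁻¹ * x ^ 2 = p.1.1⁻¹ * x by group]
        exact inv_mul_eq_of_eq_mul p.2.2.2.symm)) }
  have hF := S0840.result x x x
  rw [← Nat.card_congr e, Nat.card_coe_set_eq, finsum_irr,
    D.sum_eq _ (fun χ hχ => by rw [hχ, zero_mul, zero_mul, zero_div]), D.va,
    D.vb, char_one_eq_deg (irr_isCharacter D.a.2), char_one_eq_deg (irr_isCharacter D.b.2),
    h.class_x_cast] at hF
  simp only [map_intCast, map_one, mul_one, div_one] at hF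
  have hza : (D.za : ℂ) * D.za = 1 := by exact_mod_cast D.za_sq
  have hzb : (D.zb : ℂ) * D.zb = 1 := by exact_mod_cast D.zb_sq
  have hza0 : (D.za : ℂ) ≠ 0 := fun e => by rw [e, zero_mul] at hza; exact zero_ne_one hza
  have hzb0 : (D.zb : ℂ) ≠ 0 := fun e => by rw [e, zero_mul] at hzb; exact zero_ne_one hzb
  have hda : (deg (D.a : G → ℂ) : ℂ) = D.za * f := by
    have hfa : (D.za : ℂ) * (deg (D.a : G → ℂ) : ℂ) = (f : ℂ) := by exact_mod_cast D.fa
    linear_combination (D.za : ℂ) * hfa - (deg (D.a : G → ℂ) : ℂ) * hza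
  have hdb : (deg (D.b : G → ℂ) : ℂ) = D.zb * (-1 - f) := by
    have hfb : (D.zb : ℂ) * (deg (D.b : G → ℂ) : ℂ) = (-1 - f : ℂ) := by exact_mod_cast D.fb
    linear_combination (D.zb : ℂ) * hfb - (deg (D.b : G → ℂ) : ℂ) * hzb
  have hfc : (f : ℂ) ≠ 0 := Int.cast_ne_zero.2 hf
  have hfc' : (f : ℂ) + 1 ≠ 0 := by
    intro e
    apply hf'
    have : ((f + 1 : ℤ) : ℂ) = 0 := by push_cast; exact e
    have := Int.cast_eq_zero.1 this
    omega
  have hfc'' : (-1 : ℂ) - f ≠ 0 := fun e => hfc' (by linear_combination -e)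
  have hg0 : (Nat.card G : ℂ) ≠ 0 := Nat.cast_ne_zero.mpr Nat.card_pos.ne'
  rw [hda, hdb, show (D.za : ℂ) * D.za * D.za / ((D.za : ℂ) * f) = 1 / f by
      field_simp; linear_combination hza,
    show (D.zb : ℂ) * D.zb * D.zb / ((D.zb : ℂ) * (-1 - f)) = 1 / (-1 - f) by
      field_simp; linear_combination hzb] at hF
  have key : 9 * ((f : ℂ) * (f + 1)) * ((sigSet x).ncard : ℂ) =
      (Nat.card G : ℂ) * ((f : ℂ) * (f + 1) + 1) := by
    rw [hF]
    field_simp
    ring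
  exact_mod_cast key

end Cfsg.Agent.Solv.SelfThree
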