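import Mathlib.GroupTheory.Nilpotent
import Mathlib.GroupTheory.QuotientGroup.Basic
import Mathlib.GroupTheory.Index
import Mathlib.Tactic.Group

/-!
A nilpotent group acted on by the symmetric group of degree three, the elements of order three
without fixed points: the square of the fixed point group of an involution bounds the group.
-/

set_option autoImplicit false

namespace Cfsg.Agent.Solv.SelfThree.Square

universe u

/-- The fixed points of an automorphism. -/
def fix {M : Type u} [Group M] (t : M ≃* M) : Subgroup M where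
  carrier := {m | t m = m}
  one_mem' := map_one t
  mul_mem' := fun {a b} (ha : t a = a) (hb : t b = b) => by
    show t (a * b) = a * b
    rw [map_mul, ha, hb]
  inv_mem' := fun {a} (ha : t a = a) => by
    show t a⁻¹ = a⁻¹
    rw [map_inv, ha]

theorem mem_fix {M : Type u} [Group M] (t : M ≃* M) (m : M) : m ∈ fix t ↔ t m = m := Iff.rfl

/-- The action. -/
structure Act {M : Type u} [Group M] (σ τ : M ≃* M) : Prop where
  cube : ∀ m, σ (σ (σ m)) = m
  fpf : ∀ m, σ m = m → m = 1
  invol : ∀ m, τ (τ m) = m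
  rel : ∀ m, τ (σ m) = σ (σ (τ m))

section center

variable {M : Type u} [Group M] [Finite M] {σ τ : M ≃* M}

theorem mem_center_map (e : M ≃* M) {z : M} (hz : z ∈ Subgroup.center M) : e z ∈ Subgroup.center M := by
  rw [Subgroup.mem_center_iff] at hz ⊢
  intro g
  have h1 := congrArg e (hz (e.symm g))
  simpa using h1

theorem trace_one (h : Act σ τ) {z : M} (hz : z ∈ Subgroup.center M) : z * σ z * σ (σ z) = 1 := by
  refine h.fpf _ ?_
  rw [map_mul, map_mul, h.cube]
  exact (Subgroup.mem_center_iff.1 hz _).trans (mul_assoc _ _ _).symm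

theorem exists_root (h : Act σ τ) {z : M} (hz : z ∈ Subgroup.center M) (hτ : τ z = z⁻¹) :
    ∃ w ∈ Subgroup.center M, w⁻¹ * τ w = z := by
  refine ⟨σ z, mem_center_map σ hz, ?_⟩
  rw [h.rel, hτ, map_inv, map_inv, ← mul_inv_rev]
  refine inv_eq_of_mul_eq_one_right ?_
  rw [Subgroup.mem_center_iff.1 hz (σ (σ z) * σ z),
    Subgroup.mem_center_iff.1 (mem_center_map σ hz) (σ (σ z)), ← mul_assoc]
  exact trace_one h hz

/-- The centre satisfies the bound. -/
theorem center_bound (h : Act σ τ) :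
    Nat.card (Subgroup.center M) ≤ Nat.card ↥(Subgroup.center M ⊓ fix τ) ^ 2 := by
  set Z := Subgroup.center M
  have hcomm : ∀ a ∈ Z, ∀ b : M, a * b = b * a := fun a ha b =>
    (Subgroup.mem_center_iff.1 ha b).symm
  let φ : Z →* Z :=
    { toFun := fun z => ⟨(z : M)⁻¹ * τ z, Z.mul_mem (Z.inv_mem z.2) (mem_center_map τ z.2)⟩
      map_one' := Subtype.ext (by simp)
      map_mul' := fun a b => Subtype.ext (by
        show ((a : M) * b)⁻¹ * τ ((a : M) * b) = (a : M)⁻¹ * τ a * ((b : M)⁻¹ * τ b)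
        rw [map_mul, mul_inv_rev, mul_assoc, ← mul_assoc (a : M)⁻¹,
          hcomm _ (Z.inv_mem b.2), mul_assoc, mul_assoc, hcomm _ (Z.inv_mem b.2) (τ b), mul_assoc]) }
  have hker : Nat.card φ.ker = Nat.card ↥(Z ⊓ fix τ) := Nat.card_congr
    { toFun := fun z => ⟨((z : Z) : M), z.1.2, (inv_mul_eq_one.1 (congrArg Subtype.val z.2)).symm⟩
      invFun := fun z => ⟨⟨z.1, z.2.1⟩, Subtype.ext (inv_mul_eq_one.2 z.2.2.symm)⟩
      left_inv := fun z => rfl
      right_inv := fun z => rfl }
  have hrange : Nat.card φ.range ≤ Nat.card ↥(Z ⊓ fix τ) := by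
    have hI : ∀ v : φ.range, τ ((v : Z) : M) = ((v : Z) : M)⁻¹ := by
      rintro ⟨_, z, rfl⟩
      show τ ((z : M)⁻¹ * τ z) = ((z : M)⁻¹ * τ z)⁻¹
      rw [map_mul, map_inv, h.invol, mul_inv_rev, inv_inv]
    refine Nat.card_le_card_of_injective
      (fun v => (⟨σ ((v : Z) : M) * (σ (σ ((v : Z) : M)))⁻¹,
        Z.mul_mem (mem_center_map σ (v : Z).2) (Z.inv_mem (mem_center_map σ (mem_center_map σ (v : Z).2))),
        by
          show τ _ = _
          rw [map_mul, map_inv, h.rel, h.rel (σ _), h.rel, h.cube, hI v, map_inv, map_inv, inv_inv]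
          exact hcomm _ (Z.inv_mem (mem_center_map σ (mem_center_map σ (v : Z).2))) _⟩ : ↥(Z ⊓ fix τ))) ?_
    have key : ∀ p ∈ Z, ∀ q ∈ Z, σ p * (σ (σ p))⁻¹ = σ q * (σ (σ q))⁻¹ → p = q := by
      intro p hp q hq e
      refine mul_inv_eq_one.1 (h.fpf _ (σ.injective ?_))
      have c1 := hcomm _ (Z.inv_mem (mem_center_map σ (mem_center_map σ hq))) (σ q)
      calc σ (σ (p * q⁻¹)) = σ (σ p) * ((σ (σ q))⁻¹ * σ q) * (σ q)⁻¹ := by
            simp only [map_mul, map_inv]; group
        _ = σ (σ p) * (σ q * (σ (σ q))⁻¹) * (σ q)⁻¹ := by rw [c1]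
        _ = σ (σ p) * (σ p * (σ (σ p))⁻¹) * (σ q)⁻¹ := by rw [e]
        _ = σ (p * q⁻¹) := by
            rw [← mul_assoc (σ (σ p)), hcomm _ (mem_center_map σ (mem_center_map σ hp)) (σ p)]
            simp only [map_mul, map_inv]; group
    intro a b hab
    exact Subtype.ext (Subtype.ext (key _ (a : Z).2 _ (b : Z).2 (congrArg Subtype.val hab)))
  calc Nat.card Z = Nat.card φ.ker * φ.ker.index := (Subgroup.card_mul_index _).symm
    _ = Nat.card φ.ker * Nat.card φ.range := by rw [Subgroup.index_ker]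
    _ ≤ _ := by rw [hker, pow_two]; exact Nat.mul_le_mul_left _ hrange

end center

/-- The bound. -/
theorem card_le_sq : ∀ (n : ℕ) {M : Type u} [Group M] [Finite M] [Group.IsNilpotent M] (σ τ : M ≃* M),
    Nat.card M = n → Act σ τ → Nat.card M ≤ Nat.card (fix τ) ^ 2 := by
  intro n
  induction n using Nat.strong_induction_on with
  | _ n ih =>
    intro M _ _ _ σ τ hn h
    rcases subsingleton_or_nontrivial M with hs | hs
    · rw [Nat.card_of_subsingleton (1 : M)]
      exact Nat.one_le_pow _ _ Nat.card_pos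
    set Z := Subgroup.center M
    have hmap : ∀ e : M ≃* M, Z.map (e : M →* M) = Z := fun e => by
      refine le_antisymm ?_ fun z hz => ⟨e.symm z, mem_center_map e.symm hz, e.apply_symm_apply z⟩
      rintro _ ⟨z, hz, rfl⟩
      exact mem_center_map e hz
    let σ' := QuotientGroup.congr Z Z σ (hmap σ)
    let τ' := QuotientGroup.congr Z Z τ (hmap τ)
    have hσ' : ∀ m : M, σ' (m : M ⧸ Z) = (σ m : M ⧸ Z) := fun m => rfl
    have hτ' : ∀ m : M, τ' (m : M ⧸ Z) = (τ m : M ⧸ Z) := fun m => rfl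
    have h' : Act σ' τ' := by
      refine ⟨fun q => ?_, fun q hq => ?_, fun q => ?_, fun q => ?_⟩
      · obtain ⟨m, rfl⟩ := QuotientGroup.mk_surjective q
        rw [hσ', hσ', hσ', h.cube]
      · obtain ⟨m, rfl⟩ := QuotientGroup.mk_surjective q
        rw [hσ', QuotientGroup.eq] at hq
        have hinj : Function.Injective fun z : Z =>
            (⟨(σ (z : M))⁻¹ * z, Z.mul_mem (Z.inv_mem (mem_center_map σ z.2)) z.2⟩ : Z) := by
          intro a b hab
          have e : (σ (a : M))⁻¹ * a = (σ (b : M))⁻¹ * b := congrArg Subtype.val hab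
          refine Subtype.ext (mul_inv_eq_one.1 (h.fpf _ ?_))
          rw [map_mul, map_inv]
          calc σ (a : M) * (σ (b : M))⁻¹
              = σ (a : M) * ((σ (b : M))⁻¹ * b) * (b : M)⁻¹ := by group
            _ = σ (a : M) * ((σ (a : M))⁻¹ * a) * (b : M)⁻¹ := by rw [e]
            _ = _ := by group
        obtain ⟨z, hz⟩ := (Finite.injective_iff_surjective.1 hinj) ⟨_, hq⟩
        have e : (σ (z : M))⁻¹ * z = (σ m)⁻¹ * m := congrArg Subtype.val hz
        have hmz : m * (z : M)⁻¹ = 1 := h.fpf _ (by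
          rw [map_mul, map_inv]
          calc σ m * (σ (z : M))⁻¹ = σ m * ((σ (z : M))⁻¹ * z) * (z : M)⁻¹ := by group
            _ = σ m * ((σ m)⁻¹ * m) * (z : M)⁻¹ := by rw [e]
            _ = _ := by group)
        rw [QuotientGroup.eq_one_iff, mul_inv_eq_one.1 hmz]
        exact z.2
      · obtain ⟨m, rfl⟩ := QuotientGroup.mk_surjective q
        rw [hτ', hτ', h.invol]
      · obtain ⟨m, rfl⟩ := QuotientGroup.mk_surjective q
        rw [hσ', hτ', hτ', hσ', hσ', h.rel]
    have hlt : Nat.card (M ⧸ Z) < n := by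
      rw [← hn, Subgroup.card_eq_card_quotient_mul_card_subgroup Z]
      exact lt_mul_of_one_lt_right Nat.card_pos
        ((Subgroup.one_lt_card_iff_ne_bot _).2 (Group.IsNilpotent.center_ne_bot M))
    have hIH := ih _ hlt σ' τ' rfl h'
    let f : fix τ →* M ⧸ Z := (QuotientGroup.mk' Z).comp (fix τ).subtype
    have hle : fix τ' ≤ f.range := by
      intro q hq
      obtain ⟨m, rfl⟩ := QuotientGroup.mk_surjective q
      rw [mem_fix, hτ', QuotientGroup.eq] at hq
      obtain ⟨w, hw, hwz⟩ := exists_root h (z := (τ m)⁻¹ * m) hq (by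
        rw [map_mul, map_inv, h.invol, mul_inv_rev, inv_inv])
      refine ⟨⟨m * w, ?_⟩, QuotientGroup.mk_mul_of_mem m hw⟩
      show τ (m * w) = m * w
      rw [map_mul, show τ w = w * ((τ m)⁻¹ * m) by rw [← hwz]; group,
        ← Subgroup.mem_center_iff.1 hw ((τ m)⁻¹ * m)]
      group
    have hker : Nat.card f.ker = Nat.card ↥(Z ⊓ fix τ) := Nat.card_congr
      { toFun := fun a => ⟨((a : fix τ) : M), (QuotientGroup.eq_one_iff _).1 a.2, a.1.2⟩
        invFun := fun a => ⟨⟨a.1, a.2.2⟩, (QuotientGroup.eq_one_iff _).2 a.2.1⟩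
        left_inv := fun a => rfl
        right_inv := fun a => rfl }
    have hcf : Nat.card (fix τ) = Nat.card ↥(Z ⊓ fix τ) * Nat.card f.range := by
      rw [← hker, ← Subgroup.index_ker, Subgroup.card_mul_index]
    calc Nat.card M = Nat.card Z * Nat.card (M ⧸ Z) := by
          rw [mul_comm, ← Subgroup.card_eq_card_quotient_mul_card_subgroup]
      _ ≤ Nat.card ↥(Z ⊓ fix τ) ^ 2 * Nat.card f.range ^ 2 :=
          Nat.mul_le_mul (center_bound h)
            (hIH.trans (Nat.pow_le_pow_left (Subgroup.card_le_of_le hle) 2))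
      _ = _ := by rw [hcf, mul_pow]

end Cfsg.Agent.Solv.SelfThree.Square
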