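import Cfsg.Agent.Lib.Solv.SelfThree.Maxima
import Cfsg.Agent.Lib.Solv.SelfThree.Square
import Cfsg.Agent.Lib.Solv.SelfThree.Arith
import Mathlib.GroupTheory.GroupAction.Quotient
import Mathlib.GroupTheory.Perm.Basic

/-!
Counting the signalizer set of a simple group with a self-centralizing element of order three.
-/

set_option autoImplicit false

namespace Cfsg.Agent.Solv.SelfThree

open Cfsg.Agent.Char

universe u

variable {G : Type u} [Group G]

/-- The automorphism induced on a subgroup by an element normalising it. -/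
def autOf {M : Subgroup G} (g : G) (hg : g ∈ Subgroup.normalizer (M : Set G)) : M ≃* M where
  toFun m := ⟨g * m * g⁻¹, (Subgroup.mem_normalizer_iff.1 hg m).1 m.2⟩
  invFun m := ⟨g⁻¹ * m * g, by
    have := (Subgroup.mem_normalizer_iff.1 (inv_mem hg) m).1 m.2
    rwa [inv_inv] at this⟩
  left_inv m := Subtype.ext (by
    show g⁻¹ * (g * (m : G) * g⁻¹) * g = m
    group)
  right_inv m := Subtype.ext (by
    show g * (g⁻¹ * (m : G) * g) * g⁻¹ = m
    group)
  map_mul' a b := Subtype.ext (by
    show g * ((a : G) * b) * g⁻¹ = g * a * g⁻¹ * (g * b * g⁻¹)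
    group)

variable [Finite G] {x s : G}

theorem card_centralizer_conj {u v : G} (h : IsConj u v) :
    Nat.card (Subgroup.centralizer ({u} : Set G)) = Nat.card (Subgroup.centralizer ({v} : Set G)) := by
  have h1 := card_conjClass_mul_centralizer u
  have h2 := card_conjClass_mul_centralizer v
  have e : Nat.card {y : G // IsConj u y} = Nat.card {y : G // IsConj v y} :=
    Nat.card_congr (Equiv.subtypeEquivRight fun y => ⟨h.symm.trans, h.trans⟩)
  rw [e] at h1
  exact Nat.eq_of_mul_eq_mul_left (Nat.pos_of_ne_zero (card_conjClass_ne_zero v)) (h1.trans h2.symm)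

theorem Ctx.exists_max_of_mem (h : Ctx x s) {a : G} (ha : a ∈ sigSet x) (ha1 : a ≠ 1) :
    ∃ M, IsMax x M ∧ a ∈ M := by
  have hx3 := h.toSetup.pow_three
  have cube : ∀ y : G, IsConj x y → y ^ 3 = 1 := fun y hy => by
    obtain ⟨g, rfl⟩ := isConj_iff.1 hy
    rw [conj_pow, hx3, mul_one, mul_inv_cancel]
  have hxx : x * x * x = 1 := by rw [← pow_three', hx3]
  set b := x * a * x⁻¹ with hb
  set c := x * b * x⁻¹ with hc
  have hcx : x * c * x⁻¹ = a := by
    rw [hc, hb]
    calc x * (x * (x * a * x⁻¹) * x⁻¹) * x⁻¹ = (x * x * x) * a * (x * x * x)⁻¹ := by group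
      _ = a := by rw [hxx, one_mul, inv_one, mul_one]
  have h1 : a * b * c = 1 := by
    have := cube _ ha.1
    rw [pow_three'] at this
    rw [hc, hb]
    calc a * (x * a * x⁻¹) * (x * (x * a * x⁻¹) * x⁻¹)
        = (a * x * (a * x) * (a * x)) * (x * x * x)⁻¹ := by group
      _ = 1 := by rw [this, hxx, inv_one, mul_one]
  have h2 : a * c * b = 1 := by
    have := cube _ ha.2
    rw [pow_three', pow_two] at this
    have e : b = (x * x * x) * b * (x * x * x)⁻¹ := by rw [hxx, one_mul, inv_one, mul_one]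
    rw [e, hc, hb]
    calc a * (x * (x * a * x⁻¹) * x⁻¹) * (x * x * x * (x * a * x⁻¹) * (x * x * x)⁻¹)
        = (a * (x * x) * (a * (x * x)) * (a * (x * x))) * ((x * x * x) * (x * x * x))⁻¹ := by
          simp only [mul_assoc, mul_inv_rev, inv_inv, inv_mul_cancel_left, mul_inv_cancel_left,
            inv_mul_cancel, mul_inv_cancel, mul_one, one_mul]
      _ = 1 := by rw [this, hxx]; simp
  have hbc : b * c = c * b := mul_left_cancel (a := a)
    ((mul_assoc a b c).symm.trans (h1.trans (h2.symm.trans (mul_assoc a c b))))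
  have hab : a * b = b * a := by
    have e1 : x * b * x⁻¹ * (x * c * x⁻¹) = x * c * x⁻¹ * (x * b * x⁻¹) := by
      calc x * b * x⁻¹ * (x * c * x⁻¹) = x * (b * c) * x⁻¹ := by group
        _ = x * (c * b) * x⁻¹ := by rw [hbc]
        _ = _ := by group
    rw [hcx, ← hc] at e1
    have e2 : x * c * x⁻¹ * (x * a * x⁻¹) = x * a * x⁻¹ * (x * c * x⁻¹) := by
      calc x * c * x⁻¹ * (x * a * x⁻¹) = x * (c * a) * x⁻¹ := by group
        _ = x * (a * c) * x⁻¹ := by rw [e1]
        _ = _ := by group
    rw [hcx, ← hb] at e2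
    exact e2
  set U := Subgroup.closure ({a, b} : Set G) with hU
  have haU : a ∈ U := Subgroup.subset_closure (Set.mem_insert a {b})
  have hbU : b ∈ U := Subgroup.subset_closure (Set.mem_insert_of_mem a rfl)
  have hcU : c ∈ U := by
    have e : c = (a * b)⁻¹ := eq_inv_of_mul_eq_one_right h1
    rw [e]
    exact U.inv_mem (U.mul_mem haU hbU)
  have hN : x ∈ Subgroup.normalizer (U : Set G) := by
    refine mem_normalizer_of_conj_le fun u hu => ?_
    have hle : U ≤ U.comap (MulAut.conj x).toMonoidHom := by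
      rw [hU, Subgroup.closure_le]
      intro y hy
      rcases hy with rfl | rfl
      · exact hbU
      · exact hcU
    exact hle hu
  have hxU : x ∉ U := fun hx => by
    have hle : U ≤ Subgroup.centralizer ({a} : Set G) := by
      rw [hU, Subgroup.closure_le]
      intro y hy
      rw [SetLike.mem_coe, Subgroup.mem_centralizer_singleton_iff]
      rcases hy with rfl | rfl
      · rfl
      · exact hab.symm
    have hac : Commute a x := (Subgroup.mem_centralizer_singleton_iff.1 (hle hx)).symm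
    have h3 := h.toSetup.cent a hac
    rcases (mem_X_iff hx3).1 h3 with e | e | e
    · exact ha1 e
    · subst e
      obtain ⟨g, hg⟩ := isConj_iff.1 ha.2
      rw [← pow_succ', hx3, conj_eq_one_iff] at hg
      exact h.toSetup.ne_one hg
    · subst e
      obtain ⟨g, hg⟩ := isConj_iff.1 ha.1
      rw [← pow_succ, hx3, conj_eq_one_iff] at hg
      exact h.toSetup.ne_one hg
  obtain ⟨M, hM, hle⟩ := h.exists_max ⟨hN, hxU⟩ (fun e => ha1 (by rwa [e, Subgroup.mem_bot] at haU))
  exact ⟨M, hM, hle haU⟩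

theorem Ctx.four_le (h : Ctx x s) {M : Subgroup G} (hM : IsMax x M) : 4 ≤ Nat.card M := by
  have h1 := h.toSetup.card_mod_three hM.1.1 hM.1.2
  have h2 : Nat.card M ≠ 1 := fun e => hM.2.1 (Subgroup.card_eq_one.1 e)
  omega

theorem Ctx.bound_single [IsSimpleGroup G] (h : Ctx x s) {M : Subgroup G} (hM : IsMax x M)
    (hs : s ∈ Subgroup.normalizer (M : Set G)) : 42 * Nat.card M ≤ Nat.card G := by
  classical
  set H := Subgroup.normalizer (M : Set G) with hH
  have hH6 : Nat.card H = 6 * Nat.card M := by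
    rcases (h.max_norm hM).2 with ⟨-, e⟩ | ⟨e, -⟩
    · exact absurd hs e
    · exact e
  have hg := H.index_mul_card
  rw [hH6] at hg
  have hmod : H.index % 3 = 1 := by
    haveI : Fact (Nat.Prime 3) := ⟨Nat.prime_three⟩
    have hp : IsPGroup 3 (Subgroup.zpowers x) := IsPGroup.of_card (n := 1) (by rw [h.toSetup.card_X, pow_one])
    have hm := hp.card_modEq_card_fixedPoints (G ⧸ H)
    have h1 : Nat.card (MulAction.fixedPoints (Subgroup.zpowers x) (G ⧸ H)) = 1 := by
      rw [Nat.card_eq_one_iff_unique]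
      have key : ∀ q : MulAction.fixedPoints (Subgroup.zpowers x) (G ⧸ H), q.1 = ((1 : G) : G ⧸ H) := by
        rintro ⟨q, hq⟩
        obtain ⟨g, rfl⟩ := QuotientGroup.mk_surjective q
        have h1 : g⁻¹ * x * g ∈ H := by
          have e := hq ⟨x, Subgroup.mem_zpowers x⟩
          change ((x * g : G) : G ⧸ H) = (g : G ⧸ H) at e
          rw [QuotientGroup.eq] at e
          have e' := H.inv_mem e
          simpa [mul_assoc] using e'
        show (g : G ⧸ H) = ((1 : G) : G ⧸ H)
        rw [QuotientGroup.eq, mul_one]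
        refine H.inv_mem ?_
        have hHs := h.toSetup.restrict (H := H) hM.1.1
        have hy3 : (g⁻¹ * x * g) ^ 3 = 1 := by
          have e : (g⁻¹ * x * g) ^ 3 = g⁻¹ * x ^ 3 * g := by
            simp only [pow_succ, pow_zero, one_mul]; group
          rw [e, h.toSetup.pow_three, mul_one, inv_mul_cancel]
        have hy1 : g⁻¹ * x * g ≠ 1 := fun e => h.toSetup.ne_one (by
          have := congrArg (fun w => g * w * g⁻¹) e
          simpa [mul_assoc] using this)
        have hcase : ∃ n ∈ H, n * x * n⁻¹ = g⁻¹ * x * g := by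
          rcases hHs.conj_of_pow_three (y := ⟨_, h1⟩) (Subtype.ext hy3)
            (fun e => hy1 (congrArg Subtype.val e)) with e | e
          · obtain ⟨n, hn⟩ := isConj_iff.1 e
            exact ⟨n, n.2, congrArg Subtype.val hn⟩
          · obtain ⟨n, hn⟩ := isConj_iff.1 e
            refine ⟨n * s, H.mul_mem n.2 hs, ?_⟩
            have e' : (n : G) * x ^ 2 * (n : G)⁻¹ = g⁻¹ * x * g := congrArg Subtype.val hn
            rw [← e', ← h.toSetup.inv_eq, ← h.inv]
            group
        obtain ⟨n, hn, e⟩ := hcase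
        have hgn : Commute (g * n) x := by
          show g * n * x = x * (g * n)
          calc g * n * x = g * (n * x * n⁻¹) * n := by group
            _ = x * (g * n) := by rw [e]; group
        have h2 : g * n ∈ H := (Subgroup.zpowers_le.2 hM.1.1) (h.toSetup.cent _ hgn)
        simpa using H.mul_mem h2 (H.inv_mem hn)
      refine ⟨⟨fun a b => Subtype.ext ((key a).trans (key b).symm)⟩, ⟨⟨((1 : G) : G ⧸ H), fun a => ?_⟩⟩⟩
      show (((a : G) * 1 : G) : G ⧸ H) = _
      rw [mul_one, QuotientGroup.eq, mul_one]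
      exact H.inv_mem ((Subgroup.zpowers_le.2 hM.1.1) a.2)
    rw [h1] at hm
    exact hm
  have hne1 : H.index ≠ 1 := fun e => by
    have hnorm : M.Normal := Subgroup.normalizer_eq_top_iff.1 (Subgroup.index_eq_one.1 e)
    rcases hnorm.eq_bot_or_eq_top with e' | e'
    · exact hM.2.1 e'
    · exact hM.1.2 (e' ▸ Subgroup.mem_top x)
  have hne4 : H.index ≠ 4 := fun e => by
    have hcore : H.normalCore = ⊥ := by
      rcases (inferInstance : H.normalCore.Normal).eq_bot_or_eq_top with e' | e'
      · exact e'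
      · exfalso
        refine hne1 (Subgroup.index_eq_one.2 (top_le_iff.1 ?_))
        rw [← e']; exact Subgroup.normalCore_le H
    have hinj : Function.Injective (MulAction.toPermHom G (G ⧸ H)) := by
      rw [← MonoidHom.ker_eq_bot_iff, ← Subgroup.normalCore_eq_ker]; exact hcore
    haveI := Fintype.ofFinite (G ⧸ H)
    have hle := Nat.card_le_card_of_injective _ hinj
    rw [Nat.card_perm, ← Subgroup.index_eq_card, e] at hle
    norm_num [Nat.factorial] at hle
    have := h.four_le hM
    rw [e] at hg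
    omega
  have h7 : 7 ≤ H.index := by
    have := Nat.pos_of_ne_zero H.index_ne_zero_of_finite
    omega
  calc 42 * Nat.card M = 7 * (6 * Nat.card M) := by ring
    _ ≤ H.index * (6 * Nat.card M) := Nat.mul_le_mul_right _ h7
    _ = _ := hg

theorem Ctx.bound_pair (h : Ctx x s) {M : Subgroup G} (hM : IsMax x M)
    (hs : s ∉ Subgroup.normalizer (M : Set G))
    (hodd : ∃ r, r.Prime ∧ r ≠ 2 ∧ r ∣ Nat.card M) :
    3 * Nat.card M * (Nat.card M + 1) ≤ Nat.card G := by
  classical
  set H := Subgroup.normalizer (M : Set G) with hH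
  have hH3 : Nat.card H = 3 * Nat.card M := by
    rcases (h.max_norm hM).2 with ⟨e, -⟩ | ⟨-, e⟩
    · exact e
    · exact absurd e hs
  have hM' := h.max_conj_s hM
  have hne : conjSub s M ≠ M := fun e => hs (conjSub_eq_self.1 e)
  have hti := h.ti hM hM' hne (Or.inr hodd)
  have hint : ∀ y ∈ M, s⁻¹ * y * s ∈ H → y = 1 := by
    intro y hy hyH
    haveI : (M.subgroupOf H).Normal := Subgroup.normal_subgroupOf_of_le_normalizer le_rfl
    have hidx : (M.subgroupOf H).index = 3 := by
      have h1 := (M.subgroupOf H).index_mul_card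
      rw [Nat.card_congr (Subgroup.subgroupOfEquivOfLe (Subgroup.le_normalizer (H := M))).toEquiv,
        hH3] at h1
      exact Nat.eq_of_mul_eq_mul_right Nat.card_pos h1
    have h1 := Subgroup.pow_index_mem (M.subgroupOf H) (⟨_, hyH⟩ : H)
    rw [hidx, Subgroup.mem_subgroupOf] at h1
    have h2 : (s⁻¹ * y * s) ^ 3 ∈ M := h1
    have e : (s⁻¹ * y * s) ^ 3 = s⁻¹ * y ^ 3 * s := by simp only [pow_succ, pow_zero, one_mul]; group
    rw [e] at h2
    have h3 : y ^ 3 ∈ M ⊓ conjSub s M := ⟨M.pow_mem hy 3, mem_conjSub.2 h2⟩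
    rw [hti, Subgroup.mem_bot] at h3
    have hd : orderOf y ∣ 1 := by
      rw [← Nat.coprime_iff_gcd_eq_one.1 (h.toSetup.coprime_three hM.1.1 hM.1.2)]
      exact Nat.dvd_gcd (Subgroup.orderOf_dvd_natCard M hy) (orderOf_dvd_of_pow_eq_one h3)
    exact orderOf_eq_one_iff.1 (Nat.dvd_one.1 hd)
  have hidx : Nat.card M + 1 ≤ H.index := by
    rw [Subgroup.index_eq_card, ← Finite.card_option]
    refine Nat.card_le_card_of_injective
      (fun o : Option M => o.elim ((1 : G) : G ⧸ H) fun m => (((m : G) * s : G) : G ⧸ H)) ?_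
    have hne1 : ∀ m : M, ((1 : G) : G ⧸ H) ≠ (((m : G) * s : G) : G ⧸ H) := fun m e => by
      rw [QuotientGroup.eq, inv_one, one_mul] at e
      exact hs (by simpa using H.mul_mem (H.inv_mem (Subgroup.le_normalizer m.2)) e)
    intro a b hab
    rcases a with _ | a <;> rcases b with _ | b <;> simp only [Option.elim] at hab
    · rfl
    · exact absurd hab (hne1 b)
    · exact absurd hab.symm (hne1 a)
    · rw [QuotientGroup.eq] at hab
      have e : ((a : G) * s)⁻¹ * ((b : G) * s) = s⁻¹ * ((a : G)⁻¹ * b) * s := by group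
      rw [e] at hab
      have := hint _ (M.mul_mem (M.inv_mem a.2) b.2) hab
      rw [inv_mul_eq_one] at this
      exact congrArg some (Subtype.ext this)
  calc 3 * Nat.card M * (Nat.card M + 1) ≤ Nat.card H * H.index := by
        rw [hH3]; exact Nat.mul_le_mul_left _ hidx
    _ = _ := H.card_mul_index

theorem Ctx.bound_even (h : Ctx x s)
    (hinv : ∀ u : G, orderOf u = 2 → IsConj s u) {M : Subgroup G} (hM : IsMax x M)
    (h2 : 2 ∣ Nat.card M) : Nat.card M ≤ Nat.card (Subgroup.centralizer ({s} : Set G)) := by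
  haveI := Fact.mk Nat.prime_two
  obtain ⟨u, -, huo, huc⟩ := exists_central (h.nilpotent hM.1) h2
  rw [card_centralizer_conj (hinv u huo)]
  exact Subgroup.card_le_of_le fun m hm => Subgroup.mem_centralizer_singleton_iff.2 (huc m hm).eq

theorem Ctx.bound_inv (h : Ctx x s) (hinv : ∀ u : G, orderOf u = 2 → IsConj s u) {M : Subgroup G}
    (hM : IsMax x M) (h2 : 2 ∣ Nat.card M) (hs : s ∈ Subgroup.normalizer (M : Set G)) :
    2 * Nat.card M ≤ Nat.card (Subgroup.centralizer ({s} : Set G)) := by
  classical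
  haveI := Fact.mk Nat.prime_two
  obtain ⟨u, huM, huo, huc⟩ := exists_central (h.nilpotent hM.1) h2
  have hsq : u * u = 1 := by rw [← pow_two, ← huo, pow_orderOf_eq_one]
  have hss : s * s = 1 := by rw [← pow_two]; exact h.toSimp.s_sq
  have hsi : s⁻¹ = s := inv_eq_of_mul_eq_one_right hss
  set v := s * u * s⁻¹ with hv
  have hvM : v ∈ M := (Subgroup.mem_normalizer_iff.1 hs u).1 huM
  have hvc : ∀ m ∈ M, Commute m v := fun m hm => by
    have h1 : s⁻¹ * m * s ∈ M := by
      have := (Subgroup.mem_normalizer_iff.1 (inv_mem hs) m).1 hm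
      rwa [inv_inv] at this
    show m * (s * u * s⁻¹) = s * u * s⁻¹ * m
    calc m * (s * u * s⁻¹) = s * (s⁻¹ * m * s * u) * s⁻¹ := by group
      _ = s * (u * (s⁻¹ * m * s)) * s⁻¹ := by rw [(huc _ h1).eq]
      _ = _ := by group
  have hsv : s * v * s⁻¹ = u := by
    rw [hv, hsi]
    calc s * (s * u * s) * s = (s * s) * u * (s * s) := by group
      _ = u := by rw [hss, one_mul, mul_one]
  obtain ⟨e, heM, hec, hes, heo⟩ : ∃ e ∈ M, (∀ m ∈ M, Commute m e) ∧ Commute s e ∧ orderOf e = 2 := by
    by_cases hvu : v = u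
    · exact ⟨u, huM, huc, mul_inv_eq_iff_eq_mul.1 hvu, huo⟩
    · have hvv : v * v = 1 := by
        rw [hv]
        calc s * u * s⁻¹ * (s * u * s⁻¹) = s * (u * u) * s⁻¹ := by group
          _ = 1 := by rw [hsq, mul_one, mul_inv_cancel]
      have huv : Commute u v := hvc u huM
      refine ⟨u * v, M.mul_mem huM hvM, fun m hm => (huc m hm).mul_right (hvc m hm), ?_,
        orderOf_eq_prime ?_ ?_⟩
      · show s * (u * v) = u * v * s
        calc s * (u * v) = (s * u * s⁻¹) * (s * v * s⁻¹) * s := by group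
          _ = v * u * s := by rw [hsv]
          _ = u * v * s := by rw [huv.eq]
      · rw [huv.mul_pow, pow_two, pow_two, hsq, hvv, mul_one]
      · intro e1
        exact hvu ((eq_inv_of_mul_eq_one_right e1).trans (inv_eq_of_mul_eq_one_right hsq))
  rw [card_centralizer_conj (hinv e heo), ← Fintype.card_bool, ← Nat.card_eq_fintype_card, ← Nat.card_prod]
  have hsC : s ∈ Subgroup.centralizer ({e} : Set G) := Subgroup.mem_centralizer_singleton_iff.2 hes.eq
  refine Nat.card_le_card_of_injective
    (fun p : Bool × M => (⟨(p.2 : G) * (if p.1 then s else 1), by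
      refine mul_mem (Subgroup.mem_centralizer_singleton_iff.2 (hec _ p.2.2).eq) ?_
      split_ifs
      · exact hsC
      · exact one_mem _⟩ : Subgroup.centralizer ({e} : Set G))) ?_
  rintro ⟨a, m⟩ ⟨b, m'⟩ hab
  have e1 : (m : G) * (if a then s else 1) = (m' : G) * (if b then s else 1) := congrArg Subtype.val hab
  have hnot : ∀ k k' : M, (k : G) * s ≠ (k' : G) := fun k k' e2 =>
    h.inverter_not_mem hM.1 h.inv (by
      have : s = (k : G)⁻¹ * k' := by rw [← e2, inv_mul_cancel_left]
      rw [this]; exact M.mul_mem (M.inv_mem k.2) k'.2)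
  cases a <;> cases b <;> simp only [Bool.false_eq_true, if_false, if_true, mul_one] at e1
  · rw [Subtype.ext e1]
  · exact absurd e1.symm (hnot m' m)
  · exact absurd e1 (hnot m m')
  · rw [Subtype.ext (mul_right_cancel e1)]

theorem Ctx.card_sq (h : Ctx x s) {M : Subgroup G} (hM : IsMax x M)
    (hs : s ∈ Subgroup.normalizer (M : Set G)) :
    Nat.card M = Nat.card ↥(M ⊓ Subgroup.centralizer ({s} : Set G)) ^ 2 := by
  have hx := hM.1.1
  have hsi : s⁻¹ = s := inv_eq_of_mul_eq_one_right (by rw [← pow_two]; exact h.toSimp.s_sq)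
  apply le_antisymm
  · haveI := h.nilpotent hM.1
    have hxx : x * x * x = 1 := by rw [← pow_three', h.toSetup.pow_three]
    have hact : Square.Act (autOf x hx) (autOf s hs) := by
      refine ⟨fun m => Subtype.ext ?_, fun m hm => Subtype.ext ?_, fun m => Subtype.ext ?_,
        fun m => Subtype.ext ?_⟩
      · show x * (x * (x * (m : G) * x⁻¹) * x⁻¹) * x⁻¹ = m
        calc x * (x * (x * (m : G) * x⁻¹) * x⁻¹) * x⁻¹ = (x * x * x) * m * (x * x * x)⁻¹ := by group
          _ = m := by rw [hxx, one_mul, inv_one, mul_one]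
      · have e : x * (m : G) * x⁻¹ = m := congrArg Subtype.val hm
        exact h.toSetup.fix_eq_one hM.1.2 m.2 (mul_inv_eq_iff_eq_mul.1 e).symm
      · show s * (s * (m : G) * s⁻¹) * s⁻¹ = m
        calc s * (s * (m : G) * s⁻¹) * s⁻¹ = (s * s) * m * (s * s)⁻¹ := by group
          _ = m := by rw [← pow_two, h.toSimp.s_sq, one_mul, inv_one, mul_one]
      · show s * (x * (m : G) * x⁻¹) * s⁻¹ = x * (x * (s * (m : G) * s⁻¹) * x⁻¹) * x⁻¹
        have e : s * x = x * x * s := by
          rw [← pow_two, ← h.toSetup.inv_eq, ← h.inv]; group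
        calc s * (x * (m : G) * x⁻¹) * s⁻¹ = (s * x) * m * (s * x)⁻¹ := by group
          _ = (x * x * s) * m * (x * x * s)⁻¹ := by rw [e]
          _ = _ := by group
    refine (Square.card_le_sq _ _ _ rfl hact).trans (Nat.pow_le_pow_left (le_of_eq ?_) 2)
    refine Nat.card_congr
      { toFun := fun m => ⟨((m : M) : G), m.1.2, Subgroup.mem_centralizer_singleton_iff.2
          (mul_inv_eq_iff_eq_mul.1 (congrArg Subtype.val m.2)).symm⟩
        invFun := fun m => ⟨⟨m.1, m.2.1⟩, Subtype.ext (mul_inv_eq_iff_eq_mul.2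
          (Subgroup.mem_centralizer_singleton_iff.1 m.2.2).symm)⟩
        left_inv := fun m => rfl
        right_inv := fun m => rfl }
  · rw [pow_two, ← Nat.card_prod]
    refine Nat.card_le_card_of_injective
      (fun p : ↥(M ⊓ Subgroup.centralizer ({s} : Set G)) × ↥(M ⊓ Subgroup.centralizer ({s} : Set G)) =>
        (⟨(p.1 : G) * (x * (p.2 : G) * x⁻¹), M.mul_mem p.1.2.1 (h.toSetup.conj_pow_mem hx p.2.2.1)⟩ : M)) ?_
    rintro ⟨a, b⟩ ⟨a', b'⟩ hab
    have e : (a : G) * (x * b * x⁻¹) = (a' : G) * (x * b' * x⁻¹) := congrArg Subtype.val hab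
    set w := (b' : G) * (b : G)⁻¹ with hw
    have hwC : w ∈ M ⊓ Subgroup.centralizer ({s} : Set G) := mul_mem b'.2 (inv_mem b.2)
    have hxw : x * w * x⁻¹ = (a' : G)⁻¹ * a := by
      calc x * w * x⁻¹ = (x * b' * x⁻¹) * (x * b * x⁻¹)⁻¹ := by rw [hw]; group
        _ = (a' : G)⁻¹ * ((a' : G) * (x * b' * x⁻¹)) * (x * b * x⁻¹)⁻¹ := by group
        _ = (a' : G)⁻¹ * ((a : G) * (x * b * x⁻¹)) * (x * b * x⁻¹)⁻¹ := by rw [e]
        _ = (a' : G)⁻¹ * a := by group
    have hxwC : x * w * x⁻¹ ∈ M ⊓ Subgroup.centralizer ({s} : Set G) :=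
      hxw ▸ mul_mem (inv_mem a'.2) a.2
    have c1 : Commute s w := (Subgroup.mem_centralizer_singleton_iff.1 hwC.2).symm
    have c2 : Commute s (x * w * x⁻¹) := (Subgroup.mem_centralizer_singleton_iff.1 hxwC.2).symm
    have c3 : Commute (x⁻¹ * s * x) w := by
      show x⁻¹ * s * x * w = w * (x⁻¹ * s * x)
      calc x⁻¹ * s * x * w = x⁻¹ * (s * (x * w * x⁻¹)) * x := by group
        _ = x⁻¹ * (x * w * x⁻¹ * s) * x := by rw [c2.eq]
        _ = _ := by group
    have e4 : x⁻¹ * s * x * s = x := by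
      have h5 : s * x * s = x⁻¹ := by
        have := h.inv
        rwa [hsi] at this
      calc x⁻¹ * s * x * s = x⁻¹ * (s * x * s) := by group
        _ = x := by rw [h5, ← pow_two x⁻¹, inv_pow, ← h.toSetup.inv_eq, inv_inv]
    have c4 : Commute x w := e4 ▸ c3.mul_left c1
    have hw1 : w = 1 := h.toSetup.fix_eq_one hM.1.2 hwC.1 c4.symm
    have hb : b' = b := Subtype.ext (mul_inv_eq_one.1 hw1)
    rw [hw1, mul_one, mul_inv_cancel] at hxw
    have ha : a' = a := Subtype.ext (inv_mul_eq_one.1 hxw.symm)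
    rw [ha, hb]

/-- The count. -/
theorem Ctx.count [IsSimpleGroup G] (h : Ctx x s) (hinv : ∀ u : G, orderOf u = 2 → IsConj s u) :
    ∃ (r : ℕ) (D : Finset ℕ),
      2 * r * r ≤ Nat.card (Subgroup.centralizer ({s} : Set G)) ∧
      (∀ d ∈ D, d % 6 = 1 ∧ 7 ≤ d ∧ d ∣ Nat.card G) ∧
      (∀ a ∈ D, ∀ b ∈ D, a ≠ b → a.Coprime b) ∧
      (sigSet x).ncard ≤ (Nat.card (Subgroup.centralizer ({s} : Set G)) - 2) * (r + 1) +
        2 * (Nat.card (Subgroup.centralizer ({s} : Set G)) - 1) +
        (∑ d ∈ D, Arith.weight (Nat.card G) d) + 1 := by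
  classical
  haveI := Fintype.ofFinite G
  haveI := Fintype.ofFinite (Subgroup G)
  set c := Nat.card (Subgroup.centralizer ({s} : Set G)) with hc
  set g := Nat.card G with hg
  let sz : Subgroup G → ℕ := fun M => Nat.card M
  let q : Subgroup G → ℕ := fun M => Nat.card ↥(M ⊓ Subgroup.centralizer ({s} : Set G))
  set T : Finset (Subgroup G) := Finset.univ.filter fun M => IsMax x M with hT
  set To := T.filter fun M => ¬ 2 ∣ sz M with hTo
  set Tn := T.filter fun M => 2 ∣ sz M ∧ s ∉ Subgroup.normalizer (M : Set G) with hTn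
  set Ts := T.filter fun M => 2 ∣ sz M ∧ s ∈ Subgroup.normalizer (M : Set G) with hTs
  have memT : ∀ {M}, M ∈ T → IsMax x M := fun hM => (Finset.mem_filter.1 hM).2
  set D := To.image sz with hD
  refine ⟨Ts.sup q, D, ?_, ?_, ?_, ?_⟩
  · rcases Ts.eq_empty_or_nonempty with e | hne
    · simp [e]
    · obtain ⟨M, hM, e⟩ := Finset.exists_mem_eq_sup Ts hne q
      obtain ⟨hMT, h2, hs⟩ := Finset.mem_filter.1 hM
      rw [e]
      have h1 := h.bound_inv hinv (memT hMT) h2 hs
      rw [h.card_sq (memT hMT) hs] at h1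
      show 2 * q M * q M ≤ c
      have : q M ^ 2 = q M * q M := pow_two _
      calc 2 * q M * q M = 2 * q M ^ 2 := by ring
        _ ≤ c := h1
  · intro d hd
    obtain ⟨M, hM, rfl⟩ := Finset.mem_image.1 hd
    obtain ⟨hMT, h2⟩ := Finset.mem_filter.1 hM
    have h1 := h.toSetup.card_mod_three (memT hMT).1.1 (memT hMT).1.2
    have h4 := h.four_le (memT hMT)
    refine ⟨?_, ?_, Subgroup.card_subgroup_dvd_card M⟩ <;> (simp only [sz] at *; omega)
  · intro a ha b hb hab
    obtain ⟨M, hM, rfl⟩ := Finset.mem_image.1 ha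
    obtain ⟨M', hM', rfl⟩ := Finset.mem_image.1 hb
    obtain ⟨hMT, h2⟩ := Finset.mem_filter.1 hM
    obtain ⟨hMT', -⟩ := Finset.mem_filter.1 hM'
    refine Nat.coprime_of_dvd fun p hp hpa hpb => hab ?_
    rcases h.same_of_dvd (memT hMT) (memT hMT') hp hpa hpb (fun e => absurd (e ▸ hpa) h2) with e | e
    · rw [e]
    · rw [e]; exact (card_conjSub s M).symm
  · -- covering
    have hcover : (sigSet x).ncard ≤ 1 + ∑ M ∈ T, (sz M - 1) := by
      have hsub : (Finset.univ.filter fun a : G => a ∈ sigSet x) ⊆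
          insert 1 (T.biUnion fun M => (Finset.univ.filter fun a : G => a ∈ M).erase 1) := by
        intro a ha
        obtain ⟨-, ha⟩ := Finset.mem_filter.1 ha
        by_cases ha1 : a = 1
        · exact ha1 ▸ Finset.mem_insert_self _ _
        obtain ⟨M, hM, haM⟩ := h.exists_max_of_mem ha ha1
        exact Finset.mem_insert_of_mem (Finset.mem_biUnion.2 ⟨M, Finset.mem_filter.2 ⟨Finset.mem_univ _, hM⟩,
          Finset.mem_erase.2 ⟨ha1, Finset.mem_filter.2 ⟨Finset.mem_univ _, haM⟩⟩⟩)
      have e : (sigSet x).ncard = (Finset.univ.filter fun a : G => a ∈ sigSet x).card := by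
        rw [← Set.ncard_coe_finset]; simp
      rw [e]
      refine (Finset.card_le_card hsub).trans ((Finset.card_insert_le _ _).trans ?_)
      rw [add_comm]
      refine Nat.add_le_add_left (Finset.card_biUnion_le.trans (Finset.sum_le_sum fun M _ => ?_)) _
      rw [Finset.card_erase_of_mem (Finset.mem_filter.2 ⟨Finset.mem_univ _, M.one_mem⟩)]
      show _ ≤ Nat.card M - 1
      rw [Nat.card_eq_fintype_card, Fintype.card_subtype]
    have hsplit : ∑ M ∈ T, (sz M - 1) =
        ∑ M ∈ Ts, (sz M - 1) + ∑ M ∈ Tn, (sz M - 1) + ∑ M ∈ To, (sz M - 1) := by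
      simp only [hTo, hTn, hTs, Finset.sum_filter, ← Finset.sum_add_distrib]
      refine Finset.sum_congr rfl fun M _ => ?_
      split_ifs <;> simp_all
    have hodd : ∑ M ∈ To, (sz M - 1) ≤ ∑ d ∈ D, Arith.weight g d := by
      rw [← Finset.sum_fiberwise_of_maps_to (fun M hM => Finset.mem_image_of_mem sz hM)]
      refine Finset.sum_le_sum fun d hd => ?_
      obtain ⟨M, hM, rfl⟩ := Finset.mem_image.1 hd
      obtain ⟨hMT, h2⟩ := Finset.mem_filter.1 hM
      have hMm := memT hMT
      set d := sz M with hdd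
      have hd4 : 4 ≤ d := h.four_le hMm
      rw [Finset.sum_congr rfl (g := fun _ => d - 1) fun M' hM' => by rw [(Finset.mem_filter.1 hM').2],
        Finset.sum_const, smul_eq_mul]
      obtain ⟨p, hp, hpd⟩ := Nat.exists_prime_and_dvd (show d ≠ 1 by omega)
      have hp2 : p ≠ 2 := fun e => h2 (e ▸ hpd)
      have hsub : To.filter (fun M' => sz M' = d) ⊆ {M, conjSub s M} := by
        intro M' hM'
        obtain ⟨hM'o, hcard⟩ := Finset.mem_filter.1 hM'
        rcases h.same_of_dvd hMm (memT (Finset.mem_filter.1 hM'o).1) hp hpd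
            (show p ∣ sz M' by rw [hcard]; exact hpd) (fun e => absurd e hp2) with e | e <;> simp [e]
      have hdg : g % d = 0 := Nat.mod_eq_zero_of_dvd (Subgroup.card_subgroup_dvd_card M)
      rw [Arith.weight, if_pos hdg]
      by_cases hs : s ∈ Subgroup.normalizer (M : Set G)
      · rw [conjSub_eq_self.2 hs, Finset.pair_eq_singleton] at hsub
        have hle : (To.filter (fun M' => sz M' = d)).card ≤ 1 :=
          (Finset.card_le_card hsub).trans (by simp)
        have h42 : 42 * d ≤ g := h.bound_single hMm hs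
        refine (Nat.mul_le_mul_right _ hle).trans ?_
        rw [one_mul]
        split_ifs <;> omega
      · have hle : (To.filter (fun M' => sz M' = d)).card ≤ 2 :=
          (Finset.card_le_card hsub).trans Finset.card_le_two
        have h3 : 3 * d * (d + 1) ≤ g := h.bound_pair hMm hs ⟨p, hp, hp2, hpd⟩
        rw [if_pos h3]
        exact Nat.mul_le_mul_right _ hle
    have hnon : ∑ M ∈ Tn, (sz M - 1) ≤ 2 * (c - 1) := by
      rcases Tn.eq_empty_or_nonempty with e | ⟨M, hM⟩
      · simp [e]
      obtain ⟨hMT, h2, hs⟩ := Finset.mem_filter.1 hM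
      have hsub : Tn ⊆ {M, conjSub s M} := by
        intro M' hM'
        obtain ⟨hMT', h2', hs'⟩ := Finset.mem_filter.1 hM'
        rcases h.same_of_dvd (memT hMT) (memT hMT') Nat.prime_two h2 h2' (fun _ => ⟨hs, hs'⟩)
          with e | e <;> simp [e]
      refine (Finset.sum_le_card_nsmul _ _ (c - 1) fun M' hM' => ?_).trans ?_
      · obtain ⟨hMT', h2', -⟩ := Finset.mem_filter.1 hM'
        have := h.bound_even hinv (memT hMT') h2'
        simp only [sz]
        omega
      · rw [smul_eq_mul]
        exact Nat.mul_le_mul_right _ ((Finset.card_le_card hsub).trans Finset.card_le_two)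
    have hinvs : ∑ M ∈ Ts, (sz M - 1) ≤ (c - 2) * (Ts.sup q + 1) := by
      have hq : ∑ M ∈ Ts, (q M - 1) ≤ c - 2 := by
        let CM : Subgroup G → Finset G := fun M =>
          (Finset.univ.filter fun a : G => a ∈ M ⊓ Subgroup.centralizer ({s} : Set G)).erase 1
        have hcardCM : ∀ M, (CM M).card = q M - 1 := fun M => by
          simp only [CM, q]
          rw [Finset.card_erase_of_mem (Finset.mem_filter.2 ⟨Finset.mem_univ _, one_mem _⟩),
            Nat.card_eq_fintype_card, Fintype.card_subtype]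
        have hdisj : (Ts : Set (Subgroup G)).PairwiseDisjoint CM := by
          intro M hM M' hM' hne
          obtain ⟨hMT, -, hs⟩ := Finset.mem_filter.1 hM
          obtain ⟨hMT', -, -⟩ := Finset.mem_filter.1 hM'
          refine Finset.disjoint_left.2 fun a ha ha' => (Finset.mem_erase.1 ha).1 ?_
          have h1 : a ∈ M ⊓ M' := ⟨(Finset.mem_filter.1 (Finset.mem_erase.1 ha).2).2.1,
            (Finset.mem_filter.1 (Finset.mem_erase.1 ha').2).2.1⟩
          rwa [h.ti (memT hMT) (memT hMT') (Ne.symm hne) (Or.inl hs), Subgroup.mem_bot] at h1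
        have hsub : Ts.biUnion CM ⊆
            ((Finset.univ.filter fun a : G => a ∈ Subgroup.centralizer ({s} : Set G)).erase 1).erase s := by
          intro a ha
          obtain ⟨M, hM, ha⟩ := Finset.mem_biUnion.1 ha
          obtain ⟨ha1, ha⟩ := Finset.mem_erase.1 ha
          obtain ⟨-, haM, haC⟩ := Finset.mem_filter.1 ha
          refine Finset.mem_erase.2 ⟨fun e => ?_, Finset.mem_erase.2
            ⟨ha1, Finset.mem_filter.2 ⟨Finset.mem_univ _, haC⟩⟩⟩
          exact h.inverter_not_mem (memT (Finset.mem_filter.1 hM).1).1 h.inv (e ▸ haM)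
        have h1 := Finset.card_le_card hsub
        rw [Finset.card_biUnion hdisj, Finset.card_erase_of_mem (Finset.mem_erase.2 ⟨h.toSimp.s_ne,
          Finset.mem_filter.2 ⟨Finset.mem_univ _, Subgroup.mem_centralizer_singleton_iff.2 rfl⟩⟩),
          Finset.card_erase_of_mem (Finset.mem_filter.2 ⟨Finset.mem_univ _, one_mem _⟩)] at h1
        simp only [hcardCM] at h1
        have e : c = (Finset.univ.filter fun a : G => a ∈ Subgroup.centralizer ({s} : Set G)).card := by
          rw [hc, Nat.card_eq_fintype_card, Fintype.card_subtype]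
        rw [Nat.sub_sub] at h1
        rw [← e] at h1
        exact h1
      calc ∑ M ∈ Ts, (sz M - 1) ≤ ∑ M ∈ Ts, (q M - 1) * (Ts.sup q + 1) := by
            refine Finset.sum_le_sum fun M hM => ?_
            obtain ⟨hMT, -, hs⟩ := Finset.mem_filter.1 hM
            have hle : q M ≤ Ts.sup q := Finset.le_sup hM
            have e : sz M = q M ^ 2 := h.card_sq (memT hMT) hs
            rw [e, show q M ^ 2 - 1 = (q M - 1) * (q M + 1) by
              rw [← one_pow 2, Nat.sq_sub_sq, one_pow, mul_comm]]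
            exact Nat.mul_le_mul_left _ (Nat.succ_le_succ hle)
        _ = (∑ M ∈ Ts, (q M - 1)) * (Ts.sup q + 1) := (Finset.sum_mul _ _ _).symm
        _ ≤ _ := Nat.mul_le_mul_right _ hq
    omega

end Cfsg.Agent.Solv.SelfThree
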