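import Cfsg.Agent.Lib.Perm.Schmidt
import Cfsg.Agent.Lib.Solv.ThompsonFPF

/-!
Elementary facts on nilpotent subgroups.
-/

set_option autoImplicit false

namespace Cfsg.Agent.Solv.SelfThree

universe u

variable {G : Type u} [Group G] [Finite G]

/-- The `r`-part of a nilpotent subgroup. -/
theorem exists_part (M : Subgroup G) (hM : Group.IsNilpotent M) (r : ℕ) [Fact r.Prime] :
    ∃ R : Subgroup G, R ≤ M ∧ IsPGroup r R ∧ Nat.card R = r ^ (Nat.card M).factorization r ∧
      (∀ m ∈ M, (∃ k, m ^ r ^ k = 1) → m ∈ R) ∧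
      Subgroup.normalizer (M : Set G) ≤ Subgroup.normalizer (R : Set G) := by
  obtain ⟨P⟩ : Nonempty (Sylow r M) := inferInstance
  haveI hPn := Perm.sylow_normal_of_nilpotent hM P
  set R := (P : Subgroup M).map M.subtype with hR
  have hchar : ∀ m ∈ M, (∃ k, m ^ r ^ k = 1) → m ∈ R := by
    rintro m hm ⟨k, hk⟩
    have hp : IsPGroup r (Subgroup.zpowers (⟨m, hm⟩ : M)) :=
      IsPGroup.of_card_dvd_pow (n := k) (by
        rw [Nat.card_zpowers]
        exact orderOf_dvd_of_pow_eq_one (Subtype.ext (by simpa using hk)))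
    obtain ⟨Q, hQ⟩ := hp.exists_le_sylow
    haveI := Sylow.unique_of_normal P hPn
    exact ⟨_, (Subsingleton.elim Q P) ▸ hQ (Subgroup.mem_zpowers _), rfl⟩
  refine ⟨R, Subgroup.map_subtype_le _, P.isPGroup'.map _, ?_, hchar, ?_⟩
  · rw [hR, Subgroup.card_map_of_injective M.subtype_injective, P.card_eq_multiplicity]
  · intro g hg
    refine mem_normalizer_of_map_conj (Subgroup.eq_of_le_of_card_ge ?_
      (Subgroup.card_map_of_injective (MulAut.conj g).injective).ge)
    rintro _ ⟨v, hv, rfl⟩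
    obtain ⟨k, hk⟩ := (P.isPGroup'.map M.subtype) ⟨v, hv⟩
    refine hchar _ ((Subgroup.mem_normalizer_iff.1 hg v).1 (Subgroup.map_subtype_le _ hv)) ⟨k, ?_⟩
    have hk' : v ^ r ^ k = 1 := congrArg Subtype.val hk
    show (g * v * g⁻¹) ^ r ^ k = 1
    rw [conj_pow, hk', mul_one, mul_inv_cancel]

/-- A proper subgroup of a nilpotent subgroup grows in its normaliser. -/
theorem lt_inf_normalizer {M D : Subgroup G} (hM : Group.IsNilpotent M) (hDM : D < M) :
    D < M ⊓ Subgroup.normalizer (D : Set G) := by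
  haveI := hM
  have hne : D.subgroupOf M ≠ ⊤ := fun e => not_le_of_gt hDM (Subgroup.subgroupOf_eq_top.1 e)
  have hlt := normalizerCondition_of_isNilpotent (G := M) _ hne.lt_top
  refine lt_of_le_of_ne (le_inf hDM.le Subgroup.le_normalizer) fun e => not_lt_of_ge ?_ hlt
  intro m hm
  rw [Subgroup.mem_subgroupOf, e]
  refine ⟨m.2, Subgroup.mem_normalizer_iff.2 fun d => ?_⟩
  constructor
  · intro hd
    exact (Subgroup.mem_normalizer_iff.1 hm ⟨d, hDM.le hd⟩).1 hd
  · intro hd
    have hdM : d ∈ M := by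
      have h1 := M.mul_mem (M.mul_mem (M.inv_mem m.2) (hDM.le hd)) m.2
      simpa [mul_assoc] using h1
    exact (Subgroup.mem_normalizer_iff.1 hm ⟨d, hdM⟩).2 hd

/-- A nilpotent group of order divisible by `r` has a central element of order `r`. -/
theorem exists_central {M : Subgroup G} (hM : Group.IsNilpotent M) {r : ℕ} [Fact r.Prime]
    (hr : r ∣ Nat.card M) :
    ∃ u ∈ M, orderOf u = r ∧ ∀ m ∈ M, Commute m u := by
  obtain ⟨R, hRM, hRp, hRc, hRmem, -⟩ := exists_part M hM r
  have hrR : r ∣ Nat.card R := by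
    rw [hRc]
    refine dvd_pow_self r ?_
    exact (Nat.Prime.factorization_pos_of_dvd (Fact.out) Nat.card_pos.ne' hr).ne'
  haveI : Nontrivial R := Finite.one_lt_card_iff_nontrivial.1
    (lt_of_lt_of_le (Fact.out : r.Prime).one_lt (Nat.le_of_dvd Nat.card_pos hrR))
  haveI := hRp.center_nontrivial
  have hzd : r ∣ Nat.card (Subgroup.center R) := by
    obtain ⟨k, hk⟩ := IsPGroup.iff_card.1 (hRp.to_subgroup (Subgroup.center R))
    rw [hk]
    refine dvd_pow_self r fun h0 => ?_
    rw [h0, pow_zero] at hk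
    exact absurd hk (Finite.one_lt_card (α := Subgroup.center R)).ne'
  obtain ⟨z, hz⟩ := exists_prime_orderOf_dvd_card' r hzd
  set u : G := ((z : R) : G) with hu
  refine ⟨u, hRM (z : R).2, ?_, fun m hm => ?_⟩
  · rw [hu, Subgroup.orderOf_coe, Subgroup.orderOf_coe, hz]
  · set C := M ⊓ Subgroup.centralizer ({u} : Set G) with hC
    have hsub : C = M := by
      refine Subgroup.eq_of_le_of_card_ge inf_le_left (Nat.le_of_dvd Nat.card_pos ?_)
      rw [Nat.dvd_iff_prime_pow_dvd_dvd]
      intro q k hq hqd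
      haveI := Fact.mk hq
      obtain ⟨Rq, hQM, hQp, hQc, -, -⟩ := exists_part M hM q
      have hle : Rq ≤ C := fun v hv => by
        refine ⟨hQM hv, Subgroup.mem_centralizer_singleton_iff.2 ?_⟩
        by_cases hqr : q = r
        · subst hqr
          obtain ⟨j, hj⟩ := hQp ⟨v, hv⟩
          have hvR : v ∈ R := hRmem v (hQM hv) ⟨j, congrArg Subtype.val hj⟩
          exact congrArg Subtype.val (Subgroup.mem_center_iff.1 z.2 ⟨v, hvR⟩)
        · have := Perm.commute_of_le_nilpotent hM hqr hQp hRp hQM hRM hv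
          exact (Subgroup.mem_centralizer_iff.1 this u (z : R).2).symm
      refine dvd_trans ?_ (Subgroup.card_dvd_of_le hle)
      rw [hQc]
      exact pow_dvd_pow q ((hq.pow_dvd_iff_le_factorization Nat.card_pos.ne').1 hqd)
    exact Subgroup.mem_centralizer_singleton_iff.1 (hsub ▸ hm : m ∈ C).2

end Cfsg.Agent.Solv.SelfThree
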