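import Cfsg.Agent.S0495
import Mathlib.LinearAlgebra.Matrix.SpecialLinearGroup
import Mathlib.GroupTheory.Sylow

/-!
An element of order three of the simple group of order 168 normalises a four-group and a subgroup
of order seven.
-/

set_option autoImplicit false

open scoped Pointwise

namespace Cfsg.Agent.Solv.SelfThree.PSLData

universe u

abbrev SL := Matrix.SpecialLinearGroup (Fin 2) (ZMod 7)

def yS : SL := ⟨!![4, 0; 0, 2], by decide +kernel⟩

def tS : SL := ⟨!![3, 1; 4, 4], by decide +kernel⟩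

def cS : SL := ⟨!![1, 1; 0, 1], by decide +kernel⟩

def jS : SL := ⟨!![6, 0; 0, 6], by decide +kernel⟩

theorem facts : yS * yS * yS = 1 ∧ tS * tS = jS ∧
    (tS * (yS * tS * yS⁻¹) * (yS * yS * tS * (yS * yS)⁻¹) = 1 ∨
      tS * (yS * tS * yS⁻¹) * (yS * yS * tS * (yS * yS)⁻¹) = jS) ∧
    (tS * (yS * yS * tS * (yS * yS)⁻¹) * (yS * tS * yS⁻¹) = 1 ∨
      tS * (yS * yS * tS * (yS * yS)⁻¹) * (yS * tS * yS⁻¹) = jS) ∧
    cS * cS * cS * cS * cS * cS * cS = 1 ∧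
    (yS * cS * yS⁻¹ = cS * cS) := by decide +kernel

theorem noncentral : (∃ g, g * yS ≠ yS * g) ∧ (∃ g, g * tS ≠ tS * g) ∧ (∃ g, g * cS ≠ cS * g) ∧
    (∀ g, g * jS = jS * g) := by
  refine ⟨⟨cS, by decide +kernel⟩, ⟨cS, by decide +kernel⟩, ⟨yS, by decide +kernel⟩, fun g => ?_⟩
  refine Matrix.SpecialLinearGroup.ext _ _ fun i j => ?_
  show ((g.val * !![6, 0; 0, 6] : Matrix (Fin 2) (Fin 2) (ZMod 7))) i j =
    ((!![6, 0; 0, 6] * g.val : Matrix (Fin 2) (Fin 2) (ZMod 7))) i j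
  fin_cases i <;> fin_cases j <;> simp [Matrix.mul_apply, Fin.sum_univ_two, mul_comm]

theorem exists_data {Q : Type u} [Group Q] [Finite Q] [IsSimpleGroup Q] (hQ : Nat.card Q = 168) {y : Q}
    (hy : y ^ 3 = 1) (hy1 : y ≠ 1) :
    ∃ t c : Q, t * t = 1 ∧ t ≠ 1 ∧ t * (y * t * y⁻¹) * (y * y * t * (y * y)⁻¹) = 1 ∧
      c ^ 7 = 1 ∧ c ≠ 1 ∧ (y * c * y⁻¹ = c * c ∨ y * y * c * (y * y)⁻¹ = c * c) := by
  haveI : Fact (Nat.Prime 7) := ⟨by norm_num⟩
  haveI : Fact (Nat.Prime 3) := ⟨Nat.prime_three⟩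
  obtain ⟨e⟩ := S0495.result hQ (F := ZMod 7) (by simp)
  let π : SL →* Q := e.symm.toMonoidHom.comp (QuotientGroup.mk' (Subgroup.center SL))
  have hπ : ∀ g : SL, π g = 1 ↔ ∀ k, k * g = g * k := fun g => by
    show e.symm (g : SL ⧸ Subgroup.center SL) = 1 ↔ _
    rw [map_eq_one_iff _ e.symm.injective, QuotientGroup.eq_one_iff, Subgroup.mem_center_iff]
  obtain ⟨⟨gy, hgy⟩, ⟨gt, hgt⟩, ⟨gc, hgc⟩, hj⟩ := noncentral
  obtain ⟨f1, f2, f3, f4, f5, f6⟩ := facts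
  have hjQ : π jS = 1 := (hπ jS).2 hj
  set y0 := π yS with hy0
  set t0 := π tS with ht0
  set c0 := π cS with hc0
  have hy01 : y0 ≠ 1 := fun e' => hgy ((hπ yS).1 e' gy)
  have ht01 : t0 ≠ 1 := fun e' => hgt ((hπ tS).1 e' gt)
  have hc01 : c0 ≠ 1 := fun e' => hgc ((hπ cS).1 e' gc)
  have g1 : y0 * y0 * y0 = 1 := by rw [hy0, ← map_mul, ← map_mul, f1, map_one]
  have g2 : t0 * t0 = 1 := by rw [ht0, ← map_mul, f2, hjQ]
  have g3 : t0 * (y0 * t0 * y0⁻¹) * (y0 * y0 * t0 * (y0 * y0)⁻¹) = 1 := by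
    simp only [hy0, ht0, ← map_mul, ← map_inv]
    rcases f3 with f | f <;> rw [f]
    · exact map_one π
    · exact hjQ
  have g4 : t0 * (y0 * y0 * t0 * (y0 * y0)⁻¹) * (y0 * t0 * y0⁻¹) = 1 := by
    simp only [hy0, ht0, ← map_mul, ← map_inv]
    rcases f4 with f | f <;> rw [f]
    · exact map_one π
    · exact hjQ
  have g5 : c0 ^ 7 = 1 := by
    rw [show c0 ^ 7 = c0 * c0 * c0 * c0 * c0 * c0 * c0 by simp only [pow_succ, pow_zero, one_mul],
      hc0]
    simp only [← map_mul]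
    rw [f5, map_one]
  have g6 : y0 * c0 * y0⁻¹ = c0 * c0 := by rw [hy0, hc0, ← map_inv, ← map_mul, ← map_mul, f6, map_mul]
  -- transport to the given element
  obtain ⟨P⟩ : Nonempty (Sylow 3 Q) := inferInstance
  have hcard : ∀ z : Q, z ^ 3 = 1 → z ≠ 1 → ∃ S : Sylow 3 Q, (S : Subgroup Q) = Subgroup.zpowers z := by
    intro z hz hz1
    have hc : Nat.card (Subgroup.zpowers z) = 3 := by rw [Nat.card_zpowers, orderOf_eq_prime hz hz1]
    have hf : (Nat.card Q).factorization 3 = 1 := by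
      rw [hQ]
      have h1 : 3 ^ 1 ∣ 168 := by norm_num
      have h2 : ¬ 3 ^ 2 ∣ 168 := by norm_num
      rw [Nat.Prime.pow_dvd_iff_le_factorization Nat.prime_three (by norm_num)] at h1 h2
      omega
    exact ⟨Sylow.ofCard (Subgroup.zpowers z) (by rw [hc, hf, pow_one]), rfl⟩
  obtain ⟨S, hS⟩ := hcard y hy hy1
  obtain ⟨S0, hS0⟩ := hcard y0 (by rw [pow_three', g1]) hy01
  obtain ⟨g, hg⟩ := MulAction.exists_smul_eq Q S0 S
  have hmem : y ∈ ((g • S0 : Sylow 3 Q) : Subgroup Q) := by rw [hg, hS]; exact Subgroup.mem_zpowers y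
  rw [Sylow.coe_subgroup_smul, hS0] at hmem
  obtain ⟨w, hw, hwy⟩ := Set.mem_smul_set.1 hmem
  have hwy' : g * w * g⁻¹ = y := hwy
  have hwc : w = y0 ∨ w = y0 * y0 := by
    obtain ⟨k, rfl⟩ := Subgroup.mem_zpowers_iff.1 hw
    have h3 : y0 ^ (3 : ℤ) = 1 := by rw [zpow_ofNat, pow_three', g1]
    have hk : y0 ^ k = y0 ^ (k % 3) := by
      conv_lhs => rw [← Int.emod_add_mul_ediv k 3]
      rw [zpow_add, zpow_mul, h3, one_zpow, mul_one]
    rcases (show k % 3 = 0 ∨ k % 3 = 1 ∨ k % 3 = 2 by omega) with e' | e' | e' <;> rw [hk, e']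
    · exfalso
      rw [hk, e', zpow_zero, mul_one, mul_inv_cancel] at hwy'
      exact hy1 hwy'.symm
    · exact Or.inl (zpow_one y0)
    · right; rw [zpow_ofNat, pow_two]
  set φ := (MulAut.conj g).toMonoidHom with hφ
  have hφy : φ w = y := hwy
  have hinj : Function.Injective φ := (MulAut.conj g).injective
  refine ⟨φ t0, φ c0, by rw [← map_mul, g2, map_one], fun e' => ht01 (hinj (e'.trans (map_one φ).symm)),
    ?_, by rw [← map_pow, g5, map_one], fun e' => hc01 (hinj (e'.trans (map_one φ).symm)), ?_⟩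
  · rw [← hφy]
    simp only [← map_mul, ← map_inv]
    rw [map_eq_one_iff φ hinj]
    rcases hwc with rfl | rfl
    · exact g3
    · have e4 : y0 * y0 * (y0 * y0) = y0 := by rw [← mul_assoc, g1, one_mul]
      rw [e4]; exact g4
  · rw [← hφy]
    simp only [← map_mul, ← map_inv]
    rcases hwc with rfl | rfl
    · exact Or.inl (congrArg φ g6)
    · have e4 : y0 * y0 * (y0 * y0) = y0 := by rw [← mul_assoc, g1, one_mul]
      rw [e4]; exact Or.inr (congrArg φ g6)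

end Cfsg.Agent.Solv.SelfThree.PSLData
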