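import Cfsg.Agent.Lib.Solv.SelfThree.Module
import Cfsg.Agent.Lib.Solv.SelfThree.AFive
import Cfsg.Agent.Lib.Solv.SelfThree.PSLData
import Cfsg.Agent.Lib.Solv.SelfThree.Nilp
import Mathlib.GroupTheory.GroupAction.ConjAct

/-!
The kernel above the alternating group of degree five and above the simple group of order 168.
-/

set_option autoImplicit false

open scoped IsMulCommutative

namespace Cfsg.Agent.Solv.SelfThree

universe u

/-- The fixed subgroup of `t` on `V`. -/
def fixIn {G : Type u} [Group G] (V : Subgroup G) (t : G) : Subgroup G :=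
  V ⊓ Subgroup.centralizer ({t} : Set G)

theorem mem_fixIn {G : Type u} [Group G] {V : Subgroup G} {t v : G} :
    v ∈ fixIn V t ↔ v ∈ V ∧ Commute t v := by
  rw [fixIn, Subgroup.mem_inf, Subgroup.mem_centralizer_singleton_iff]
  exact and_congr_right fun _ => ⟨fun e => e.symm, fun e => e.symm⟩

variable {G : Type u} [Group G] [Finite G] {x : G} {N V : Subgroup G}

theorem Sect.identity (h : Sect x N V) {t : G} (ht : Four x N t) {v : G} (hv : v ∈ V) :
    (x * t * x⁻¹) * v * (x * t * x⁻¹)⁻¹ * v = t * (x * v * x⁻¹) * t⁻¹ * (x * v * x⁻¹) := by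
  have h2 := h.exp_two ht
  have inv : ∀ w ∈ V, w⁻¹ = w := fun w hw => inv_eq_of_mul_eq_one_right (h2 w hw)
  have hxv := h.vnormal.conj_mem v hv x
  have := (h.four ht v hv).2
  rw [inv v hv, inv _ hxv, inv _ (V.mul_mem (h.vnormal.conj_mem _ hxv t) hxv)] at this
  exact this

theorem Sect.fix_inv (h : Sect x N V) {t : G} (ht : Four x N t) {v : G} (hv : v ∈ fixIn V t) :
    x * v * x⁻¹ ∈ fixIn V t := by
  have h2 := h.exp_two ht
  have hx3 : x * x * x = 1 := by rw [← pow_three', h.toSetup.pow_three]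
  have step : ∀ w ∈ fixIn V t, x * (x * w * x⁻¹) * x⁻¹ ∈ fixIn V t := by
    intro w hw
    obtain ⟨hwV, hwc⟩ := mem_fixIn.1 hw
    have hxw := h.vnormal.conj_mem w hwV x
    have hxxw := h.vnormal.conj_mem _ hxw x
    refine mem_fixIn.2 ⟨hxxw, ?_⟩
    have hI := h.identity ht hxw
    have e : x * t * x⁻¹ * (x * w * x⁻¹) * (x * t * x⁻¹)⁻¹ = x * w * x⁻¹ := by
      calc x * t * x⁻¹ * (x * w * x⁻¹) * (x * t * x⁻¹)⁻¹ = x * (t * w * t⁻¹) * x⁻¹ := by group
        _ = x * w * x⁻¹ := by rw [hwc.eq, mul_inv_cancel_right]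
    rw [e, h2 _ hxw] at hI
    have e2 := eq_inv_of_mul_eq_one_left hI.symm
    rw [inv_eq_of_mul_eq_one_right (h2 _ hxxw)] at e2
    exact mul_inv_eq_iff_eq_mul.1 e2
  have h4 := step _ (step v hv)
  have e : x * (x * (x * (x * v * x⁻¹) * x⁻¹) * x⁻¹) * x⁻¹ = x * v * x⁻¹ := by
    calc x * (x * (x * (x * v * x⁻¹) * x⁻¹) * x⁻¹) * x⁻¹
        = (x * x * x) * (x * v * x⁻¹) * (x * x * x)⁻¹ := by group
      _ = _ := by rw [hx3, one_mul, inv_one, mul_one]
  rwa [e] at h4

/-- No common fixed point of two transversal four-groups. -/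
theorem Sect.inter (h : Sect x N V) {t t' : G} (ht : Four x N t) (ht' : Four x N t')
    (hcov : ∀ C : Subgroup G, N ≤ C → (∀ a ∈ C, x * a * x⁻¹ ∈ C) → t ∈ C → t' ∈ C →
      ∃ y ∈ C, y ∉ N ∧ y ^ 3 ∈ N) {v : G} (hv : v ∈ fixIn V t) (hv' : v ∈ fixIn V t') : v = 1 := by
  set D := fixIn V t ⊓ fixIn V t' with hD
  set C := Subgroup.centralizer (D : Set G) with hC
  have hx3 : x * x * x = 1 := by rw [← pow_three', h.toSetup.pow_three]
  have hDinv : ∀ w ∈ D, x⁻¹ * w * x ∈ D := fun w hw => by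
    have e : x⁻¹ * w * x = x * (x * w * x⁻¹) * x⁻¹ := by
      calc x⁻¹ * w * x = x⁻¹ * (x * x * x) * w * (x * x * x)⁻¹ * x := by
            rw [hx3, mul_one, inv_one, mul_one]
        _ = _ := by group
    rw [e]
    exact ⟨h.fix_inv ht (h.fix_inv ht hw.1), h.fix_inv ht' (h.fix_inv ht' hw.2)⟩
  obtain ⟨y, hyC, hyN, hy3⟩ := hcov C
    (fun n hn => Subgroup.mem_centralizer_iff.2 fun w hw => (h.cent_N n hn w (mem_fixIn.1 hw.1).1).symm.eq)
    (fun a ha => Subgroup.mem_centralizer_iff.2 fun w hw => by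
      have e := Subgroup.mem_centralizer_iff.1 ha _ (hDinv w hw)
      calc w * (x * a * x⁻¹) = x * ((x⁻¹ * w * x) * a) * x⁻¹ := by group
        _ = x * (a * (x⁻¹ * w * x)) * x⁻¹ := by rw [e]
        _ = _ := by group)
    (Subgroup.mem_centralizer_iff.2 fun w hw => (mem_fixIn.1 hw.1).2.symm.eq)
    (Subgroup.mem_centralizer_iff.2 fun w hw => (mem_fixIn.1 hw.2).2.symm.eq)
  exact h.fpf hy3 hyN (mem_fixIn.1 hv).1 (Subgroup.mem_centralizer_iff.1 hyC v ⟨hv, hv'⟩).symm

/-- The decomposition by two transversal four-groups. -/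
theorem Sect.decomp (h : Sect x N V) {t : G} (g : G) (ht : Four x N t)
    (ht' : Four x N (g * t * g⁻¹))
    (hcov : ∀ C : Subgroup G, N ≤ C → (∀ a ∈ C, x * a * x⁻¹ ∈ C) → t ∈ C → g * t * g⁻¹ ∈ C →
      ∃ y ∈ C, y ∉ N ∧ y ^ 3 ∈ N) :
    (∀ e ∈ fixIn V t, ∃ b ∈ V, b * (t * b * t⁻¹) = e) ∧
      ∀ v ∈ V, ∃ e ∈ fixIn V t, ∃ f ∈ fixIn V (g * t * g⁻¹), v = e * f := by
  classical
  haveI := h.vnormal
  haveI := h.comm
  have h2 := h.exp_two ht
  set E := fixIn V t with hE
  set E' := fixIn V (g * t * g⁻¹) with hE'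
  have hcomm : ∀ a ∈ V, ∀ b ∈ V, a * b = b * a := fun a ha b hb =>
    congrArg Subtype.val (mul_comm (⟨a, ha⟩ : V) ⟨b, hb⟩)
  let φ : V →* V :=
    { toFun := fun v => ⟨(v : G) * (t * v * t⁻¹), V.mul_mem v.2 (h.vnormal.conj_mem _ v.2 t)⟩
      map_one' := Subtype.ext (by simp)
      map_mul' := fun a b => Subtype.ext (by
        show (a : G) * b * (t * ((a : G) * b) * t⁻¹) = (a : G) * (t * a * t⁻¹) * ((b : G) * (t * b * t⁻¹))
        calc (a : G) * b * (t * ((a : G) * b) * t⁻¹)
            = (a : G) * ((b : G) * (t * a * t⁻¹)) * (t * b * t⁻¹) := by group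
          _ = (a : G) * ((t * a * t⁻¹) * b) * (t * b * t⁻¹) := by
              rw [hcomm _ b.2 _ (h.vnormal.conj_mem _ a.2 t)]
          _ = _ := by group) }
  have hker : Nat.card φ.ker = Nat.card E := Nat.card_congr
    { toFun := fun v => ⟨((v : V) : G), mem_fixIn.2 ⟨v.1.2, by
        have e1 : ((v : V) : G) * (t * (v : V) * t⁻¹) = 1 := congrArg Subtype.val v.2
        have e2 := eq_inv_of_mul_eq_one_right e1
        rw [inv_eq_of_mul_eq_one_right (h2 _ v.1.2)] at e2
        exact mul_inv_eq_iff_eq_mul.1 e2⟩⟩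
      invFun := fun v => ⟨⟨v.1, (mem_fixIn.1 v.2).1⟩, Subtype.ext (by
        show v.1 * (t * v.1 * t⁻¹) = 1
        rw [(mem_fixIn.1 v.2).2.eq, mul_inv_cancel_right, h2 _ (mem_fixIn.1 v.2).1])⟩
      left_inv := fun v => rfl
      right_inv := fun v => rfl }
  have hrle : φ.range.map V.subtype ≤ E := by
    rintro _ ⟨_, ⟨v, rfl⟩, rfl⟩
    refine mem_fixIn.2 ⟨(φ v).2, ?_⟩
    show t * ((v : G) * (t * v * t⁻¹)) = (v : G) * (t * v * t⁻¹) * t
    have hvv := (h.four ht v v.2).1
    have e1 : t * (t * (v : G) * t⁻¹) * t⁻¹ = v := by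
      have hc := h.cent_N _ ht.sq v v.2
      calc t * (t * (v : G) * t⁻¹) * t⁻¹ = t * t * v * (t * t)⁻¹ := by group
        _ = v := by rw [hc.eq, mul_inv_cancel_right]
    calc t * ((v : G) * (t * v * t⁻¹)) = (t * v * t⁻¹) * (t * (t * v * t⁻¹) * t⁻¹) * t := by group
      _ = (t * v * t⁻¹) * v * t := by rw [e1]
      _ = _ := by rw [hcomm _ (h.vnormal.conj_mem _ v.2 t) _ v.2]
  have hconj : Nat.card E' = Nat.card E := by
    have : E' = E.map (MulAut.conj g).toMonoidHom := by
      ext w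
      constructor
      · intro hw
        obtain ⟨hwV, hwc⟩ := mem_fixIn.1 hw
        refine ⟨g⁻¹ * w * g, mem_fixIn.2 ⟨by simpa using h.vnormal.conj_mem w hwV g⁻¹, ?_⟩, ?_⟩
        · show t * (g⁻¹ * w * g) = g⁻¹ * w * g * t
          calc t * (g⁻¹ * w * g) = g⁻¹ * (g * t * g⁻¹ * w) * g := by group
            _ = g⁻¹ * (w * (g * t * g⁻¹)) * g := by rw [hwc.eq]
            _ = _ := by group
        · show g * (g⁻¹ * w * g) * g⁻¹ = w
          group
      · rintro ⟨u, hu, rfl⟩
        obtain ⟨huV, huc⟩ := mem_fixIn.1 hu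
        exact mem_fixIn.2 ⟨h.vnormal.conj_mem u huV g, huc.map (MulAut.conj g).toMonoidHom⟩
    rw [this, Subgroup.card_map_of_injective (MulAut.conj g).injective]
  let μ : E × E' → V := fun p => ⟨(p.1 : G) * p.2, V.mul_mem (mem_fixIn.1 p.1.2).1 (mem_fixIn.1 p.2.2).1⟩
  have hinj : Function.Injective μ := by
    rintro ⟨a, b⟩ ⟨a', b'⟩ hab
    have e : (a : G) * b = (a' : G) * b' := congrArg Subtype.val hab
    have e2 : (a' : G)⁻¹ * a = (b' : G) * (b : G)⁻¹ := by
      calc (a' : G)⁻¹ * a = (a' : G)⁻¹ * ((a : G) * b) * (b : G)⁻¹ := by group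
        _ = _ := by rw [e]; group
    have h1 := h.inter ht ht' hcov (mul_mem (inv_mem a'.2) a.2) (e2 ▸ mul_mem b'.2 (inv_mem b.2))
    rw [h1] at e2
    exact Prod.ext (Subtype.ext (inv_mul_eq_one.1 h1).symm) (Subtype.ext (mul_inv_eq_one.1 e2.symm).symm)
  have hle : Nat.card E * Nat.card E ≤ Nat.card V := by
    have := Nat.card_le_card_of_injective μ hinj
    rwa [Nat.card_prod, hconj] at this
  have hV : Nat.card V = Nat.card E * Nat.card (φ.range.map V.subtype) := by
    rw [Subgroup.card_map_of_injective V.subtype_injective, ← hker, ← Subgroup.index_ker, Subgroup.card_mul_index]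
  have heq : φ.range.map V.subtype = E := by
    refine Subgroup.eq_of_le_of_card_ge hrle ?_
    rw [hV] at hle
    exact Nat.le_of_mul_le_mul_left hle Nat.card_pos
  refine ⟨fun e he => ?_, fun v hv => ?_⟩
  · rw [← heq] at he
    obtain ⟨_, ⟨b, rfl⟩, rfl⟩ := he
    exact ⟨b, b.2, rfl⟩
  · have hbij : Function.Bijective μ := by
      rw [Nat.bijective_iff_injective_and_card]
      refine ⟨hinj, ?_⟩
      rw [Nat.card_prod, hconj, hV, heq]
    obtain ⟨⟨e, f⟩, hef⟩ := hbij.2 ⟨v, hv⟩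
    exact ⟨e, e.2, f, f.2, (congrArg Subtype.val hef).symm⟩

omit [Finite G] in
/-- A normal subgroup of exponent two normalised by an element of order three gives the data. -/
theorem four_data {Q : Type u} [Group Q] {y : Q} (hy : Setup y) {U : Subgroup Q} (hyU : y ∉ U)
    (hU : ∀ u ∈ U, y * u * y⁻¹ ∈ U) (h2 : ∀ u ∈ U, u * u = 1) {t : Q} (ht : t ∈ U) :
    t * (y * t * y⁻¹) * (y * y * t * (y * y)⁻¹) = 1 := by
  have hy3 : y * y * y = 1 := by rw [← pow_three', hy.pow_three]
  set a := y * t * y⁻¹ with ha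
  set b := y * a * y⁻¹ with hb
  have eb : y * y * t * (y * y)⁻¹ = b := by rw [hb, ha]; group
  have hcb : y * b * y⁻¹ = t := by
    rw [hb, ha]
    calc y * (y * (y * t * y⁻¹) * y⁻¹) * y⁻¹ = (y * y * y) * t * (y * y * y)⁻¹ := by group
      _ = t := by rw [hy3, one_mul, inv_one, mul_one]
  have haU : a ∈ U := hU t ht
  have hbU : b ∈ U := hU a haU
  have comm : ∀ p ∈ U, ∀ q ∈ U, p * q = q * p := fun p hp q hq => by
    have e := inv_eq_of_mul_eq_one_right (h2 _ (U.mul_mem hp hq))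
    rw [mul_inv_rev, inv_eq_of_mul_eq_one_right (h2 p hp), inv_eq_of_mul_eq_one_right (h2 q hq)] at e
    exact e.symm
  rw [eb]
  refine hy.fix_eq_one hyU (U.mul_mem (U.mul_mem ht haU) hbU) (Commute.symm ?_)
  show y * (t * a * b) = t * a * b * y
  calc y * (t * a * b) = (y * t * y⁻¹) * (y * a * y⁻¹) * (y * b * y⁻¹) * y := by group
    _ = a * b * t * y := by rw [hcb]
    _ = t * (a * b) * y := by rw [comm _ (U.mul_mem haU hbU) t ht]
    _ = _ := by rw [← mul_assoc]

omit [Finite G] in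
/-- The centre of a normal subgroup. -/
theorem center_map_normal (N : Subgroup G) [N.Normal] : ((Subgroup.center N).map N.subtype).Normal :=
  ConjAct.normal_of_characteristic_of_normal

theorem Base.center_sect (h : Base x N) : Sect x N ((Subgroup.center N).map N.subtype) := by
  haveI := h.normal
  refine
    { toBase := h, vnormal := center_map_normal N, comm := ⟨⟨fun a b => Subtype.ext ?_⟩⟩,
      nx := fun hx => h.miss (Subgroup.map_subtype_le _ hx), cent_N := fun n hn v hv => ?_ }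
  · obtain ⟨a', ha', e⟩ := a.2
    obtain ⟨b', -, e'⟩ := b.2
    show (a : G) * b = (b : G) * a
    rw [← e, ← e']
    exact congrArg Subtype.val (Subgroup.mem_center_iff.1 ha' b').symm
  · obtain ⟨v', hv', rfl⟩ := hv
    exact congrArg Subtype.val (Subgroup.mem_center_iff.1 hv' ⟨n, hn⟩)

theorem Base.center_eq_bot (h : Base x N) (hc : ∀ v ∈ (Subgroup.center N).map N.subtype, v = (1 : G)) :
    N = ⊥ := by
  haveI := h.normal
  by_contra hne
  haveI : Group.IsNilpotent N :=
    h.toSetup.nilpotent (mem_normalizer_of_normal h.normal x) h.miss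
  haveI : Nontrivial N := (Subgroup.nontrivial_iff_ne_bot _).2 hne
  refine Group.IsNilpotent.center_ne_bot N ?_
  rw [eq_bot_iff]
  exact fun v hv => Subgroup.mem_bot.2 (Subtype.ext (hc _ ⟨v, hv, rfl⟩))

/-- Above the simple group of order 168 the kernel is trivial. -/
theorem Base.eq_bot_of_168 (h : Base x N) [N.Normal] [IsSimpleGroup (G ⧸ N)]
    (hQ : Nat.card (G ⧸ N) = 168) : N = ⊥ := by
  have hy := h.toSetup.quotient (N := N) h.miss
  obtain ⟨t, c, ht2, ht1, htp, hc7, hc1, hcr⟩ := PSLData.exists_data hQ hy.pow_three hy.ne_one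
  obtain ⟨t, rfl⟩ := QuotientGroup.mk_surjective t
  obtain ⟨c, rfl⟩ := QuotientGroup.mk_surjective c
  have hS := h.center_sect
  have four : Four x N t :=
    ⟨fun e => ht1 ((QuotientGroup.eq_one_iff t).2 e),
      (QuotientGroup.eq_one_iff _).1 (by rw [QuotientGroup.mk_mul]; exact ht2),
      (QuotientGroup.eq_one_iff _).1 (by
        simp only [QuotientGroup.mk_mul, QuotientGroup.mk_inv] at htp ⊢
        exact htp)⟩
  have h2 := hS.exp_two four
  have hcN : c ∉ N := fun e => hc1 ((QuotientGroup.eq_one_iff c).2 e)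
  have h7 : ∀ v ∈ (Subgroup.center N).map N.subtype, v ^ 7 = (1 : G) := by
    rcases hcr with hr | hr
    · refine hS.kill 7 hcN (hS.seven ((QuotientGroup.eq_one_iff _).1 ?_) hcN
        ((QuotientGroup.eq_one_iff _).1 ?_))
      · rw [QuotientGroup.mk_pow]; exact hc7
      · simp only [QuotientGroup.mk_mul, QuotientGroup.mk_inv]
        rw [hr, inv_mul_cancel]
    · -- replace `c` by its fourth power
      have e4 : (QuotientGroup.mk x : G ⧸ N) * (c : G ⧸ N) ^ 2 * (QuotientGroup.mk x : G ⧸ N)⁻¹ =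
          (c : G ⧸ N) := by
        set y : G ⧸ N := QuotientGroup.mk x
        have hy3 : y * y * y = 1 := by rw [← pow_three', hy.pow_three]
        rw [pow_two, ← hr]
        calc y * (y * y * (c : G ⧸ N) * (y * y)⁻¹) * y⁻¹
            = y * y * y * (c : G ⧸ N) * (y * y * y)⁻¹ := by group
          _ = _ := by rw [hy3, one_mul, inv_one, mul_one]
      have e44 : (QuotientGroup.mk x : G ⧸ N) * (c : G ⧸ N) * (QuotientGroup.mk x : G ⧸ N)⁻¹ =
          (c : G ⧸ N) ^ 4 := by
        calc (QuotientGroup.mk x : G ⧸ N) * (c : G ⧸ N) * (QuotientGroup.mk x : G ⧸ N)⁻¹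
            = (QuotientGroup.mk x : G ⧸ N) * ((c : G ⧸ N) ^ 2) ^ 4 * (QuotientGroup.mk x : G ⧸ N)⁻¹ := by
              rw [← pow_mul, show 2 * 4 = 7 + 1 from rfl, pow_succ, hc7, one_mul]
          _ = _ := by rw [← conj_pow, e4]
      -- conjugation by `x⁻¹`
      have h' : Sect x⁻¹ N ((Subgroup.center N).map N.subtype) :=
        { ord := by rw [orderOf_inv]; exact h.toSetup.ord
          cent := fun g hg => by
            rw [Subgroup.zpowers_inv]
            exact h.toSetup.cent g (by simpa using hg.inv_right)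
          normal := h.normal
          miss := fun e => h.miss (by simpa using N.inv_mem e)
          greatest := fun M hM hx => h.greatest M hM fun e => hx (M.inv_mem e)
          vnormal := hS.vnormal
          comm := hS.comm
          nx := fun e => hS.nx (by simpa using Subgroup.inv_mem _ e)
          cent_N := hS.cent_N }
      refine h'.kill 7 hcN (h'.seven ((QuotientGroup.eq_one_iff _).1 ?_) hcN
        ((QuotientGroup.eq_one_iff _).1 ?_))
      · rw [QuotientGroup.mk_pow]; exact hc7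
      · simp only [QuotientGroup.mk_mul, QuotientGroup.mk_inv, inv_inv]
        set y : G ⧸ N := QuotientGroup.mk x
        rw [← pow_two]
        nth_rw 2 [← e4]
        group
  refine h.center_eq_bot fun v hv => ?_
  have e2 := h2 v hv
  have e7 := h7 v hv
  rw [show (7 : ℕ) = 2 * 3 + 1 from rfl, pow_succ, pow_mul, pow_two, e2, one_pow, one_mul] at e7
  exact e7

end Cfsg.Agent.Solv.SelfThree
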