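import Cfsg.Agent.Lib.Solv.SelfThree.Basic
import Cfsg.Agent.Lib.Solv.SelfThree.AFive
import Cfsg.Agent.Lib.Small.PSLThreeTwo
import Mathlib.LinearAlgebra.Matrix.SpecialLinearGroup
import Mathlib.Data.Fintype.Perm

/-!
The structure of a proper subgroup containing a self-centralizing element of order three.
-/

set_option autoImplicit false

namespace Cfsg.Agent.Solv.SelfThree

universe u

/-- The conclusion of the theorem. -/
def Concl (G : Type u) [Group G] : Prop :=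
    (∃ (N : Subgroup G) (_hN : N.Normal), Group.IsNilpotent N ∧ (Nat.card N).Coprime 3 ∧
        (Nat.card (G ⧸ N) = 3 ∨ Nonempty (G ⧸ N ≃* Equiv.Perm (Fin 3)))) ∨
    (∃ (N : Subgroup G) (_hN : N.Normal), IsMulCommutative N ∧ (∀ n ∈ N, n ^ 2 = 1) ∧
        Nonempty (G ⧸ N ≃* alternatingGroup (Fin 5))) ∨
    Nonempty (G ≃* Matrix.ProjectiveSpecialLinearGroup (Fin 2) (ZMod 7))

variable {G : Type u} [Group G]

/-- A subgroup normalised by `x` and missing it. -/
def Sig (x : G) (U : Subgroup G) : Prop := x ∈ Subgroup.normalizer (U : Set G) ∧ x ∉ U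

/-- The solvable local situation. -/
def LocI (x s : G) (H N : Subgroup G) : Prop :=
  N ≤ H ∧ H ≤ Subgroup.normalizer (N : Set G) ∧ x ∉ N ∧ (∀ U, Sig x U → U ≤ H → U ≤ N) ∧
    (Nat.card H = 3 * Nat.card N ∨ (Nat.card H = 6 * Nat.card N ∧ s ∈ H))

/-- The nonsolvable local situation. -/
def LocII (x s : G) (H N : Subgroup G) : Prop :=
  s ∈ H ∧ x ∉ N ∧ ∃ A B : Subgroup G, A ≤ H ∧ B ≤ H ∧ Sig x A ∧ Sig x B ∧ N < A ∧ N < B ∧
    A ⊓ B ≤ N ∧ (∀ a ∈ A, s * a * s⁻¹ ∈ B) ∧ (∀ b ∈ B, s * b * s⁻¹ ∈ A) ∧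
    IsPGroup 2 A ∧ IsPGroup 2 B ∧ ∀ U, Sig x U → U ≤ H → U ≤ A ∨ U ≤ B

theorem mem_normalizer_of_conj_le [Finite G] {U : Subgroup G} {g : G} (h : ∀ u ∈ U, g * u * g⁻¹ ∈ U) :
    g ∈ Subgroup.normalizer (U : Set G) := by
  refine mem_normalizer_of_map_conj (Subgroup.eq_of_le_of_card_ge ?_ ?_)
  · rintro _ ⟨u, hu, rfl⟩
    exact h u hu
  · exact (Subgroup.card_map_of_injective (MulAut.conj g).injective).ge

theorem perm_three_inverter : ∀ y : Equiv.Perm (Fin 3), y * y * y = 1 → ∃ q, q * y * q⁻¹ = y⁻¹ := by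
  decide +kernel

namespace Setup

variable {x : G} (h : Setup x)

include h

theorem inv_setup : Setup x⁻¹ :=
  ⟨by rw [orderOf_inv]; exact h.ord, fun g hg => by
    rw [Subgroup.zpowers_inv]
    exact h.cent g (by simpa using hg.inv_right)⟩

theorem fpf_surj [Finite G] {U : Subgroup G} (hU : Sig x U) {v : G} (hv : v ∈ U) :
    ∃ n ∈ U, x⁻¹ * n⁻¹ * x * n = v := by
  have hmem : ∀ n ∈ U, x⁻¹ * n⁻¹ * x * n ∈ U := fun n hn => by
    have h1 := (Subgroup.mem_normalizer_iff.1 (inv_mem hU.1) n⁻¹).1 (U.inv_mem hn)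
    rw [inv_inv] at h1
    exact U.mul_mem h1 hn
  have hinj : Function.Injective fun n : U => (⟨x⁻¹ * (n : G)⁻¹ * x * n, hmem n n.2⟩ : U) := by
    intro a b hab
    have e : x⁻¹ * (a : G)⁻¹ * x * a = x⁻¹ * (b : G)⁻¹ * x * b := congrArg Subtype.val hab
    refine Subtype.ext (mul_inv_eq_one.1 (h.fix_eq_one hU.2 (U.mul_mem b.2 (U.inv_mem a.2)) ?_)).symm
    have e2 : (a : G)⁻¹ * x * a = (b : G)⁻¹ * x * b := by
      simpa [mul_assoc] using e
    show (b : G) * (a : G)⁻¹ * x = x * ((b : G) * (a : G)⁻¹)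
    calc (b : G) * (a : G)⁻¹ * x = b * ((a : G)⁻¹ * x * a) * (a : G)⁻¹ := by group
      _ = b * ((b : G)⁻¹ * x * b) * (a : G)⁻¹ := by rw [e2]
      _ = x * ((b : G) * (a : G)⁻¹) := by group
  obtain ⟨n, hn⟩ := (Finite.injective_iff_surjective.1 hinj) ⟨v, hv⟩
  exact ⟨n, n.2, congrArg Subtype.val hn⟩

theorem conj_into [Finite G] {U : Subgroup G} (hU : Sig x U) {y : G} (hy : x⁻¹ * y ∈ U) :
    ∃ n ∈ U, n * y * n⁻¹ = x := by
  obtain ⟨n, hn, e⟩ := h.fpf_surj hU hy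
  refine ⟨n, hn, ?_⟩
  have e2 : y = n⁻¹ * x * n := by simpa [mul_assoc] using e.symm
  rw [e2]; group

theorem lift_fixed [Finite G] {U : Subgroup G} (hU : Sig x U) {u : G}
    (hu : x⁻¹ * (u⁻¹ * x * u) ∈ U) : ∃ n ∈ U, u * n⁻¹ ∈ Subgroup.zpowers x := by
  obtain ⟨n, hn, e⟩ := h.conj_into hU hu
  refine ⟨n, hn, h.cent _ ?_⟩
  show u * n⁻¹ * x = x * (u * n⁻¹)
  calc u * n⁻¹ * x = u * n⁻¹ * (n * (u⁻¹ * x * u) * n⁻¹) := by rw [e]
    _ = x * (u * n⁻¹) := by group

end Setup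

section

variable [Finite G] {x s : G}

theorem loc_cases (h : Setup x) (hs : s * x * s⁻¹ = x⁻¹) {H D : Subgroup G} (hxH : x ∈ H)
    (hD : Sig x D) (hD1 : D ≠ ⊥) (hDH : D ≤ H) (hHD : H ≤ Subgroup.normalizer (D : Set G))
    (hH : Concl H) : ∃ N, LocI x s H N ∨ LocII x s H N := by
  classical
  set xh : H := ⟨x, hxH⟩ with hxh
  have hh : Setup xh := h.restrict hxH
  have hXH : Subgroup.zpowers x ≤ H := Subgroup.zpowers_le.2 hxH
  have hsmem : ∀ a ∈ H, a * x * a⁻¹ = x⁻¹ → s ∈ H := fun a ha hax => by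
    have h1 : a⁻¹ * s ∈ H := hXH (h.inverter_mem hax hs)
    simpa using H.mul_mem ha h1
  have hinv : ∀ (N : Subgroup H) [N.Normal], xh ∉ N → ∀ q : H ⧸ N,
      q * QuotientGroup.mk xh * q⁻¹ = (QuotientGroup.mk xh)⁻¹ →
      ∃ a : H, QuotientGroup.mk a = q ∧ a * xh * a⁻¹ = xh⁻¹ := by
    intro N _ hxN q hq
    obtain ⟨a, rfl⟩ := QuotientGroup.mk_surjective q
    have hmem : (xh⁻¹)⁻¹ * (a * xh * a⁻¹) ∈ N := by
      rw [inv_inv, ← QuotientGroup.eq_one_iff]
      simp only [QuotientGroup.mk_mul, QuotientGroup.mk_inv]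
      rw [hq, mul_inv_cancel]
    obtain ⟨n, hn, e⟩ := hh.inv_setup.conj_into (U := N)
      ⟨(Subgroup.normalizer_eq_top (H := N)).symm ▸ Subgroup.mem_top _,
        fun e => hxN (by simpa using e)⟩ hmem
    refine ⟨n * a, ?_, by rw [← e]; group⟩
    rw [QuotientGroup.mk_mul, (QuotientGroup.eq_one_iff n).2 hn, one_mul]
  have hUsub : ∀ {U : Subgroup G}, Sig x U → U ≤ H → ∀ u ∈ U.subgroupOf H,
      xh * u * xh⁻¹ ∈ U.subgroupOf H := fun {U} hU _ u hu => by
    rw [Subgroup.mem_subgroupOf] at hu ⊢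
    exact h.conj_pow_mem hU.1 hu
  have hcardU : ∀ {U : Subgroup G}, Sig x U → U ≤ H → ∀ (N : Subgroup H) [N.Normal],
      ¬ 3 ∣ Nat.card ((U.subgroupOf H).map (QuotientGroup.mk' N)) := fun {U} hU hUH N _ hd => by
    have h1 := hd.trans (Subgroup.card_map_dvd _ _)
    rw [Nat.card_congr (Subgroup.subgroupOfEquivOfLe hUH).toEquiv] at h1
    have := h.card_mod_three hU.1 hU.2
    omega
  rcases hH with ⟨N, hN, -, hNc, hQ⟩ | ⟨N, hN, -, hN2, ⟨e⟩⟩ | ⟨⟨e⟩⟩
  · -- solvable case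
    haveI := hN
    refine ⟨N.map H.subtype, Or.inl ?_⟩
    have hxN : xh ∉ N := fun hx' => by
      have h1 := Subgroup.orderOf_dvd_natCard N hx'
      rw [hh.ord] at h1
      exact (Nat.prime_three.coprime_iff_not_dvd.1 hNc.symm) h1
    have hxN' : x ∉ N.map H.subtype := by
      rintro ⟨a, ha, hax⟩
      exact hxN ((Subtype.ext hax : a = xh) ▸ ha)
    have hQ6 : Nat.card (H ⧸ N) = 3 ∨ Nat.card (H ⧸ N) = 6 := by
      rcases hQ with e | ⟨⟨e⟩⟩
      · exact Or.inl e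
      · refine Or.inr ?_
        rw [Nat.card_congr e.toEquiv, Nat.card_eq_fintype_card, Fintype.card_perm, Fintype.card_fin]
        rfl
    have hcard : Nat.card H = Nat.card (H ⧸ N) * Nat.card (N.map H.subtype) := by
      rw [Subgroup.card_map_of_injective H.subtype_injective, ← Subgroup.card_eq_card_quotient_mul_card_subgroup]
    refine ⟨(Subgroup.map_subtype_le N), ?_, hxN', ?_, ?_⟩
    · intro a ha
      rw [Subgroup.mem_normalizer_iff]
      intro n
      constructor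
      · rintro ⟨m, hm, rfl⟩
        exact ⟨⟨a, ha⟩ * m * ⟨a, ha⟩⁻¹, hN.conj_mem m hm _, rfl⟩
      · rintro ⟨m, hm, hmn⟩
        refine ⟨⟨a, ha⟩⁻¹ * m * ⟨a, ha⟩, by simpa using hN.conj_mem m hm ⟨a, ha⟩⁻¹, ?_⟩
        simp only [Subgroup.coe_subtype, Subgroup.coe_mul, InvMemClass.coe_inv] at hmn ⊢
        rw [hmn]; group
    · intro U hU hUH u hu
      set π := QuotientGroup.mk' N with hπ
      set Ub := (U.subgroupOf H).map π with hUb
      have hd : Nat.card Ub ∣ Nat.card (H ⧸ N) := Subgroup.card_subgroup_dvd_card Ub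
      have h3 := hcardU hU hUH N
      have hub : π ⟨u, hUH hu⟩ ∈ Ub := ⟨⟨u, hUH hu⟩, Subgroup.mem_subgroupOf.2 hu, rfl⟩
      suffices hπu : π ⟨u, hUH hu⟩ = 1 from
        ⟨⟨u, hUH hu⟩, (QuotientGroup.eq_one_iff _).1 hπu, rfl⟩
      by_contra hne
      have hc2 : Nat.card Ub = 2 := by
        have h6 : Nat.card Ub ∣ 6 := hd.trans (by rcases hQ6 with e | e <;> rw [e]; norm_num)
        have hne1 : Nat.card Ub ≠ 1 := fun e => hne (by
          rw [Subgroup.card_eq_one.1 e, Subgroup.mem_bot] at hub; exact hub)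
        have := Nat.le_of_dvd (by norm_num) h6
        interval_cases hk : Nat.card Ub <;> omega
      have hconj : π (xh * ⟨u, hUH hu⟩ * xh⁻¹) ∈ Ub :=
        ⟨_, hUsub hU hUH _ (Subgroup.mem_subgroupOf.2 hu), rfl⟩
      haveI := Fact.mk Nat.prime_two
      obtain ⟨w, hw1, hwuniq⟩ := (Nat.card_eq_two_iff' (1 : Ub)).1 hc2
      have hfix : π (xh * ⟨u, hUH hu⟩ * xh⁻¹) = π ⟨u, hUH hu⟩ := by
        have e1 : (⟨_, hconj⟩ : Ub) = w := hwuniq _ fun e => hne (by
          have e' := congrArg Subtype.val e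
          simp only [map_mul, map_inv, Subgroup.coe_one] at e'
          exact conj_eq_one_iff.1 e')
        have e2 : (⟨_, hub⟩ : Ub) = w := hwuniq _ fun e => hne (congrArg Subtype.val e)
        exact congrArg Subtype.val (e1.trans e2.symm)
      obtain ⟨n, hn, hnX⟩ := hh.lift_fixed (U := N)
        ⟨(Subgroup.normalizer_eq_top (H := N)).symm ▸ Subgroup.mem_top _, hxN⟩
        (u := ⟨u, hUH hu⟩) (by
          rw [← QuotientGroup.eq_one_iff]
          change π (xh⁻¹ * ((⟨u, hUH hu⟩ : H)⁻¹ * xh * ⟨u, hUH hu⟩)) = 1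
          have hc : π xh * π ⟨u, hUH hu⟩ = π ⟨u, hUH hu⟩ * π xh := by
            simp only [map_mul, map_inv] at hfix
            exact mul_inv_eq_iff_eq_mul.1 hfix
          simp only [map_mul, map_inv]
          rw [mul_assoc (π ⟨u, hUH hu⟩)⁻¹, hc, inv_mul_cancel_left, inv_mul_cancel])
      obtain ⟨k, hk⟩ := Subgroup.mem_zpowers_iff.1 hnX
      have hu3 : π ⟨u, hUH hu⟩ ^ 3 = 1 := by
        have : (⟨u, hUH hu⟩ : H) = xh ^ k * n := by rw [hk]; group
        rw [this, map_mul, (QuotientGroup.eq_one_iff n).2 hn |> fun e => (show π n = 1 from e), mul_one,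
          ← map_pow, ← zpow_natCast, ← zpow_mul, mul_comm, zpow_mul, zpow_natCast, hh.pow_three,
          one_zpow, map_one]
      have hu2 : π ⟨u, hUH hu⟩ ^ 2 = 1 := by
        have := congrArg Subtype.val (pow_card_eq_one' (x := (⟨_, hub⟩ : Ub)))
        rwa [hc2] at this
      refine hne ?_
      rwa [pow_succ, hu2, one_mul] at hu3
    · rcases hQ with e | ⟨⟨e⟩⟩
      · exact Or.inl (by rw [hcard, e])
      · refine Or.inr ⟨?_, ?_⟩
        · rw [hcard, Nat.card_congr e.toEquiv, Nat.card_eq_fintype_card, Fintype.card_perm,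
            Fintype.card_fin]
          rfl
        · obtain ⟨q, hq⟩ := perm_three_inverter (e (QuotientGroup.mk xh)) (by
            rw [← map_mul, ← map_mul, ← QuotientGroup.mk_mul, ← QuotientGroup.mk_mul, ← pow_three',
              hh.pow_three, QuotientGroup.mk_one, map_one])
          obtain ⟨a, -, ha⟩ := hinv N hxN (e.symm q) (e.injective (by
            simp only [map_mul, map_inv, e.apply_symm_apply, hq]))
          exact hsmem a a.2 (congrArg Subtype.val ha)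
  · -- nonsolvable case
    haveI := hN
    refine ⟨N.map H.subtype, Or.inr ?_⟩
    have hxN : xh ∉ N := fun hx' => hh.sq_ne_one (hN2 _ hx')
    set π := QuotientGroup.mk' N with hπ
    have hy1 : π xh ≠ 1 := fun e' => hxN ((QuotientGroup.eq_one_iff _).1 e')
    obtain ⟨q, V, W, hq, hyV, hyW, hVW, hV1, hW1, hVn, hWn, hqV, hqW, hV2, hW2, hcov⟩ :=
      AFive.exists_data e (y := π xh) (by rw [← map_pow, hh.pow_three, map_one]) hy1
    obtain ⟨a, haq, ha⟩ := hinv N hxN q hq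
    let pre : Subgroup (H ⧸ N) → Subgroup G := fun V => (V.comap π).map H.subtype
    have pre_le : ∀ V, pre V ≤ H := fun V => Subgroup.map_subtype_le _
    have pre_mem : ∀ V (u : H), (u : G) ∈ pre V ↔ π u ∈ V := fun V u =>
      ⟨fun ⟨w, hw, hwu⟩ => by rwa [Subtype.ext hwu] at hw, fun hu => ⟨u, hu, rfl⟩⟩
    have pre_sig : ∀ V : Subgroup (H ⧸ N), π xh ∉ V → (∀ u ∈ V, π xh * u * (π xh)⁻¹ ∈ V) →
        Sig x (pre V) := by
      intro V hV hVc
      refine ⟨?_, fun hx' => hV ((pre_mem V xh).1 hx')⟩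
      refine mem_normalizer_of_conj_le fun u hu => ?_
      obtain ⟨w, hw, rfl⟩ := hu
      refine (pre_mem V (xh * w * xh⁻¹)).2 ?_
      rw [map_mul, map_mul, map_inv]
      exact hVc _ hw
    have pre_two : ∀ V : Subgroup (H ⧸ N), (∀ u ∈ V, u * u = 1) → IsPGroup 2 (pre V) := by
      intro V hV
      rintro ⟨_, w, hw, rfl⟩
      refine ⟨2, Subtype.ext ?_⟩
      show (w : G) ^ 2 ^ 2 = 1
      have h2 : w ^ 2 ∈ N := (QuotientGroup.eq_one_iff _).1 (by
        show π (w ^ 2) = 1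
        rw [map_pow, pow_two]; exact hV _ hw)
      have h4 := congrArg Subtype.val (hN2 _ h2)
      simpa [← pow_mul] using h4
    have pre_lt : ∀ V : Subgroup (H ⧸ N), V ≠ ⊥ → N.map H.subtype < pre V := by
      intro V hV
      refine lt_of_le_of_ne (Subgroup.map_mono fun n hn => ?_) fun he => hV ?_
      · show π n ∈ V
        rw [show π n = 1 from (QuotientGroup.eq_one_iff n).2 hn]; exact V.one_mem
      · rw [eq_bot_iff]
        intro v hv
        obtain ⟨w, rfl⟩ := QuotientGroup.mk_surjective v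
        obtain ⟨m, hm, hmw⟩ := (he ▸ (pre_mem V w).2 hv : (w : G) ∈ N.map H.subtype)
        rw [Subtype.ext hmw] at hm
        exact Subgroup.mem_bot.2 ((QuotientGroup.eq_one_iff w).2 hm)
    have hsw : ∀ V W : Subgroup (H ⧸ N), (∀ u ∈ V, q * u * q⁻¹ ∈ W) →
        Sig x (pre V) → ∀ b ∈ pre V, s * b * s⁻¹ ∈ pre W := by
      intro V W hVW hsig b hb
      have hk : (a : G)⁻¹ * s ∈ Subgroup.normalizer (pre V : Set G) :=
        (Subgroup.zpowers_le.2 hsig.1) (h.inverter_mem (congrArg Subtype.val ha) hs)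
      obtain ⟨w, hw, hwe⟩ := (Subgroup.mem_normalizer_iff.1 hk b).1 hb
      have e' : s * b * s⁻¹ = ((a * w * a⁻¹ : H) : G) := by
        simp only [Subgroup.coe_subtype] at hwe
        simp only [Subgroup.coe_mul, InvMemClass.coe_inv, hwe]
        group
      rw [e', pre_mem, map_mul, map_mul, map_inv, show π a = q from haq]
      exact hVW _ hw
    refine ⟨hsmem a a.2 (congrArg Subtype.val ha), ?_, pre V, pre W, pre_le V, pre_le W,
      pre_sig V hyV hVn, pre_sig W hyW hWn, pre_lt V hV1, pre_lt W hW1, ?_,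
      hsw V W hqV (pre_sig V hyV hVn), hsw W V hqW (pre_sig W hyW hWn), pre_two V hV2, pre_two W hW2, ?_⟩
    · rintro ⟨m, hm, hmx⟩
      exact hxN ((Subtype.ext hmx : m = xh) ▸ hm)
    · rintro u ⟨⟨w, hw, rfl⟩, hw'⟩
      refine ⟨w, (QuotientGroup.eq_one_iff w).1 (Subgroup.mem_bot.1 (hVW ▸ ?_)), rfl⟩
      exact ⟨hw, (pre_mem W w).1 hw'⟩
    · intro U hU hUH
      have hUb : ∀ v ∈ (U.subgroupOf H).map π, π xh * v * (π xh)⁻¹ ∈ (U.subgroupOf H).map π := by
        rintro _ ⟨v, hv, rfl⟩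
        exact ⟨_, hUsub hU hUH v hv, by simp⟩
      rcases hcov _ hUb (hcardU hU hUH N) with hle | hle
      · exact Or.inl fun u hu => (pre_mem V ⟨u, hUH hu⟩).2 (hle ⟨⟨u, hUH hu⟩, Subgroup.mem_subgroupOf.2 hu, rfl⟩)
      · exact Or.inr fun u hu => (pre_mem W ⟨u, hUH hu⟩).2 (hle ⟨⟨u, hUH hu⟩, Subgroup.mem_subgroupOf.2 hu, rfl⟩)
  · -- the simple group of order 168
    exfalso
    haveI : Fact (Nat.Prime 7) := ⟨by norm_num⟩
    obtain ⟨hsimp, -⟩ := Small.PSLThreeTwo.psl_two_seven (F := ZMod 7) (by simp)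
    haveI := hsimp
    haveI : Nontrivial H := ⟨⟨xh, 1, hh.ne_one⟩⟩
    haveI : IsSimpleGroup H := MulEquiv.isSimpleGroup e
    haveI : (D.subgroupOf H).Normal := Subgroup.normal_subgroupOf_of_le_normalizer hHD
    rcases (inferInstance : (D.subgroupOf H).Normal).eq_bot_or_eq_top with e' | e'
    · exact hD1 (Subgroup.subgroupOf_eq_bot.1 e' |>.eq_bot_of_le hDH)
    · exact hD.2 (Subgroup.subgroupOf_eq_top.1 e' hxH)

end

end Cfsg.Agent.Solv.SelfThree
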