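import Cfsg.Agent.Lib.Solv.SelfThree.Local
import Cfsg.Agent.Lib.Solv.SelfThree.Nilp
import Cfsg.Agent.Lib.Solv.SelfThree.Chars

/-!
Maximal signalizers in a simple group with a self-centralizing element of order three.
-/

set_option autoImplicit false

open scoped Pointwise

namespace Cfsg.Agent.Solv.SelfThree

universe u

variable {G : Type u} [Group G]

/-- The simple group context, with the structure of the local subgroups. -/
structure Ctx (x s : G) : Prop extends Simp x s where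
  loc : ∀ D : Subgroup G, Sig x D → D ≠ ⊥ →
    ∃ N, LocI x s (Subgroup.normalizer (D : Set G)) N ∨ LocII x s (Subgroup.normalizer (D : Set G)) N

/-- A maximal signalizer. -/
def IsMax (x : G) (M : Subgroup G) : Prop :=
  Sig x M ∧ M ≠ ⊥ ∧ ∀ U, Sig x U → M ≤ U → U = M

/-- Conjugation of a subgroup. -/
def conjSub (g : G) (M : Subgroup G) : Subgroup G := M.map (MulAut.conj g).toMonoidHom

theorem mem_conjSub {g a : G} {M : Subgroup G} : a ∈ conjSub g M ↔ g⁻¹ * a * g ∈ M := by
  constructor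
  · rintro ⟨b, hb, rfl⟩
    show g⁻¹ * (g * b * g⁻¹) * g ∈ M
    simpa [mul_assoc] using hb
  · intro h
    refine ⟨_, h, ?_⟩
    show g * (g⁻¹ * a * g) * g⁻¹ = a
    group

theorem card_conjSub (g : G) (M : Subgroup G) : Nat.card (conjSub g M) = Nat.card M :=
  Subgroup.card_map_of_injective (MulAut.conj g).injective

theorem conjSub_conjSub (g k : G) (M : Subgroup G) : conjSub g (conjSub k M) = conjSub (g * k) M := by
  ext a
  simp [mem_conjSub, mul_assoc]

theorem conjSub_one (M : Subgroup G) : conjSub 1 M = M := by ext a; simp [mem_conjSub]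

theorem conjSub_mono {g : G} {M N : Subgroup G} (h : M ≤ N) : conjSub g M ≤ conjSub g N :=
  Subgroup.map_mono h

theorem conjSub_eq_self [Finite G] {g : G} {M : Subgroup G} :
    conjSub g M = M ↔ g ∈ Subgroup.normalizer (M : Set G) :=
  ⟨mem_normalizer_of_map_conj, map_conj_of_mem⟩

theorem normalizer_conjSub (g : G) (M : Subgroup G) :
    Subgroup.normalizer (conjSub g M : Set G) = conjSub g (Subgroup.normalizer (M : Set G)) := by
  ext a
  rw [mem_conjSub, Subgroup.mem_normalizer_iff, Subgroup.mem_normalizer_iff]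
  constructor
  · intro h v
    have h1 := h (g * v * g⁻¹)
    simp only [mem_conjSub] at h1
    simpa [mul_assoc] using h1
  · intro h v
    simp only [mem_conjSub]
    simpa [mul_assoc] using h (g⁻¹ * v * g)

variable [Finite G] {x s : G}

theorem Ctx.inverter_not_mem (h : Ctx x s) {U : Subgroup G} (hU : Sig x U) {a : G}
    (ha : a * x * a⁻¹ = x⁻¹) : a ∉ U := fun haU => by
  have h1 : x * a * x⁻¹ * a⁻¹ ∈ U := U.mul_mem (h.toSetup.conj_pow_mem hU.1 haU) (U.inv_mem haU)
  have h2 : a * x⁻¹ * a⁻¹ = x := by rw [← conj_inv, ha, inv_inv]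
  have h3 : x * a * x⁻¹ * a⁻¹ = x ^ 2 := by
    calc x * a * x⁻¹ * a⁻¹ = x * (a * x⁻¹ * a⁻¹) := by group
      _ = x ^ 2 := by rw [h2, pow_two]
  exact h.toSetup.sq_ne_one (h.toSetup.inf_X hU.2
    (Subgroup.pow_mem _ (Subgroup.mem_zpowers x) 2) (h3 ▸ h1))

theorem Ctx.sig_conj_s (h : Ctx x s) {U : Subgroup G} (hU : Sig x U) : Sig x (conjSub s U) := by
  have e : s⁻¹ * x * s = x⁻¹ := by
    have h1 := h.inv
    rw [mul_inv_eq_iff_eq_mul] at h1
    have h2 : s * x * s⁻¹ = x⁻¹ := h.inv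
    have h3 : s * x⁻¹ * s⁻¹ = x := by rw [← conj_inv, h2, inv_inv]
    conv_lhs => rw [← h3]
    group
  refine ⟨?_, fun hx => hU.2 ?_⟩
  · rw [normalizer_conjSub, mem_conjSub, e]
    exact inv_mem hU.1
  · rw [mem_conjSub, e] at hx
    simpa using U.inv_mem hx

theorem Ctx.exists_max (h : Ctx x s) {U : Subgroup G} (hU : Sig x U) (hU1 : U ≠ ⊥) :
    ∃ M, IsMax x M ∧ U ≤ M := by
  obtain ⟨M, hle, hM⟩ := Finite.exists_le_maximal (p := fun V : Subgroup G => Sig x V) hU
  exact ⟨M, ⟨hM.1, fun e => hU1 (le_bot_iff.1 (e ▸ hle)),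
    fun V hV hMV => le_antisymm (hM.2 hV hMV) hMV⟩, hle⟩

theorem Ctx.max_conj_s (h : Ctx x s) {M : Subgroup G} (hM : IsMax x M) : IsMax x (conjSub s M) := by
  have hss : s * s = 1 := by rw [← pow_two]; exact h.toSimp.s_sq
  refine ⟨h.sig_conj_s hM.1, fun e => hM.2.1 ?_, fun U hU hle => ?_⟩
  · have := congrArg (conjSub s) e
    rwa [conjSub_conjSub, hss, conjSub_one, show conjSub s (⊥ : Subgroup G) = ⊥ from Subgroup.map_bot _] at this
  · have h1 := hM.2.2 _ (h.sig_conj_s hU) (by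
      have := conjSub_mono (g := s) hle
      rwa [conjSub_conjSub, hss, conjSub_one] at this)
    have := congrArg (conjSub s) h1
    rwa [conjSub_conjSub, hss, conjSub_one] at this

theorem Ctx.nilpotent (h : Ctx x s) {M : Subgroup G} (hM : Sig x M) : Group.IsNilpotent M :=
  h.toSetup.nilpotent hM.1 hM.2

theorem Ctx.max_norm (h : Ctx x s) {M : Subgroup G} (hM : IsMax x M) :
    (∀ U, Sig x U → U ≤ Subgroup.normalizer (M : Set G) → U ≤ M) ∧
      ((Nat.card (Subgroup.normalizer (M : Set G)) = 3 * Nat.card M ∧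
          s ∉ Subgroup.normalizer (M : Set G)) ∨
        (Nat.card (Subgroup.normalizer (M : Set G)) = 6 * Nat.card M ∧
          s ∈ Subgroup.normalizer (M : Set G))) := by
  set H := Subgroup.normalizer (M : Set G) with hH
  have hMH : M ≤ H := Subgroup.le_normalizer
  obtain ⟨N, hN | hN⟩ := h.loc M hM.1 hM.2.1
  · obtain ⟨hNH, hHN, hxN, hall, hc⟩ := hN
    have hNM : N = M := hM.2.2 N ⟨hHN hM.1.1, hxN⟩ (hall M hM.1 hMH)
    subst hNM
    refine ⟨hall, ?_⟩
    rcases hc with hc | ⟨hc, hs⟩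
    · refine Or.inl ⟨hc, fun hs => h.inverter_not_mem hM.1 h.inv ?_⟩
      haveI : (N.subgroupOf H).Normal := Subgroup.normal_subgroupOf_of_le_normalizer le_rfl
      have hidx : (N.subgroupOf H).index = 3 := by
        have h1 := (N.subgroupOf H).index_mul_card
        rw [Nat.card_congr (Subgroup.subgroupOfEquivOfLe hMH).toEquiv, hc] at h1
        exact Nat.eq_of_mul_eq_mul_right Nat.card_pos h1
      have h1 := Subgroup.pow_index_mem (N.subgroupOf H) (⟨s, hs⟩ : H)
      rw [hidx, Subgroup.mem_subgroupOf] at h1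
      have h2 : s ^ 3 ∈ N := h1
      rwa [pow_succ, h.toSimp.s_sq, one_mul] at h2
    · exact Or.inr ⟨hc, hs⟩
  · exfalso
    obtain ⟨hs, -, A, B, -, -, hA, hB, hNA, hNB, hAB, hsA, hsB, -, -, hall⟩ := hN
    have hsM : ∀ m ∈ M, s * m * s⁻¹ ∈ M := fun m hm => (Subgroup.mem_normalizer_iff.1 hs m).1 hm
    have hsM' : ∀ m ∈ M, ∃ m' ∈ M, s * m' * s⁻¹ = m := fun m hm =>
      ⟨s⁻¹ * m * s, by
        have := (Subgroup.mem_normalizer_iff.1 (inv_mem hs) m).1 hm
        rwa [inv_inv] at this, by group⟩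
    have hMN : M ≤ N := by
      rcases hall M hM.1 hMH with hle | hle
      · intro m hm
        obtain ⟨m', hm', e⟩ := hsM' m hm
        exact hAB ⟨hle hm, e ▸ hsA m' (hle hm')⟩
      · intro m hm
        obtain ⟨m', hm', e⟩ := hsM' m hm
        exact hAB ⟨e ▸ hsB m' (hle hm'), hle hm⟩
    exact not_le_of_gt hNA (by rw [hM.2.2 A hA (hMN.trans hNA.le)]; exact hMN)

theorem Ctx.eq_of_normalizer_eq (h : Ctx x s) {M M' : Subgroup G} (hM : IsMax x M) (hM' : IsMax x M')
    (e : Subgroup.normalizer (M' : Set G) = Subgroup.normalizer (M : Set G)) : M' = M :=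
  (hM'.2.2 M hM.1 ((h.max_norm hM).1 M' hM'.1 (e ▸ Subgroup.le_normalizer))).symm

/-- The parts of a maximal signalizer. -/
theorem Ctx.part (h : Ctx x s) {M : Subgroup G} (hM : IsMax x M) (r : ℕ) [Fact r.Prime]
    (hr : r ∣ Nat.card M) :
    ∃ R : Subgroup G, IsPGroup r R ∧ R ≤ M ∧
      Subgroup.normalizer (R : Set G) = Subgroup.normalizer (M : Set G) ∧
      Nat.card R = r ^ (Nat.card M).factorization r ∧
      (∀ P : Subgroup G, IsPGroup r P → R ≤ P →
        ((r = 2 → s ∉ Subgroup.normalizer (M : Set G)) → P = R)) := by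
  obtain ⟨R, hRM, hRp, hRc, hRmem, hNR⟩ := exists_part M (h.nilpotent hM.1) r
  have hRne : R ≠ ⊥ := fun e => by
    rw [e, Subgroup.card_bot] at hRc
    exact (Nat.one_lt_pow (Nat.Prime.factorization_pos_of_dvd Fact.out Nat.card_pos.ne' hr).ne'
      (Fact.out : r.Prime).one_lt).ne hRc
  have hRsig : Sig x R := ⟨hNR hM.1.1, fun hx => hM.1.2 (hRM hx)⟩
  have hMR : M ≤ Subgroup.normalizer (R : Set G) := Subgroup.le_normalizer.trans hNR
  have heq : Subgroup.normalizer (R : Set G) = Subgroup.normalizer (M : Set G) := by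
    refine le_antisymm ?_ hNR
    obtain ⟨N, hN | hN⟩ := h.loc R hRsig hRne
    · obtain ⟨-, hHN, hxN, hall, -⟩ := hN
      rw [← hM.2.2 N ⟨hHN hRsig.1, hxN⟩ (hall M hM.1 hMR)]
      exact hHN
    · obtain ⟨-, -, A, B, -, -, -, -, -, -, -, -, -, hA2, hB2, hall⟩ := hN
      have hM2 : IsPGroup 2 M := by
        rcases hall M hM.1 hMR with hle | hle
        · exact hA2.to_le hle
        · exact hB2.to_le hle
      obtain ⟨k, hk⟩ := IsPGroup.iff_card.1 hM2
      have hr2 : r = 2 := by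
        have := (Fact.out : r.Prime).dvd_of_dvd_pow (hk ▸ hr)
        exact (Nat.prime_dvd_prime_iff_eq Fact.out Nat.prime_two).1 this
      subst hr2
      have : R = M := le_antisymm hRM fun m hm => hRmem m hm (by
        obtain ⟨j, hj⟩ := hM2 ⟨m, hm⟩
        exact ⟨j, congrArg Subtype.val hj⟩)
      rw [this]
  refine ⟨R, hRp, hRM, heq, hRc, fun P hP hle h2 => ?_⟩
  by_contra hne
  have hlt := lt_inf_normalizer (hP.isNilpotent) (lt_of_le_of_ne hle (Ne.symm hne))
  obtain ⟨k, hk⟩ := IsPGroup.iff_card.1 (hP.to_le (inf_le_left (b := Subgroup.normalizer (R : Set G))))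
  have hd : r ^ k ∣ Nat.card (Subgroup.normalizer (M : Set G)) := by
    rw [← hk, ← heq]; exact Subgroup.card_dvd_of_le inf_le_right
  have h3 : r ≠ 3 := by
    rintro rfl
    have := h.toSetup.card_mod_three hM.1.1 hM.1.2
    omega
  have hrp : r.Prime := Fact.out
  have hdM : r ^ k ∣ Nat.card M := by
    have hc3 : (r ^ k).Coprime 3 := ((Nat.coprime_primes hrp Nat.prime_three).2 h3).pow_left k
    rcases (h.max_norm hM).2 with ⟨e, -⟩ | ⟨e, hs⟩
    · exact hc3.dvd_of_dvd_mul_left (e ▸ hd)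
    · have hr2 : r ≠ 2 := fun e2 => h2 e2 hs
      have hc2 : (r ^ k).Coprime 2 := ((Nat.coprime_primes hrp Nat.prime_two).2 hr2).pow_left k
      exact (hc2.mul_right hc3).dvd_of_dvd_mul_left (show r ^ k ∣ 2 * 3 * Nat.card M from e ▸ hd)
  have hkle := (hrp.pow_dvd_iff_le_factorization Nat.card_pos.ne').1 hdM
  have hlt' : R < P ⊓ Subgroup.normalizer (R : Set G) := hlt
  have := Subgroup.eq_of_le_of_card_ge hlt'.le (by
    rw [hk, hRc]; exact Nat.pow_le_pow_right hrp.pos hkle)
  exact hlt'.ne this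

/-- Conjugate parts give equal or `s`-conjugate maximal signalizers. -/
theorem Ctx.same_class (h : Ctx x s) {M M' R R' : Subgroup G} (hM : IsMax x M) (hM' : IsMax x M')
    (hR : Subgroup.normalizer (R : Set G) = Subgroup.normalizer (M : Set G))
    (hR' : Subgroup.normalizer (R' : Set G) = Subgroup.normalizer (M' : Set G)) {g : G}
    (hg : R' = conjSub g R) : M' = M ∨ M' = conjSub s M := by
  have hxg : g⁻¹ * x * g ∈ Subgroup.normalizer (M : Set G) := by
    have h1 : x ∈ Subgroup.normalizer (R' : Set G) := hR' ▸ hM'.1.1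
    rw [hg, normalizer_conjSub, hR, mem_conjSub] at h1
    exact h1
  set H := Subgroup.normalizer (M : Set G)
  have hH := h.toSetup.restrict (H := H) hM.1.1
  have hy3 : (g⁻¹ * x * g) ^ 3 = 1 := by
    have e : (g⁻¹ * x * g) ^ 3 = g⁻¹ * x ^ 3 * g := by simp only [pow_succ, pow_zero, one_mul]; group
    rw [e, h.toSetup.pow_three, mul_one, inv_mul_cancel]
  have hy1 : g⁻¹ * x * g ≠ 1 := fun e => h.toSetup.ne_one (by
    have := congrArg (fun w => g * w * g⁻¹) e
    simpa [mul_assoc] using this)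
  obtain ⟨n, hn, hk⟩ : ∃ n ∈ H, n * x * n⁻¹ = g⁻¹ * x * g ∨ n * x⁻¹ * n⁻¹ = g⁻¹ * x * g := by
    rcases hH.conj_of_pow_three (y := ⟨_, hxg⟩) (Subtype.ext hy3) (fun e => hy1 (congrArg Subtype.val e))
      with e | e
    · obtain ⟨n, hn⟩ := isConj_iff.1 e
      exact ⟨n, n.2, Or.inl (congrArg Subtype.val hn)⟩
    · obtain ⟨n, hn⟩ := isConj_iff.1 e
      refine ⟨n, n.2, Or.inr ?_⟩
      rw [h.toSetup.inv_eq]
      exact congrArg Subtype.val hn
  have hkR : R' = conjSub (g * n) R := by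
    have : conjSub n R = R := conjSub_eq_self.2 (hR ▸ hn)
    rw [← conjSub_conjSub, this, hg]
  have hcase : ∀ t : G, R' = conjSub t R → IsMax x (conjSub t M) → M' = conjSub t M := fun t ht htM => by
    refine h.eq_of_normalizer_eq htM hM' ?_
    rw [← hR', ht, normalizer_conjSub, hR, ← normalizer_conjSub]
  rcases hk with hk | hk
  · left
    have hc : Commute (g * n) x := by
      show g * n * x = x * (g * n)
      calc g * n * x = g * (n * x * n⁻¹) * n := by group
        _ = x * (g * n) := by rw [hk]; group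
    have hX := h.toSetup.cent _ hc
    have e : conjSub (g * n) M = M := conjSub_eq_self.2 ((Subgroup.zpowers_le.2 hM.1.1) hX)
    rw [← e]
    exact hcase _ hkR (e.symm ▸ hM)
  · right
    have hi : (g * n) * x * (g * n)⁻¹ = x⁻¹ := by
      have h1 : g * n * x⁻¹ * (g * n)⁻¹ = x := by
        calc g * n * x⁻¹ * (g * n)⁻¹ = g * (n * x⁻¹ * n⁻¹) * g⁻¹ := by group
          _ = x := by rw [hk]; group
      calc g * n * x * (g * n)⁻¹ = (g * n * x⁻¹ * (g * n)⁻¹)⁻¹ := by group
        _ = x⁻¹ := by rw [h1]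
    have hX := h.toSetup.inverter_mem h.inv hi
    have e : conjSub (g * n) M = conjSub s M := by
      have e1 : conjSub (s⁻¹ * (g * n)) M = M := conjSub_eq_self.2 ((Subgroup.zpowers_le.2 hM.1.1) hX)
      calc conjSub (g * n) M = conjSub s (conjSub (s⁻¹ * (g * n)) M) := by
            rw [conjSub_conjSub, mul_inv_cancel_left]
        _ = _ := by rw [e1]
    rw [← e]
    exact hcase _ hkR (e.symm ▸ h.max_conj_s hM)

/-- Maximal signalizers with a conjugate Sylow part. -/
theorem Ctx.same_of_dvd (h : Ctx x s) {M M' : Subgroup G} (hM : IsMax x M) (hM' : IsMax x M')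
    {r : ℕ} (hr : r.Prime) (hd : r ∣ Nat.card M) (hd' : r ∣ Nat.card M')
    (h2 : r = 2 → s ∉ Subgroup.normalizer (M : Set G) ∧ s ∉ Subgroup.normalizer (M' : Set G)) :
    M' = M ∨ M' = conjSub s M := by
  haveI := Fact.mk hr
  obtain ⟨R, hRp, -, hR, -, hRmax⟩ := h.part hM r hd
  obtain ⟨R', hRp', -, hR', -, hRmax'⟩ := h.part hM' r hd'
  obtain ⟨P, hP⟩ := hRp.exists_le_sylow
  obtain ⟨P', hP'⟩ := hRp'.exists_le_sylow
  have eP : (P : Subgroup G) = R := hRmax _ P.isPGroup' hP fun e => (h2 e).1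
  have eP' : (P' : Subgroup G) = R' := hRmax' _ P'.isPGroup' hP' fun e => (h2 e).2
  obtain ⟨g, rfl⟩ := MulAction.exists_smul_eq G P P'
  refine h.same_class hM hM' hR hR' (g := g) ?_
  rw [← eP', ← eP, Sylow.coe_subgroup_smul]
  exact conj_smul_eq_map g _

/-- A maximal signalizer that is not a nonsplit two-group meets the others trivially. -/
theorem Ctx.ti (h : Ctx x s) {M M' : Subgroup G} (hM : IsMax x M) (hM' : IsMax x M') (hne : M' ≠ M)
    (hty : s ∈ Subgroup.normalizer (M : Set G) ∨ ∃ r, r.Prime ∧ r ≠ 2 ∧ r ∣ Nat.card M) :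
    M ⊓ M' = ⊥ := by
  classical
  by_contra hD
  obtain ⟨M'', -, hmax⟩ := Finite.exists_le_maximal
    (p := fun D : Subgroup G => ∃ L, IsMax x L ∧ L ≠ M ∧ D = M ⊓ L ∧ D ≠ ⊥) ⟨M', hM', hne, rfl, hD⟩
  obtain ⟨L, hL, hLM, rfl, hD1⟩ := hmax.1
  set D := M ⊓ L with hDdef
  have hbig : ∀ K, IsMax x K → D < M ⊓ K → K = M := fun K hK hlt => by
    by_contra hKM
    exact not_le_of_gt hlt (hmax.2 ⟨K, hK, hKM, rfl, fun e => not_lt_bot (e ▸ hlt)⟩ hlt.le)
  have hDsig : Sig x D := ⟨mem_normalizer_of_conj_le fun u hu =>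
    ⟨h.toSetup.conj_pow_mem hM.1.1 hu.1, h.toSetup.conj_pow_mem hL.1.1 hu.2⟩, fun hx => hM.1.2 hx.1⟩
  have hltM : D < M := lt_of_le_of_ne inf_le_left fun e =>
    hLM (hM.2.2 L hL.1 (e ▸ inf_le_right : M ≤ L))
  have hltL : D < L := lt_of_le_of_ne inf_le_right fun e =>
    hLM (hL.2.2 M hM.1 (e ▸ inf_le_left : L ≤ M)).symm
  have g1 := lt_inf_normalizer (h.nilpotent hM.1) hltM
  have g2 := lt_inf_normalizer (h.nilpotent hL.1) hltL
  have hsig : ∀ K, IsMax x K → Sig x (K ⊓ Subgroup.normalizer (D : Set G)) := fun K hK =>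
    ⟨mem_normalizer_of_conj_le fun u hu => ⟨h.toSetup.conj_pow_mem hK.1.1 hu.1,
      Subgroup.mul_mem _ (Subgroup.mul_mem _ hDsig.1 hu.2) (inv_mem hDsig.1)⟩, fun hx => hK.1.2 hx.1⟩
  have hfin : ∀ K, L ⊓ Subgroup.normalizer (D : Set G) ≤ K → K = M → False := fun K hle e => by
    subst e
    exact not_le_of_gt g2 (le_inf hle inf_le_left)
  obtain ⟨N, hN | hN⟩ := h.loc D hDsig hD1
  · obtain ⟨-, hHN, hxN, hall, -⟩ := hN
    have hN1 : N ≠ ⊥ := fun e => not_lt_bot
      (lt_of_lt_of_le g1 ((hall _ (hsig M hM) inf_le_right).trans e.le))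
    obtain ⟨K, hK, hNK⟩ := h.exists_max ⟨hHN hDsig.1, hxN⟩ hN1
    refine hfin K ((hall _ (hsig L hL) inf_le_right).trans hNK) (hbig K hK ?_)
    exact lt_of_lt_of_le g1 (le_inf inf_le_left ((hall _ (hsig M hM) inf_le_right).trans hNK))
  · obtain ⟨hsD, -, A, B, -, -, hA, hB, -, -, -, hsA, hsB, hA2, hB2, hall⟩ := hN
    rcases hty with hs | ⟨r, hr, hr2, hrd⟩
    · have hmem : ∀ C, Sig x C → M ⊓ Subgroup.normalizer (D : Set G) ≤ C → C ≤ M := by
        intro C hC hle
        have hC1 : C ≠ ⊥ := fun e => not_lt_bot (lt_of_lt_of_le g1 (hle.trans e.le))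
        obtain ⟨K, hK, hCK⟩ := h.exists_max hC hC1
        rw [hbig K hK (lt_of_lt_of_le g1 (le_inf inf_le_left (hle.trans hCK)))] at hCK
        exact hCK
      have hinv : s⁻¹ = s := inv_eq_of_mul_eq_one_right (by rw [← pow_two]; exact h.toSimp.s_sq)
      have hboth : A ≤ M ∧ B ≤ M := by
        rcases hall _ (hsig M hM) inf_le_right with hle | hle
        · have hAM := hmem A hA hle
          refine ⟨hAM, fun b hb => ?_⟩
          have h1 := (Subgroup.mem_normalizer_iff.1 hs _).1 (hAM (hsB b hb))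
          have e : s * (s * b * s⁻¹) * s⁻¹ = b := by
            conv_lhs => rw [show s * (s * b * s⁻¹) * s⁻¹ = (s * s) * b * (s * s)⁻¹ by group]
            rw [← pow_two, h.toSimp.s_sq, one_mul, inv_one, mul_one]
          rwa [e] at h1
        · have hBM := hmem B hB hle
          refine ⟨fun b hb => ?_, hBM⟩
          have h1 := (Subgroup.mem_normalizer_iff.1 hs _).1 (hBM (hsA b hb))
          have e : s * (s * b * s⁻¹) * s⁻¹ = b := by
            conv_lhs => rw [show s * (s * b * s⁻¹) * s⁻¹ = (s * s) * b * (s * s)⁻¹ by group]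
            rw [← pow_two, h.toSimp.s_sq, one_mul, inv_one, mul_one]
          rwa [e] at h1
      rcases hall _ (hsig L hL) inf_le_right with hle | hle
      · exact hfin M (hle.trans hboth.1) rfl
      · exact hfin M (hle.trans hboth.2) rfl
    · haveI := Fact.mk hr
      haveI := Fact.mk Nat.prime_two
      obtain ⟨R, hRM, hRp, hRc, -, hNR⟩ := exists_part M (h.nilpotent hM.1) r
      have hD2 : IsPGroup 2 D := by
        rcases hall D hDsig Subgroup.le_normalizer with hle | hle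
        · exact hA2.to_le hle
        · exact hB2.to_le hle
      have hRN : R ≤ Subgroup.normalizer (D : Set G) :=
        (Perm.commute_of_le_nilpotent (h.nilpotent hM.1) hr2 hRp hD2 hRM inf_le_left).trans
          (Subgroup.centralizer_le_normalizer _)
      have hR2 : IsPGroup 2 R := by
        rcases hall R ⟨hNR hM.1.1, fun hx => hM.1.2 (hRM hx)⟩ hRN with hle | hle
        · exact hA2.to_le hle
        · exact hB2.to_le hle
      obtain ⟨k, hk⟩ := IsPGroup.iff_card.1 hR2
      have hrR : r ∣ Nat.card R := by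
        rw [hRc]
        exact dvd_pow_self r (hr.factorization_pos_of_dvd Nat.card_pos.ne' hrd).ne'
      exact hr2 ((Nat.prime_dvd_prime_iff_eq hr Nat.prime_two).1 (hr.dvd_of_dvd_pow (hk ▸ hrR)))

end Cfsg.Agent.Solv.SelfThree
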