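import Mathlib.Algebra.Ring.Basic
import Mathlib.Algebra.BigOperators.Group.Finset.Basic
import Mathlib.Algebra.BigOperators.Ring.Finset
import Mathlib.Tactic.NoncommRing
import Mathlib.Tactic.Abel
import Mathlib.Tactic.Ring
import Mathlib.Tactic.NormNum

/-!
Identities in a ring satisfied by a fixed-point-free element of order three with a four-group or a
group of order seven.
-/

set_option autoImplicit false

namespace Cfsg.Agent.Solv.SelfThree.ModAlg

universe u

variable {R : Type u} [Ring R]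

theorem four {X t t' t'' : R} (hX : 1 + X + X * X = 0) (h1 : 1 + t * X + t'' * (X * X) = 0)
    (h2 : 1 + t' * X + t * (X * X) = 0) (h3 : 1 + t'' * X + t' * (X * X) = 0)
    (hsq : t * t = 1) (hmul : t * t' = t'') :
    (2 : R) * (t - 1) = 0 ∧ (t' - 1) = -((t - 1) * X) := by
  have hcube : X * (X * X) = 1 := by
    have : X * (X * X) - 1 = (X - 1) * (1 + X + X * X) := by noncomm_ring
    rwa [hX, mul_zero, sub_eq_zero] at this
  have hXX : X + X * X = -1 := by rwa [add_assoc, add_eq_zero_iff_eq_neg'] at hX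
  have e2 : (t' - 1) * X + (t - 1) * (X * X) = 0 := by
    have : (t' - 1) * X + (t - 1) * (X * X) = (1 + t' * X + t * (X * X)) - (1 + X + X * X) := by
      noncomm_ring
    rw [this, h2, hX, sub_zero]
  have hT' : (t' - 1) = -((t - 1) * X) := by
    have : ((t' - 1) * X + (t - 1) * (X * X)) * (X * X) =
        (t' - 1) * (X * (X * X)) + (t - 1) * (X * (X * (X * X))) := by noncomm_ring
    rw [e2, zero_mul, hcube, mul_one, mul_one] at this
    exact eq_neg_of_add_eq_zero_left this.symm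
  refine ⟨?_, hT'⟩
  have hsum : (t - 1) + (t' - 1) + (t'' - 1) = 0 := by
    have : ((t - 1) + (t' - 1) + (t'' - 1)) * (X + X * X) =
        (1 + t * X + t'' * (X * X)) + (1 + t' * X + t * (X * X)) + (1 + t'' * X + t' * (X * X))
          - (1 + X + X * X) - (1 + X + X * X) - (1 + X + X * X) := by noncomm_ring
    rw [hXX, h1, h2, h3, hX] at this
    simp only [add_zero, sub_zero, mul_neg, mul_one, neg_eq_zero] at this
    exact this
  have hA : (t - 1) * (t' - 1) = (2 : R) * (t'' - 1) := by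
    have : (t - 1) * (t' - 1) - 2 * (t'' - 1) = (t * t' - t'') - ((t - 1) + (t' - 1) + (t'' - 1)) := by
      noncomm_ring
    rwa [hmul, hsum, sub_self, sub_zero, sub_eq_zero] at this
  have hB : (t - 1) * (t' - 1) = -(2 * (t' - 1)) := by
    conv_lhs => rw [hT']
    have : (t - 1) * -((t - 1) * X) = -((t * t - 1) * X) + 2 * ((t - 1) * X) := by noncomm_ring
    rw [this, hsq, sub_self, zero_mul, neg_zero, zero_add, hT']
    noncomm_ring
  have : (2 : R) * (t - 1) = 2 * ((t - 1) + (t' - 1) + (t'' - 1)) - (2 * (t'' - 1) + 2 * (t' - 1)) := by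
    noncomm_ring
  rw [hsum, mul_zero, zero_sub] at this
  rw [this, ← hA, hB]
  abel

theorem seven {X : R} {c : R} (hX : 1 + X + X * X = 0) (hc : c ^ 7 = 1)
    (h : ∀ i : ℕ, 1 + c ^ i * X + c ^ (3 * i) * (X * X) = 0) : (7 : R) * (c - 1) = 0 := by
  have hXX : X + X * X = -1 := by rwa [add_assoc, add_eq_zero_iff_eq_neg'] at hX
  set S := 1 + c + c ^ 2 + c ^ 3 + c ^ 4 + c ^ 5 + c ^ 6 with hS
  have r : ∀ k, c ^ (7 + k) = c ^ k := fun k => by rw [pow_add, hc, one_mul]
  have e9 : c ^ 9 = c ^ 2 := r 2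
  have e12 : c ^ 12 = c ^ 5 := r 5
  have e15 : c ^ 15 = c := by rw [show 15 = 7 + (7 + 1) from rfl, r, r, pow_one]
  have e18 : c ^ 18 = c ^ 4 := by rw [show 18 = 7 + (7 + 4) from rfl, r, r]
  have h0 := h 0
  have h1 := h 1
  have h2 := h 2
  have h3 := h 3
  have h4 := h 4
  have h5 := h 5
  have h6 := h 6
  simp only [Nat.reduceMul, pow_zero, pow_one] at h0 h1 h2 h3 h4 h5 h6
  rw [e9] at h3
  rw [e12] at h4
  rw [e15] at h5
  rw [e18] at h6
  have key : S * (X + X * X) + 7 =
      (1 + 1 * X + 1 * (X * X)) + (1 + c * X + c ^ 3 * (X * X)) + (1 + c ^ 2 * X + c ^ 6 * (X * X)) +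
      (1 + c ^ 3 * X + c ^ 2 * (X * X)) + (1 + c ^ 4 * X + c ^ 5 * (X * X)) +
      (1 + c ^ 5 * X + c * (X * X)) + (1 + c ^ 6 * X + c ^ 4 * (X * X)) := by
    rw [hS, show (7 : R) = 1 + 1 + 1 + 1 + 1 + 1 + 1 by norm_num]
    simp only [add_mul, mul_add, one_mul]
    abel
  rw [h0, h1, h2, h3, h4, h5, h6, hXX] at key
  have hS7 : S = 7 := by
    simp only [add_zero, mul_neg, mul_one] at key
    rwa [neg_add_eq_zero] at key
  have : c * S - S = c ^ 7 - 1 := by rw [hS]; noncomm_ring
  rw [hc, sub_self, hS7] at this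
  have e : (7 : R) * (c - 1) = c * 7 - 7 := by
    rw [mul_sub, mul_one, show (7 : R) * c = c * 7 by exact_mod_cast (Nat.cast_commute (α := R) 7 c).eq]
  rw [e, this]

end Cfsg.Agent.Solv.SelfThree.ModAlg
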