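import Cfsg.Agent.Lib.Solv.SelfThree.Basic
import Cfsg.Agent.Lib.Solv.SelfThree.ModAlg
import Mathlib.GroupTheory.QuotientGroup.Basic
import Mathlib.GroupTheory.Nilpotent
import Mathlib.Algebra.Group.Subgroup.Pointwise

/-!
Abelian normal sections on which the elements of order three act without fixed points.
-/

set_option autoImplicit false

open scoped IsMulCommutative

namespace Cfsg.Agent.Solv.SelfThree

universe u

variable {G : Type u} [Group G]

/-- The largest normal subgroup missing `x`. -/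
structure Base (x : G) (N : Subgroup G) : Prop extends Setup x where
  normal : N.Normal
  miss : x ∉ N
  greatest : ∀ M : Subgroup G, M.Normal → x ∉ M → M ≤ N

theorem mem_normalizer_of_normal {N : Subgroup G} (hN : N.Normal) (g : G) :
    g ∈ Subgroup.normalizer (N : Set G) :=
  Subgroup.mem_normalizer_iff.2 fun n => ⟨fun hn => hN.conj_mem n hn g, fun hn => by
    have := hN.conj_mem _ hn g⁻¹
    simpa [mul_assoc] using this⟩

theorem Setup.quotient [Finite G] {x : G} (h : Setup x) {N : Subgroup G} [N.Normal] (hxN : x ∉ N) :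
    Setup (QuotientGroup.mk x : G ⧸ N) := by
  refine ⟨orderOf_eq_prime ?_ fun e => hxN ((QuotientGroup.eq_one_iff x).1 e), fun q hq => ?_⟩
  · rw [← QuotientGroup.mk_pow, h.pow_three, QuotientGroup.mk_one]
  obtain ⟨u, rfl⟩ := QuotientGroup.mk_surjective q
  have hu : x⁻¹ * (u⁻¹ * x * u) ∈ N := by
    rw [← QuotientGroup.eq_one_iff]
    simp only [QuotientGroup.mk_mul, QuotientGroup.mk_inv]
    rw [mul_assoc (u : G ⧸ N)⁻¹, ← hq.eq, inv_mul_cancel_left, inv_mul_cancel]
  have hN : x ∈ Subgroup.normalizer (N : Set G) := mem_normalizer_of_normal inferInstance x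
  obtain ⟨n, hn, hnX⟩ : ∃ n ∈ N, u * n⁻¹ ∈ Subgroup.zpowers x := by
    have hmem : ∀ n ∈ N, x⁻¹ * n⁻¹ * x * n ∈ N := fun n hn => by
      have := (inferInstance : N.Normal).conj_mem _ (N.inv_mem hn) x⁻¹
      rw [inv_inv] at this
      exact N.mul_mem this hn
    have hinj : Function.Injective fun n : N => (⟨x⁻¹ * (n : G)⁻¹ * x * n, hmem n n.2⟩ : N) := by
      intro a b hab
      have e : x⁻¹ * (a : G)⁻¹ * x * a = x⁻¹ * (b : G)⁻¹ * x * b := congrArg Subtype.val hab
      refine Subtype.ext (mul_inv_eq_one.1 (h.fix_eq_one hxN (N.mul_mem b.2 (N.inv_mem a.2)) ?_)).symm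
      have e2 : (a : G)⁻¹ * x * a = (b : G)⁻¹ * x * b := by simpa [mul_assoc] using e
      show (b : G) * (a : G)⁻¹ * x = x * ((b : G) * (a : G)⁻¹)
      calc (b : G) * (a : G)⁻¹ * x = b * ((a : G)⁻¹ * x * a) * (a : G)⁻¹ := by group
        _ = b * ((b : G)⁻¹ * x * b) * (a : G)⁻¹ := by rw [e2]
        _ = x * ((b : G) * (a : G)⁻¹) := by group
    obtain ⟨n, hn⟩ := (Finite.injective_iff_surjective.1 hinj) ⟨_, hu⟩
    have e : x⁻¹ * (n : G)⁻¹ * x * n = x⁻¹ * (u⁻¹ * x * u) := congrArg Subtype.val hn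
    have e2 : (n : G)⁻¹ * x * n = u⁻¹ * x * u := by simpa [mul_assoc] using e
    refine ⟨n, n.2, h.cent _ ?_⟩
    show u * (n : G)⁻¹ * x = x * (u * (n : G)⁻¹)
    calc u * (n : G)⁻¹ * x = u * ((n : G)⁻¹ * x * n) * (n : G)⁻¹ := by group
      _ = u * (u⁻¹ * x * u) * (n : G)⁻¹ := by rw [e2]
      _ = _ := by group
  obtain ⟨k, hk⟩ := Subgroup.mem_zpowers_iff.1 hnX
  refine Subgroup.mem_zpowers_iff.2 ⟨k, ?_⟩
  rw [← QuotientGroup.mk_zpow, hk, QuotientGroup.mk_mul, QuotientGroup.mk_inv,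
    (QuotientGroup.eq_one_iff n).2 hn, inv_one, mul_one]

/-- The action on an abelian normal subgroup, as additive endomorphisms. -/
noncomputable def conjEnd (V : Subgroup G) [V.Normal] [IsMulCommutative V] :
    G →* AddMonoid.End (Additive V) where
  toFun g :=
    { toFun := fun v => Additive.ofMul ⟨g * (v.toMul : G) * g⁻¹,
        (inferInstance : V.Normal).conj_mem _ v.toMul.2 g⟩
      map_zero' := Additive.toMul.injective (Subtype.ext (by simp))
      map_add' := fun v w => Additive.toMul.injective (Subtype.ext (by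
        show g * ((v.toMul : G) * (w.toMul : G)) * g⁻¹ =
          g * (v.toMul : G) * g⁻¹ * (g * (w.toMul : G) * g⁻¹)
        group)) }
  map_one' := by
    refine AddMonoidHom.ext fun v => Additive.toMul.injective (Subtype.ext ?_)
    show (1 : G) * (v.toMul : G) * (1 : G)⁻¹ = v.toMul
    group
  map_mul' a b := by
    refine AddMonoidHom.ext fun v => Additive.toMul.injective (Subtype.ext ?_)
    show a * b * (v.toMul : G) * (a * b)⁻¹ = a * (b * (v.toMul : G) * b⁻¹) * a⁻¹
    group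

theorem conjEnd_apply (V : Subgroup G) [V.Normal] [IsMulCommutative V] (g : G) (v : V) :
    (((conjEnd V g) (Additive.ofMul v)).toMul : G) = g * v * g⁻¹ := rfl

theorem conjEnd_congr (V : Subgroup G) [V.Normal] [IsMulCommutative V] {N : Subgroup G}
    (hNV : ∀ n ∈ N, ∀ v ∈ V, Commute n v) {g k : G} (h : g⁻¹ * k ∈ N) :
    conjEnd V g = conjEnd V k := by
  have h1 : conjEnd V (g⁻¹ * k) = 1 := by
    ext v
    show (((conjEnd V (g⁻¹ * k)) v).toMul : G) = (v.toMul : G)
    have e := conjEnd_apply V (g⁻¹ * k) v.toMul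
    rw [ofMul_toMul] at e
    rw [e, (hNV _ h _ v.toMul.2).eq, mul_inv_cancel_right]
  calc conjEnd V g = conjEnd V g * conjEnd V (g⁻¹ * k) := by rw [h1, mul_one]
    _ = conjEnd V k := by rw [← map_mul, mul_inv_cancel_left]

/-- An abelian normal subgroup centralised by `N`, with fixed-point-free action of `x`. -/
structure Sect (x : G) (N V : Subgroup G) : Prop extends Base x N where
  vnormal : V.Normal
  comm : IsMulCommutative V
  nx : x ∉ V
  cent_N : ∀ n ∈ N, ∀ v ∈ V, Commute n v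

variable [Finite G] {x : G} {N V : Subgroup G}

/-- Elements inducing order three fix nothing. -/
theorem Sect.fpf (h : Sect x N V) {y : G} (hy : y ^ 3 ∈ N) (hyN : y ∉ N) {v : G} (hv : v ∈ V)
    (hc : Commute y v) : v = 1 := by
  haveI := h.normal
  have hQ := h.toSetup.quotient (N := N) h.miss
  have key : ∀ k : G, k ∈ Subgroup.zpowers x → k ≠ 1 → IsConj (k : G ⧸ N) (y : G ⧸ N) → v = 1 := by
    intro k hk hk1 hkc
    obtain ⟨g, hg⟩ := isConj_iff.1 hkc
    obtain ⟨g, rfl⟩ := QuotientGroup.mk_surjective g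
    rw [← QuotientGroup.mk_inv, ← QuotientGroup.mk_mul, ← QuotientGroup.mk_mul, QuotientGroup.eq] at hg
    have hc1 : Commute (g * k * g⁻¹ * ((g * k * g⁻¹)⁻¹ * y)) v := by
      rw [mul_inv_cancel_left]; exact hc
    have hn := h.cent_N _ hg v hv
    have hc2 : Commute (g * k * g⁻¹) v := by
      have := hc1.mul_left hn.inv_left
      rwa [mul_inv_cancel_right] at this
    have hv' : g⁻¹ * v * g ∈ V := by
      have := h.vnormal.conj_mem v hv g⁻¹
      rwa [inv_inv] at this
    have hc3 : Commute (g⁻¹ * v * g) k := by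
      show g⁻¹ * v * g * k = k * (g⁻¹ * v * g)
      calc g⁻¹ * v * g * k = g⁻¹ * (v * (g * k * g⁻¹)) * g := by group
        _ = g⁻¹ * ((g * k * g⁻¹) * v) * g := by rw [hc2.eq]
        _ = _ := by group
    have h1 := h.toSetup.inf_X h.nx (h.toSetup.cent_pow hk hk1 hc3) hv'
    calc v = g * (g⁻¹ * v * g) * g⁻¹ := by group
      _ = 1 := by rw [h1, mul_one, mul_inv_cancel]
  rcases hQ.conj_of_pow_three (y := (y : G ⧸ N))
    (by rw [← QuotientGroup.mk_pow]; exact (QuotientGroup.eq_one_iff _).2 hy)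
    (fun e => hyN ((QuotientGroup.eq_one_iff y).1 e)) with e | e
  · exact key x (Subgroup.mem_zpowers x) h.toSetup.ne_one e
  · exact key (x ^ 2) (pow_mem (Subgroup.mem_zpowers x) 2) h.toSetup.sq_ne_one
      (by rwa [QuotientGroup.mk_pow])

theorem Sect.norm (h : Sect x N V) :
    haveI := h.vnormal
    haveI := h.comm
    ∀ y : G, y ^ 3 ∈ N → y ∉ N → 1 + conjEnd V y + conjEnd V y * conjEnd V y = 0 := by
  haveI := h.vnormal
  haveI := h.comm
  intro y hy hyN
  set Y := conjEnd V y with hY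
  have hY3 : Y * Y * Y = 1 := by
    rw [hY, ← map_mul, ← map_mul, conjEnd_congr V h.cent_N (g := y * y * y) (k := 1)]
    · exact map_one _
    · rw [mul_one, ← pow_three']; exact N.inv_mem hy
  ext v
  set w : Additive V := (1 + Y + Y * Y) v with hw
  have hfix : Y w = w := by
    have e : Y * (1 + Y + Y * Y) = 1 + Y + Y * Y := by
      rw [mul_add, mul_add, mul_one, ← mul_assoc, hY3]; abel
    show (Y * (1 + Y + Y * Y)) v = (1 + Y + Y * Y) v
    rw [e]
  have e1 : y * (w.toMul : G) * y⁻¹ = (w.toMul : G) := by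
    rw [← conjEnd_apply V y w.toMul, ofMul_toMul, ← hY, hfix]
  have h1 := h.fpf hy hyN w.toMul.2 (mul_inv_eq_iff_eq_mul.1 e1)
  exact h1

/-- The data of a four-group normalised by `x` modulo `N`. -/
structure Four (x : G) (N : Subgroup G) (t : G) : Prop where
  not_mem : t ∉ N
  sq : t * t ∈ N
  prod : t * (x * t * x⁻¹) * (x * x * t * (x * x)⁻¹) ∈ N

theorem Sect.four (h : Sect x N V) {t : G} (ht : Four x N t) :
    ∀ v ∈ V, Commute t (v * v) ∧
      (x * t * x⁻¹) * v * (x * t * x⁻¹)⁻¹ * v⁻¹ =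
        (t * (x * v * x⁻¹) * t⁻¹ * (x * v * x⁻¹)⁻¹)⁻¹ := by
  haveI := h.vnormal
  haveI := h.comm
  haveI := h.normal
  set t2 := x * t * x⁻¹ with ht2
  set t3 := x * x * t * (x * x)⁻¹ with ht3
  let π := QuotientGroup.mk' N
  have hx3 : x * x * x = 1 := by rw [← pow_three', h.toSetup.pow_three]
  have q1 : π t * π t = 1 := by rw [← map_mul]; exact (QuotientGroup.eq_one_iff _).2 ht.sq
  have qp : π t * π t2 * π t3 = 1 := by
    rw [← map_mul, ← map_mul]; exact (QuotientGroup.eq_one_iff _).2 ht.prod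
  have q3 : π t3 * π t3 = 1 := by
    simp only [ht3, map_mul, map_inv]
    calc π x * π x * π t * (π x * π x)⁻¹ * (π x * π x * π t * (π x * π x)⁻¹)
        = π x * π x * (π t * π t) * (π x * π x)⁻¹ := by group
      _ = 1 := by rw [q1, mul_one, mul_inv_cancel]
  have q12 : π t * π t2 = π t3 := by
    calc π t * π t2 = π t * π t2 * π t3 * (π t3)⁻¹ := by group
      _ = π t3 := by rw [qp, one_mul]; exact inv_eq_of_mul_eq_one_right q3
  have qx : π x * π x * π x = 1 := by rw [← map_mul, ← map_mul, hx3, map_one]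
  have cj2 : π t2 = π x * π t * (π x)⁻¹ := by simp only [ht2, map_mul, map_inv]
  have cj3 : π t3 = π x * π t2 * (π x)⁻¹ := by
    simp only [ht2, ht3, map_mul, map_inv]; group
  have cj1 : π t = π x * π t3 * (π x)⁻¹ := by
    simp only [ht3, map_mul, map_inv]
    calc π t = π x * π x * π x * π t * (π x * π x * π x)⁻¹ := by rw [qx]; simp
      _ = _ := by group
  have q23 : π t2 * π t3 = π t := by
    rw [cj2]; nth_rw 1 [cj3]; nth_rw 2 [cj1]
    calc π x * π t * (π x)⁻¹ * (π x * π t2 * (π x)⁻¹) = π x * (π t * π t2) * (π x)⁻¹ := by group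
      _ = _ := by rw [q12]
  have q31 : π t3 * π t = π t2 := by
    nth_rw 1 [cj3]; rw [cj1, cj2]
    calc π x * π t2 * (π x)⁻¹ * (π x * π t3 * (π x)⁻¹) = π x * (π t2 * π t3) * (π x)⁻¹ := by group
      _ = _ := by rw [q23]
  have cen : ∀ a b : G, π a = π b → conjEnd V a = conjEnd V b := fun a b e =>
    conjEnd_congr V h.cent_N (QuotientGroup.eq.1 e)
  set X := conjEnd V x with hX
  have nX : 1 + X + X * X = 0 := h.norm x (by rw [h.toSetup.pow_three]; exact N.one_mem) h.miss
  -- the relation for an element of the four-group times `x`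
  have rel : ∀ a b c : G, π b = π x * π a * (π x)⁻¹ → π c = π a * π b →
      π a * π b * (π x * π b * (π x)⁻¹) = 1 → a * x ∉ N →
      1 + conjEnd V a * X + conjEnd V c * (X * X) = 0 := by
    intro a b c hb hc hp hax
    have hy : (a * x) ^ 3 ∈ N := by
      rw [← QuotientGroup.eq_one_iff]
      show π ((a * x) ^ 3) = 1
      rw [map_pow, map_mul, pow_three']
      rw [hb] at hp
      calc π a * π x * (π a * π x) * (π a * π x)
          = π a * (π x * π a * (π x)⁻¹) * (π x * (π x * π a * (π x)⁻¹) * (π x)⁻¹) * (π x * π x * π x) := by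
            group
        _ = 1 := by rw [qx, mul_one, hp]
    have h1 := h.norm (a * x) hy hax
    have e2 : conjEnd V (a * x) * conjEnd V (a * x) = conjEnd V c * (X * X) := by
      rw [hX, ← map_mul, ← map_mul, ← map_mul]
      refine cen _ _ ?_
      simp only [map_mul]
      rw [hc, hb]
      group
    rwa [e2, map_mul] at h1
  have hnot : ∀ a : G, π a * π a = 1 → a * x ∉ N := fun a ha hm => by
    have e : π a = (π x)⁻¹ := eq_inv_of_mul_eq_one_left (by
      rw [← map_mul]; exact (QuotientGroup.eq_one_iff _).2 hm)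
    rw [e, ← mul_inv_rev, inv_eq_one, ← map_mul] at ha
    have hxx : x * x ∈ N := (QuotientGroup.eq_one_iff _).1 ha
    have := N.mul_mem (N.inv_mem hxx) (show x * x * x ∈ N by rw [hx3]; exact N.one_mem)
    exact h.miss (by simpa [mul_assoc] using this)
  have q22 : π t2 * π t2 = 1 := by
    rw [cj2]
    calc π x * π t * (π x)⁻¹ * (π x * π t * (π x)⁻¹) = π x * (π t * π t) * (π x)⁻¹ := by group
      _ = 1 := by rw [q1, mul_one, mul_inv_cancel]
  have r1 := rel t t2 t3 cj2 q12.symm (by rw [← cj3]; exact qp) (hnot t q1)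
  have r2 := rel t2 t3 t cj3 q23.symm (by rw [← cj1, q23, q1]) (hnot t2 q22)
  have r3 := rel t3 t t2 cj1 q31.symm (by rw [← cj2, q31, q22]) (hnot t3 q3)
  have hsq : conjEnd V t * conjEnd V t = 1 := by
    rw [← map_mul, cen (t * t) 1 (by rw [map_mul, q1, map_one]), map_one]
  have hmul : conjEnd V t * conjEnd V t2 = conjEnd V t3 := by
    rw [← map_mul]; exact cen _ _ (by rw [map_mul, q12])
  obtain ⟨e1, e2⟩ := ModAlg.four nX r1 r2 r3 hsq hmul
  intro v hv
  constructor
  · have h1 := DFunLike.congr_fun e1 (Additive.ofMul (⟨v, hv⟩ : V))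
    rw [two_mul] at h1
    have h2 := congrArg (fun z : Additive V => (z.toMul : G)) h1
    have h3 : t * v * t⁻¹ * v⁻¹ * (t * v * t⁻¹ * v⁻¹) = 1 := by
      have e3 : ∀ a b : G, a * b⁻¹ = a / b := fun a b => (div_eq_mul_inv a b).symm
      rw [e3]
      exact h2
    have hvv : Commute (t * v * t⁻¹) v⁻¹ := by
      have := congrArg Subtype.val (mul_comm (⟨t * v * t⁻¹, h.vnormal.conj_mem v hv t⟩ : V) ⟨v⁻¹, V.inv_mem hv⟩)
      exact this
    show t * (v * v) = v * v * t
    have h4 : t * v * t⁻¹ * (t * v * t⁻¹) * (v⁻¹ * v⁻¹) = 1 := by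
      calc t * v * t⁻¹ * (t * v * t⁻¹) * (v⁻¹ * v⁻¹) = t * v * t⁻¹ * ((t * v * t⁻¹) * v⁻¹) * v⁻¹ := by group
        _ = t * v * t⁻¹ * (v⁻¹ * (t * v * t⁻¹)) * v⁻¹ := by rw [hvv.eq]
        _ = t * v * t⁻¹ * v⁻¹ * (t * v * t⁻¹ * v⁻¹) := by group
        _ = 1 := h3
    calc t * (v * v) = t * v * t⁻¹ * (t * v * t⁻¹) * (v⁻¹ * v⁻¹) * (v * v) * t := by group
      _ = v * v * t := by rw [h4, one_mul]
  · have h1 := congrArg (fun z : Additive V => (z.toMul : G))
      (DFunLike.congr_fun e2 (Additive.ofMul (⟨v, hv⟩ : V)))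
    rw [← div_eq_mul_inv (t2 * v * t2⁻¹) v,
      ← div_eq_mul_inv (t * (x * v * x⁻¹) * t⁻¹) (x * v * x⁻¹)]
    exact h1

/-- The relation for a subgroup of order seven normalised by `x` modulo `N`. -/
theorem Sect.seven (h : Sect x N V) {c : G} (hc7 : c ^ 7 ∈ N) (hcN : c ∉ N)
    (hrel : (c * c)⁻¹ * (x * c * x⁻¹) ∈ N) : ∀ v ∈ V, Commute c (v ^ 7) := by
  haveI := h.vnormal
  haveI := h.comm
  haveI := h.normal
  let π := QuotientGroup.mk' N
  have cen : ∀ a b : G, π a = π b → conjEnd V a = conjEnd V b := fun a b e =>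
    conjEnd_congr V h.cent_N (QuotientGroup.eq.1 e)
  have hx3 : x * x * x = 1 := by rw [← pow_three', h.toSetup.pow_three]
  have qx : π x * π x * π x = 1 := by rw [← map_mul, ← map_mul, hx3, map_one]
  have q7 : π c ^ 7 = 1 := by rw [← map_pow]; exact (QuotientGroup.eq_one_iff _).2 hc7
  have qr : π x * π c * (π x)⁻¹ = π c * π c := by
    have : π ((c * c)⁻¹ * (x * c * x⁻¹)) = 1 := (QuotientGroup.eq_one_iff _).2 hrel
    simp only [map_mul, map_inv] at this
    exact (inv_mul_eq_one.1 this).symm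
  set X := conjEnd V x with hX
  have nX : 1 + X + X * X = 0 := h.norm x (by rw [h.toSetup.pow_three]; exact N.one_mem) h.miss
  have qri : ∀ i : ℕ, π x * π c ^ i * (π x)⁻¹ = π c ^ (2 * i) := fun i => by
    rw [← conj_pow, qr, pow_mul, pow_two]
  have hr : ∀ i : ℕ, 1 + conjEnd V c ^ i * X + conjEnd V c ^ (3 * i) * (X * X) = 0 := by
    intro i
    have e2 : π (c ^ i * x) * π (c ^ i * x) = π c ^ (3 * i) * (π x * π x) := by
      rw [map_mul, map_pow]
      calc π c ^ i * π x * (π c ^ i * π x) = π c ^ i * (π x * π c ^ i * (π x)⁻¹) * (π x * π x) := by group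
        _ = _ := by rw [qri, ← pow_add]; ring_nf
    have hy : (c ^ i * x) ^ 3 ∈ N := by
      rw [← QuotientGroup.eq_one_iff]
      show π _ = 1
      rw [map_pow, pow_three', e2, map_mul, map_pow]
      calc π c ^ (3 * i) * (π x * π x) * (π c ^ i * π x)
          = π c ^ (3 * i) * (π x * (π x * π c ^ i * (π x)⁻¹) * (π x)⁻¹) * (π x * π x * π x) := by group
        _ = 1 := by
          rw [qri, qri, qx, mul_one, ← pow_add, show 3 * i + 2 * (2 * i) = 7 * i by ring, pow_mul, q7,
            one_pow]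
    have hn : c ^ i * x ∉ N := fun hm => by
      have e : π c ^ i * π x = 1 := by
        rw [← map_pow, ← map_mul]; exact (QuotientGroup.eq_one_iff _).2 hm
      have e' : (π x) ^ 7 = 1 := by
        rw [eq_inv_of_mul_eq_one_right e, inv_pow, ← pow_mul, mul_comm, pow_mul, q7, one_pow, inv_one]
      rw [show (π x) ^ 7 = π x * π x * π x * (π x * π x * π x) * π x by
        simp only [pow_succ, pow_zero, one_mul, mul_assoc], qx, one_mul, one_mul] at e'
      exact h.miss ((QuotientGroup.eq_one_iff x).1 e')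
    have h1 := h.norm _ hy hn
    have e3 : conjEnd V (c ^ i * x) * conjEnd V (c ^ i * x) = conjEnd V c ^ (3 * i) * (X * X) := by
      rw [hX, ← map_pow (conjEnd V), ← map_mul, ← map_mul, ← map_mul]
      refine cen _ _ ?_
      simp only [map_mul, map_pow] at e2 ⊢
      exact e2
    rwa [e3, map_mul, map_pow] at h1
  have h7 : conjEnd V c ^ 7 = 1 := by
    rw [← map_pow, cen (c ^ 7) 1 (by rw [map_pow, q7, map_one]), map_one]
  have key := ModAlg.seven nX h7 hr
  intro v hv
  have h1 := DFunLike.congr_fun key (Additive.ofMul (⟨v, hv⟩ : V))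
  rw [show (7 : AddMonoid.End (Additive V)) * (conjEnd V c - 1) = (7 : ℕ) • (conjEnd V c - 1) by
    rw [nsmul_eq_mul]; norm_num] at h1
  have h2 := congrArg (fun z : Additive V => (z.toMul : G)) h1
  have h3 : (c * v * c⁻¹ * v⁻¹) ^ 7 = 1 := by
    rw [← div_eq_mul_inv]
    exact h2
  have hvv : Commute (c * v * c⁻¹) v⁻¹ :=
    congrArg Subtype.val (mul_comm (⟨c * v * c⁻¹, h.vnormal.conj_mem v hv c⟩ : V) ⟨v⁻¹, V.inv_mem hv⟩)
  rw [hvv.mul_pow, conj_pow, inv_pow, mul_inv_eq_one, mul_inv_eq_iff_eq_mul] at h3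
  exact h3

/-- A power map centralised by an element outside `N` kills the section. -/
theorem Sect.kill (h : Sect x N V) (k : ℕ) {t : G} (ht : t ∉ N)
    (hc : ∀ v ∈ V, Commute t (v ^ k)) : ∀ v ∈ V, v ^ k = 1 := by
  haveI := h.vnormal
  haveI := h.comm
  set P : Subgroup G := (powMonoidHom k : V →* V).range.map V.subtype with hP
  have hmem : ∀ w, w ∈ P ↔ ∃ v ∈ V, v ^ k = w := fun w =>
    ⟨fun ⟨_, ⟨v, rfl⟩, e⟩ => ⟨v, v.2, by rw [← e]; simp⟩,
      fun ⟨v, hv, e⟩ => ⟨_, ⟨⟨v, hv⟩, rfl⟩, by rw [← e]; simp⟩⟩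
  have hPn : P.Normal := ⟨fun w hw g => by
    obtain ⟨v, hv, rfl⟩ := (hmem w).1 hw
    exact (hmem _).2 ⟨g * v * g⁻¹, h.vnormal.conj_mem v hv g, conj_pow⟩⟩
  haveI := hPn
  have hn : (Subgroup.centralizer (P : Set G)).Normal := inferInstance
  have hxC : x ∈ Subgroup.centralizer (P : Set G) := by
    by_contra hx
    refine ht (h.greatest _ hn hx (Subgroup.mem_centralizer_iff.2 fun w hw => ?_))
    obtain ⟨v, hv, rfl⟩ := (hmem w).1 hw
    exact (hc v hv).symm.eq
  intro v hv
  have hvk : v ^ k ∈ P := (hmem _).2 ⟨v, hv, rfl⟩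
  exact h.toSetup.fix_eq_one h.nx (V.pow_mem hv k) (Subgroup.mem_centralizer_iff.1 hxC _ hvk)

/-- A section is of exponent two when there is a four-group. -/
theorem Sect.exp_two (h : Sect x N V) {t : G} (ht : Four x N t) : ∀ v ∈ V, v * v = 1 := by
  intro v hv
  rw [← pow_two]
  exact h.kill 2 ht.not_mem (fun w hw => by rw [pow_two]; exact (h.four ht w hw).1) v hv

end Cfsg.Agent.Solv.SelfThree
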