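import Cfsg.Agent.Lib.Solv.SelfThree.Count
import Cfsg.Agent.Lib.Small.SmallOrders

/-!
A simple group with a self-centralizing element of order three has order 60 or 168.
-/

set_option autoImplicit false

open scoped Pointwise

namespace Cfsg.Agent.Solv.SelfThree

open Cfsg.Agent.Small

universe u

variable {G : Type u} [Group G] [Finite G]

theorem Setup.conj {x : G} (h : Setup x) (g : G) : Setup (g * x * g⁻¹) := by
  have hord : orderOf (g * x * g⁻¹) = 3 := (orderOf_injective (MulAut.conj g).toMonoidHom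
    (MulAut.conj g).injective x).trans h.ord
  refine ⟨hord, fun w hw => ?_⟩
  have hc : Commute (g⁻¹ * w * g) x := by
    show g⁻¹ * w * g * x = x * (g⁻¹ * w * g)
    calc g⁻¹ * w * g * x = g⁻¹ * (w * (g * x * g⁻¹)) * g := by group
      _ = g⁻¹ * ((g * x * g⁻¹) * w) * g := by rw [hw.eq]
      _ = _ := by group
  obtain ⟨k, hk⟩ := Subgroup.mem_zpowers_iff.1 (h.cent _ hc)
  refine Subgroup.mem_zpowers_iff.2 ⟨k, ?_⟩
  rw [conj_zpow, hk]; group

/-- A subgroup of order two modulo three is not normalised by an element of order three. -/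
theorem Setup.not_dvd_normalizer {x : G} (h : Setup x) {U : Subgroup G} (hU : Nat.card U % 3 = 2) :
    ¬ 3 ∣ Nat.card (Subgroup.normalizer (U : Set G)) := by
  haveI : Fact (Nat.Prime 3) := ⟨Nat.prime_three⟩
  intro hd
  obtain ⟨y, hy⟩ := exists_prime_orderOf_dvd_card' 3 hd
  have hy' : orderOf (y : G) = 3 := (Subgroup.orderOf_coe y).trans hy
  have hy3 : (y : G) ^ 3 = 1 := hy' ▸ pow_orderOf_eq_one _
  have hy1 : (y : G) ≠ 1 := fun e => by rw [e, orderOf_one] at hy'; omega
  have key : ∀ z, Setup z → z ∈ Subgroup.normalizer (U : Set G) → False := fun z hz hzU => by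
    have hzn : z ∉ U := fun hzU' => by
      have := Subgroup.orderOf_dvd_natCard U hzU'
      rw [hz.ord] at this
      omega
    have := hz.card_mod_three hzU hzn
    omega
  rcases h.conj_of_pow_three hy3 hy1 with e | e
  · obtain ⟨g, hg⟩ := isConj_iff.1 e
    exact key _ (hg ▸ h.conj g) y.2
  · obtain ⟨g, hg⟩ := isConj_iff.1 e
    refine key _ ?_ y.2
    rw [← hg, ← h.inv_eq]
    exact h.inv_setup.conj g

/-- An involution commuting with an element of order seven in a simple group with eight Sylow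
seven-subgroups: impossible. -/
theorem no_eight [IsSimpleGroup G] (hG : Nat.card G = 672) : False := by
  haveI : Fact (Nat.Prime 7) := ⟨by norm_num⟩
  haveI : Fact (Nat.Prime 2) := ⟨Nat.prime_two⟩
  obtain ⟨P⟩ : Nonempty (Sylow 7 G) := inferInstance
  have hP : Nat.card (P : Subgroup G) = 7 :=
    (SmallOrders.sylow_card_eq (k := 1) (m := 96) (by rw [hG]; norm_num) (by norm_num) P).trans (pow_one 7)
  obtain ⟨h1, h2, h3⟩ := SmallOrders.sylow_number (m := 96) (k := 1) P (hP.trans (pow_one 7).symm) one_pos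
    (by rw [hG]; norm_num) (by norm_num)
  have h8 : Nat.card (Sylow 7 G) = 8 := by
    have h4 := Nat.le_of_dvd (by norm_num) h1
    interval_cases h : Nat.card (Sylow 7 G) <;> omega
  set N := Subgroup.normalizer ((P : Subgroup G) : Set G) with hN
  have hN84 : Nat.card N = 84 := by
    have := SmallOrders.card_normalizer P
    rw [h8, hG, ← hN] at this
    omega
  haveI : IsCyclic (P : Subgroup G) := isCyclic_of_prime_card hP
  have hker : 2 ∣ Nat.card ((P : Subgroup G).normalizerMonoidHom).ker := by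
    set φ := (P : Subgroup G).normalizerMonoidHom
    have e1 : Nat.card φ.ker * Nat.card φ.range = 84 := by
      rw [← Subgroup.index_ker, Subgroup.card_mul_index, ← hN, hN84]
    have e2 : Nat.card φ.range ∣ 6 := by
      have := Subgroup.card_subgroup_dvd_card φ.range
      rwa [IsCyclic.card_mulAut, hP, Nat.totient_prime (by norm_num)] at this
    have e3 := Nat.le_of_dvd (by norm_num) e2
    interval_cases hr : Nat.card φ.range <;> omega
  obtain ⟨u, hu⟩ := exists_prime_orderOf_dvd_card' 2 hker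
  set v : G := ((u : N) : G) with hv
  have hvo : orderOf v = 2 := by rw [hv, Subgroup.orderOf_coe, Subgroup.orderOf_coe, hu]
  have hvc : ∀ p ∈ (P : Subgroup G), Commute v p := fun p hp => by
    have h4 : (P : Subgroup G).normalizerMonoidHom (u : N) = 1 := u.2
    have h5 : v * p * v⁻¹ = p :=
      congrArg Subtype.val (DFunLike.congr_fun h4 (⟨p, hp⟩ : (P : Subgroup G)))
    exact mul_inv_eq_iff_eq_mul.1 h5
  have hvfix : ∀ Q : Sylow 7 G, v • Q = Q := by
    intro Q
    by_cases hQ : Q = P
    · subst hQ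
      exact Sylow.smul_eq_iff_mem_normalizer.2 (u : N).2
    have hstab : ∀ p ∈ (P : Subgroup G), p • Q = Q → p = 1 := by
      intro p hp hpQ
      by_contra hp1
      have hgen : Subgroup.zpowers p = (P : Subgroup G) := by
        refine Subgroup.eq_of_le_of_card_ge (Subgroup.zpowers_le.2 hp) ?_
        have : orderOf p = 7 := by
          refine ((Nat.dvd_prime (by norm_num)).1 ?_).resolve_left (fun e => hp1 (orderOf_eq_one_iff.1 e))
          rw [← hP]; exact Subgroup.orderOf_dvd_natCard _ hp
        rw [hP, Nat.card_zpowers, this]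
      have hle : (P : Subgroup G) ≤ Subgroup.normalizer ((Q : Subgroup G) : Set G) :=
        hgen ▸ Subgroup.zpowers_le.2 (Sylow.smul_eq_iff_mem_normalizer.1 hpQ)
      exact hQ (Sylow.ext (P.is_maximal' Q.isPGroup' ((P.isPGroup'.inf_normalizer_sylow Q) ▸
        le_inf le_rfl hle |>.trans inf_le_right)))
    have hne : ∀ p : (P : Subgroup G), (p : G) • Q ≠ P := fun p e => hQ (by
      have := congrArg (fun R => (p : G)⁻¹ • R) e
      simp only [inv_smul_smul] at this
      rw [this]
      exact Sylow.smul_eq_iff_mem_normalizer.2 (Subgroup.le_normalizer (inv_mem p.2)))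
    have hbij : Function.Bijective
        (fun o : Option (P : Subgroup G) => o.elim P fun p => (p : G) • Q) := by
      rw [Nat.bijective_iff_injective_and_card]
      refine ⟨?_, by rw [Finite.card_option, hP, h8]⟩
      intro a b hab
      rcases a with _ | a <;> rcases b with _ | b <;> simp only [Option.elim] at hab
      · rfl
      · exact absurd hab.symm (hne b)
      · exact absurd hab (hne a)
      · refine congrArg some (Subtype.ext (inv_mul_eq_one.1 (hstab _ (mul_mem (inv_mem a.2) b.2) ?_)))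
        rw [mul_smul, ← hab, inv_smul_smul]
    obtain ⟨o, ho⟩ := hbij.2 (v • Q)
    rcases o with _ | p <;> simp only [Option.elim] at ho
    · exfalso
      refine hQ ?_
      have := congrArg (fun R => v⁻¹ • R) ho
      simp only [inv_smul_smul] at this
      rw [← this]
      exact Sylow.smul_eq_iff_mem_normalizer.2 (inv_mem (u : N).2)
    · have h2Q : v • v • Q = Q := by
        rw [← mul_smul, ← pow_two, ← hvo, pow_orderOf_eq_one, one_smul]
      rw [← ho, ← mul_smul, (hvc p p.2).eq, mul_smul, ← ho, ← mul_smul] at h2Q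
      have h4 := hstab _ (mul_mem p.2 p.2) h2Q
      have h5 : (p : G) = 1 := by
        rw [← orderOf_eq_one_iff]
        have d1 : orderOf (p : G) ∣ 2 := orderOf_dvd_of_pow_eq_one (by rw [pow_two]; exact h4)
        have d2 : orderOf (p : G) ∣ 7 := (Subgroup.orderOf_dvd_natCard _ p.2).trans (dvd_of_eq hP)
        exact Nat.dvd_one.1 (Nat.dvd_gcd d1 d2)
      rw [← ho, h5, one_smul]
  have hkv : v ∈ (MulAction.toPermHom G (Sylow 7 G)).ker := Equiv.ext hvfix
  rcases (inferInstance : (MulAction.toPermHom G (Sylow 7 G)).ker.Normal).eq_bot_or_eq_top with e | e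
  · rw [e, Subgroup.mem_bot] at hkv
    rw [hkv, orderOf_one] at hvo
    omega
  · have hall : ∀ Q : Sylow 7 G, Q = P := fun Q => by
      obtain ⟨g, rfl⟩ := MulAction.exists_smul_eq G P Q
      have hg : g ∈ (MulAction.toPermHom G (Sylow 7 G)).ker := by rw [e]; exact Subgroup.mem_top g
      exact Equiv.ext_iff.1 hg P
    haveI : Subsingleton (Sylow 7 G) := ⟨fun a b => (hall a).trans (hall b).symm⟩
    exact h3 (Nat.card_of_subsingleton P)

/-- A proper subgroup of small index gives an embedding into an alternating group. -/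
theorem dvd_half_factorial [IsSimpleGroup G] {H : Subgroup G} (hH : H ≠ ⊤) (hG : 2 < Nat.card G) :
    2 * Nat.card G ∣ H.index.factorial := by
  classical
  haveI := Fintype.ofFinite (G ⧸ H)
  set φ := MulAction.toPermHom G (G ⧸ H)
  have hne : H.normalCore ≠ ⊤ := fun h => hH (top_le_iff.1 (h ▸ H.normalCore_le))
  have hbot : φ.ker = ⊥ := by
    rw [← Subgroup.normalCore_eq_ker]
    exact (IsSimpleGroup.eq_bot_or_eq_top_of_normal _ inferInstance).resolve_right hne
  have hinj := (MonoidHom.ker_eq_bot_iff φ).1 hbot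
  have hle : φ.range ≤ alternatingGroup (G ⧸ H) := by
    rintro _ ⟨g, rfl⟩
    rw [Equiv.Perm.mem_alternatingGroup]
    rcases (inferInstance : (Equiv.Perm.sign.comp φ).ker.Normal).eq_bot_or_eq_top with e | e
    · exfalso
      have := Nat.card_le_card_of_injective _ ((MonoidHom.ker_eq_bot_iff _).1 e)
      rw [Nat.card_eq_fintype_card (α := ℤˣ), Fintype.card_units_int] at this
      omega
    · exact MonoidHom.mem_ker.1 (e ▸ Subgroup.mem_top g : g ∈ (Equiv.Perm.sign.comp φ).ker)
  have h1 := Subgroup.card_dvd_of_le hle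
  have h2 : Nat.card φ.range = Nat.card G := (Nat.card_congr (Equiv.ofInjective φ hinj)).symm
  haveI : Nontrivial (G ⧸ H) := by
    rw [← Finite.one_lt_card_iff_nontrivial, ← Subgroup.index_eq_card]
    have := Nat.pos_of_ne_zero H.index_ne_zero_of_finite
    have : H.index ≠ 1 := fun e => hH (Subgroup.index_eq_one.1 e)
    omega
  have h3 := Nat.mul_dvd_mul_left 2 (h2 ▸ h1)
  rw [Nat.card_eq_fintype_card (α := alternatingGroup (G ⧸ H)), two_mul_card_alternatingGroup,
    Fintype.card_perm, ← Nat.card_eq_fintype_card (α := G ⧸ H), ← Subgroup.index_eq_card] at h3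
  exact h3

theorem Setup.kill [IsSimpleGroup G] {x : G} (h : Setup x)
    (hG : Nat.card G = 240 ∨ Nat.card G = 1140) : False := by
  haveI : Fact (Nat.Prime 5) := ⟨by norm_num⟩
  obtain ⟨P⟩ : Nonempty (Sylow 5 G) := inferInstance
  obtain ⟨m, hm, hm5, hcase⟩ : ∃ m, Nat.card G = 5 ^ 1 * m ∧ ¬ 5 ∣ m ∧ (m = 48 ∨ m = 228) := by
    rcases hG with e | e
    · exact ⟨48, by rw [e]; norm_num, by norm_num, Or.inl rfl⟩
    · exact ⟨228, by rw [e]; norm_num, by norm_num, Or.inr rfl⟩
  have hP : Nat.card (P : Subgroup G) = 5 ^ 1 := SmallOrders.sylow_card_eq hm hm5 P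
  obtain ⟨h1, h2, h3⟩ := SmallOrders.sylow_number P hP one_pos hm (by omega)
  have hc := SmallOrders.card_normalizer P
  set n := Nat.card (Sylow 5 G) with hn
  set N := Subgroup.normalizer ((P : Subgroup G) : Set G)
  have h5 : ¬ 3 ∣ Nat.card N := h.not_dvd_normalizer (by rw [hP]; norm_num)
  by_cases hn6 : n = 6
  · have hH : N ≠ ⊤ := fun e => by
      have := Sylow.card_eq_index_normalizer P
      refine h3 (this.trans ?_)
      show N.index = 1
      rw [e, Subgroup.index_top]
    have := dvd_half_factorial hH (by omega)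
    have hidx : N.index = n := (Sylow.card_eq_index_normalizer P).symm
    rw [hidx, hn6, show Nat.factorial 6 = 720 from rfl] at this
    rcases hG with e | e <;> rw [e] at this <;> norm_num at this
  · refine h5 ?_
    have hnle : n ≤ m := Nat.le_of_dvd (by omega) h1
    rw [hm] at hc
    rcases hcase with rfl | rfl
    · have : n ∈ Finset.range 49 := Finset.mem_range.2 (by omega)
      have hlist : ∀ k ∈ Finset.range 49, k ∣ 48 → k % 5 = 1 → k = 1 ∨ k = 6 ∨ k = 16 := by decide +kernel
      rcases hlist n this h1 h2 with e | e | e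
      · exact absurd e h3
      · exact absurd e hn6
      · rw [e] at hc; omega
    · have : n ∈ Finset.range 229 := Finset.mem_range.2 (by omega)
      have hlist : ∀ k ∈ Finset.range 229, k ∣ 228 → k % 5 = 1 → k = 1 ∨ k = 6 ∨ k = 76 := by decide +kernel
      rcases hlist n this h1 h2 with e | e | e
      · exact absurd e h3
      · exact absurd e hn6
      · rw [e] at hc; omega

theorem Simp.four_dvd [IsSimpleGroup G] {x s : G} (h : Simp x s) : 4 ∣ Nat.card G := by
  haveI : Fact (Nat.Prime 2) := ⟨Nat.prime_two⟩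
  obtain ⟨P⟩ : Nonempty (Sylow 2 G) := inferInstance
  have h2 : 2 ∣ Nat.card G := h.s_order ▸ orderOf_dvd_natCard s
  have hc : Nat.card (P : Subgroup G) = 2 ^ (Nat.card G).factorization 2 := P.card_eq_multiplicity
  by_contra h4
  have hf : (Nat.card G).factorization 2 = 1 := by
    have l1 := Nat.Prime.factorization_pos_of_dvd Nat.prime_two Nat.card_pos.ne' h2
    by_contra hne
    exact h4 ((pow_dvd_pow 2 (show 2 ≤ (Nat.card G).factorization 2 by omega)).trans (Nat.ordProj_dvd _ 2))
  rw [hf, pow_one] at hc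
  refine SmallOrders.false_of_central P (show 1 < Nat.card (P : Subgroup G) by omega) ?_ ?_
  · show Nat.card (P : Subgroup G) < _
    have h3 := h.three_dvd
    have := Nat.card_pos (α := G)
    omega
  · exact SmallOrders.normalizer_le_centralizer _ Nat.prime_two hc (Nat.coprime_one_right _)

/-- The orders. -/
theorem orders [IsSimpleGroup G] {x : G} (hx : Setup x) (hna : ∃ a b : G, a * b ≠ b * a)
    (hloc : ∀ s : G, s * x * s⁻¹ = x⁻¹ → ∀ D : Subgroup G, Sig x D → D ≠ ⊥ →
      ∃ N, LocI x s (Subgroup.normalizer (D : Set G)) N ∨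
        LocII x s (Subgroup.normalizer (D : Set G)) N) :
    Nat.card G = 60 ∨ Nat.card G = 168 := by
  classical
  obtain ⟨s, hs⟩ := hx.inverter_exists hna
  have h : Ctx x s := ⟨⟨hx, hs, hna⟩, hloc s hs⟩
  have hS := h.toSimp
  obtain ⟨f, hf0, hf1, hf2, hf3, ⟨D⟩⟩ := hS.exists_data
  have hss : s * s = 1 := by rw [← pow_two]; exact hS.s_sq
  have hsi : s⁻¹ = s := inv_eq_of_mul_eq_one_right hss
  have hsx : s * x * s = x⁻¹ := by have := hs; rwa [hsi] at this
  have inv_conj : ∀ a : G, a * x * a⁻¹ = x⁻¹ → IsConj s a := fun a ha => by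
    have hm := hx.inverter_mem hs ha
    have c1 : x * s * x⁻¹ = s * x := by
      have e : x * s = s * x⁻¹ := by
        calc x * s = (s * s) * (x * s) := by rw [hss, one_mul]
          _ = s * (s * x * s) := by group
          _ = s * x⁻¹ := by rw [hsx]
      rw [e, mul_assoc, ← pow_two x⁻¹, inv_pow, ← hx.inv_eq, inv_inv]
    have c2 : x⁻¹ * s * x = s * x ^ 2 := by
      have e : x⁻¹ * s = s * x := by
        calc x⁻¹ * s = (s * x * s) * s := by rw [hsx]
          _ = s * x * (s * s) := by group
          _ = s * x := by rw [hss, mul_one]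
      rw [e, pow_two, mul_assoc]
    rcases (mem_X_iff hx.pow_three).1 hm with e | e | e
    · rw [inv_mul_eq_one] at e; rw [← e]
    · rw [inv_mul_eq_iff_eq_mul] at e
      exact isConj_iff.2 ⟨x, by rw [c1, e]⟩
    · rw [inv_mul_eq_iff_eq_mul] at e
      exact isConj_iff.2 ⟨x⁻¹, by rw [inv_inv, c2, e]⟩
  have pair_inv : ∀ u a b : G, u ^ 2 = 1 → IsConj u a → IsConj u b → a * b = x → a * x * a⁻¹ = x⁻¹ := by
    intro u a b hu ha hb hab
    have ha2 : a * a = 1 := by
      obtain ⟨g, rfl⟩ := isConj_iff.1 ha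
      rw [← pow_two, conj_pow, hu, mul_one, mul_inv_cancel]
    have hb2 : b * b = 1 := by
      obtain ⟨g, rfl⟩ := isConj_iff.1 hb
      rw [← pow_two, conj_pow, hu, mul_one, mul_inv_cancel]
    rw [← hab, mul_inv_rev, inv_eq_of_mul_eq_one_right ha2, inv_eq_of_mul_eq_one_right hb2, ← mul_assoc,
      ha2, one_mul]
  have hinv : ∀ u : G, orderOf u = 2 → IsConj s u := by
    intro u hu
    have hu2 : u ^ 2 = 1 := hu ▸ pow_orderOf_eq_one u
    have hu1 : u ≠ 1 := fun e => by rw [e, orderOf_one] at hu; omega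
    by_contra hnc
    obtain ⟨t, hta, htb, -, htf, -, -⟩ := D.exists_tau hS hu2 hu1
    have hp := D.pairs_invol hS hf0 hf1 hta htb
    haveI : IsEmpty {p : G × G // IsConj u p.1 ∧ IsConj u p.2 ∧ p.1 * p.2 = x} :=
      ⟨fun p => hnc ((inv_conj _ (pair_inv u _ _ hu2 p.2.1 p.2.2.1 p.2.2.2)).trans p.2.1.symm)⟩
    rw [Nat.card_of_isEmpty, Nat.cast_zero, zero_mul, zero_mul] at hp
    rcases mul_eq_zero.1 hp.symm with e | e
    · exact Nat.card_pos.ne' (by exact_mod_cast e : Nat.card G = 0)
    · have : f = t := sub_eq_zero.1 (pow_eq_zero_iff two_ne_zero |>.1 e)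
      omega
  obtain ⟨t, hta, htb, hpar, htf, htf', hct⟩ := D.exists_tau hS hS.s_sq hS.s_ne
  have hp := D.pairs_invol hS hf0 hf1 hta htb
  have h3 : Nat.card {p : G × G // IsConj s p.1 ∧ IsConj s p.2 ∧ p.1 * p.2 = x} = 3 := by
    rw [← hx.card_X]
    have hinvy : ∀ y ∈ Subgroup.zpowers x, (s * y) * x * (s * y)⁻¹ = x⁻¹ := fun y hy => by
      have hc := (hx.comm_of_mem hy).eq
      calc s * y * x * (s * y)⁻¹ = s * (y * x * y⁻¹) * s⁻¹ := by group
        _ = x⁻¹ := by rw [hc, mul_inv_cancel_right, hs]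
    refine (Nat.card_congr
      { toFun := fun y => ⟨(s * (y : G), s * ((y : G) * x)), inv_conj _ (hinvy y y.2), inv_conj _
          (hinvy _ (mul_mem y.2 (Subgroup.mem_zpowers x))), by
            have h1 := hx.inverter_sq (hinvy y y.2)
            show s * (y : G) * (s * ((y : G) * x)) = x
            calc s * (y : G) * (s * ((y : G) * x)) = (s * y) * (s * y) * x := by group
              _ = x := by rw [← pow_two, h1, one_mul]⟩
        invFun := fun p => ⟨s⁻¹ * p.1.1, hx.inverter_mem hs
          (pair_inv s _ _ hS.s_sq p.2.1 p.2.2.1 p.2.2.2)⟩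
        left_inv := fun y => Subtype.ext (inv_mul_cancel_left s (y : G))
        right_inv := fun p => Subtype.ext (Prod.ext (mul_inv_cancel_left s _) ?_) }).symm
    show s * (s⁻¹ * p.1.1 * x) = p.1.2
    have ha : p.1.1 * p.1.1 = 1 := by
      rw [← pow_two]; exact hx.inverter_sq (pair_inv s _ _ hS.s_sq p.2.1 p.2.2.1 p.2.2.2)
    calc s * (s⁻¹ * p.1.1 * x) = p.1.1 * (p.1.1 * p.1.2) := by rw [p.2.2.2]; group
      _ = p.1.2 := by rw [← mul_assoc, ha, one_mul]
  rw [h3] at hp
  set c := Nat.card (Subgroup.centralizer ({s} : Set G)) with hc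
  have hscent : s ∈ Subgroup.centralizer ({s} : Set G) := Subgroup.mem_centralizer_singleton_iff.2 rfl
  have hc2 : c % 2 = 0 := by
    have := Subgroup.orderOf_dvd_natCard _ hscent
    rw [hS.s_order] at this
    omega
  have hc3 : c % 3 ≠ 0 := by
    haveI : Fact (Nat.Prime 3) := ⟨Nat.prime_three⟩
    intro hd
    obtain ⟨w, hw⟩ := exists_prime_orderOf_dvd_card' 3 (Nat.dvd_of_mod_eq_zero hd)
    have hw' : orderOf (w : G) = 3 := (Subgroup.orderOf_coe w).trans hw
    have hw1 : (w : G) ≠ 1 := fun e => by rw [e, orderOf_one] at hw'; omega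
    obtain ⟨g, hg⟩ := isConj_iff.1 (hS.conj_x (hw' ▸ pow_orderOf_eq_one _) hw1)
    have hcs : Commute (g⁻¹ * s * g) x := by
      have e : s * w = w * s := (Subgroup.mem_centralizer_singleton_iff.1 w.2).symm
      show g⁻¹ * s * g * x = x * (g⁻¹ * s * g)
      calc g⁻¹ * s * g * x = g⁻¹ * (s * (g * x * g⁻¹)) * g := by group
        _ = g⁻¹ * ((g * x * g⁻¹) * s) * g := by rw [hg, e]
        _ = _ := by group
    have hX := hx.cent _ hcs
    have ho : orderOf (g⁻¹ * s * g) = 2 := by
      have := orderOf_injective (MulAut.conj g⁻¹).toMonoidHom (MulAut.conj g⁻¹).injective s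
      simp only [MulEquiv.coe_toMonoidHom, MulAut.conj_apply, inv_inv] at this
      rw [this, hS.s_order]
    have := Subgroup.orderOf_dvd_natCard _ hX
    rw [ho, hx.card_X] at this
    omega
  obtain ⟨r, Ds, hrc, hDs, hcop, hSle⟩ := h.count hinv
  have hSv := D.card_sigSet hS hf0 hf1
  rcases Arith.orders f t c (Nat.card G) (sigSet x).ncard r Ds hc2 hc3 hct htf htf' D.mod_three hf2 hf3
    hpar (by push_cast at hp ⊢; linear_combination -hp) D.deg_bound hS.four_dvd (Subgroup.card_subgroup_dvd_card _)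
    hS.three_dvd hSv hrc hDs hcop hSle with e | e | e | e | e
  · exact Or.inl e
  · exact Or.inr e
  · exact (hx.kill (Or.inl e)).elim
  · exact (no_eight e).elim
  · exact (hx.kill (Or.inr e)).elim

end Cfsg.Agent.Solv.SelfThree
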